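import Mathlib.Data.Nat.Choose.Dvd
import Mathlib.GroupTheory.Frattini
import Mathlib.GroupTheory.Commutator.Basic
import Mathlib.GroupTheory.Sylow
import Mathlib.GroupTheory.PGroup
import Mathlib.GroupTheory.Nilpotent

/-!
# Coprime actions stabilising a chain (Bender–Glauberman, section 1)

* `commute_of_stab`: if `[a,x]` commutes with `a` and lies in a subgroup of order prime to the
  order of `a`, then `a` commutes with `x`.
* `mem_centralizer_of_stab_chain`: a coprime element stabilising a chain of `H` centralises `H`.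
* `le_centralizer_of_nilpotent_faithful`: `H` nilpotent, `C_H(C_H(A)) ≤ C_H(A)` and coprimality
  give `A ≤ C(H)`.
* `commute_of_fix_prime_order`: `p` odd; a `p'`-element normalising a `p`-subgroup and fixing
  all its elements of order `p` centralises it.
* `le_centralizer_of_fix_prime_order_in_centralizer`: the variant relative to a centralised `E`.
-/

namespace CfsgLib.OddOrder.Stab

open Subgroup
open scoped commutatorElement

variable {G : Type*} [Group G]

lemma mem_inv_conj {a x : G} {S : Subgroup G} (ha : a ∈ normalizer (S : Set G)) (hx : x ∈ S) :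
    a * x * a⁻¹ ∈ S :=
  (mem_normalizer_iff.mp ha x).mp hx

lemma commutator_pow_eq {a c x : G} (hc : Commute a c) (hx : a * x * a⁻¹ = c * x) (n : ℕ) :
    a ^ n * x * (a ^ n)⁻¹ = c ^ n * x := by
  induction n with
  | zero => simp
  | succ n ih =>
    calc a ^ (n + 1) * x * (a ^ (n + 1))⁻¹ = a * (a ^ n * x * (a ^ n)⁻¹) * a⁻¹ := by
          rw [pow_succ']; group
      _ = a * c ^ n * x * a⁻¹ := by rw [ih]; group
      _ = c ^ n * (a * x * a⁻¹) := by rw [(hc.pow_right n).eq]; group
      _ = c ^ (n + 1) * x := by rw [hx, pow_succ]; group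

/-- If the commutator of `a` and `x` commutes with `a` and has order prime to that of `a`,
then `a` and `x` commute. -/
theorem commute_of_stab {a x : G} (hc : Commute a ⁅a, x⁆)
    (hcop : (orderOf a).Coprime (orderOf ⁅a, x⁆)) : Commute a x := by
  have hx : a * x * a⁻¹ = ⁅a, x⁆ * x := by rw [commutatorElement_def]; group
  have h := commutator_pow_eq hc hx (orderOf a)
  rw [pow_orderOf_eq_one] at h
  have h1 : orderOf ⁅a, x⁆ ∣ orderOf a :=
    orderOf_dvd_of_pow_eq_one (by simpa using h.symm)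
  have h2 : ⁅a, x⁆ = 1 := orderOf_eq_one_iff.mp (Nat.eq_one_of_dvd_coprimes hcop h1 dvd_rfl)
  exact commutatorElement_eq_one_iff_commute.mp h2

theorem commute_of_stab_mem [Finite G] {a x : G} {H : Subgroup G} (hc : Commute a ⁅a, x⁆)
    (hmem : ⁅a, x⁆ ∈ H) (hcop : (orderOf a).Coprime (Nat.card H)) : Commute a x :=
  commute_of_stab hc (hcop.coprime_dvd_right (Subgroup.orderOf_dvd_natCard H hmem))

/-- An element whose order is prime to `|H|` and which stabilises a chain of subgroups of `H`
down to `⊥` centralises `H`. -/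
theorem mem_centralizer_of_stab_chain [Finite G] {H : Subgroup G} {a : G} (n : ℕ)
    (c : Fin (n + 1) → Subgroup G) (hle : ∀ i, c i ≤ H) (hc0 : c 0 = H)
    (hcn : c (Fin.last n) = ⊥) (hstab : ∀ i : Fin n, ∀ x ∈ c i.castSucc, ⁅a, x⁆ ∈ c i.succ)
    (hcop : (orderOf a).Coprime (Nat.card H)) : a ∈ centralizer (H : Set G) := by
  have key : ∀ i : Fin (n + 1), ∀ x ∈ c i, Commute a x := by
    intro i
    induction i using Fin.reverseInduction with
    | last => intro x hx; rw [hcn, mem_bot] at hx; subst hx; exact Commute.one_right a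
    | cast j ih =>
      intro x hx
      exact commute_of_stab_mem (ih _ (hstab j x hx)) (hle _ (hstab j x hx)) hcop
  intro x hx
  exact (key 0 x (by rw [hc0]; exact hx)).eq.symm

theorem coprime_orderOf_of_mem [Finite G] {A : Subgroup G} {a : G} {n : ℕ} (ha : a ∈ A)
    (h : (Nat.card A).Coprime n) : (orderOf a).Coprime n :=
  h.coprime_dvd_left (Subgroup.orderOf_dvd_natCard A ha)

/-- In a nilpotent subgroup proper subgroups grow in their normaliser. -/
theorem exists_mem_normalizer_not_mem [Finite G] {H C : Subgroup G} (hH : Group.IsNilpotent H)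
    (hle : C ≤ H) (hne : C ≠ H) : ∃ x ∈ H, x ∈ normalizer (C : Set G) ∧ x ∉ C := by
  haveI := hH
  have hlt : C.subgroupOf H < ⊤ := by
    refine lt_top_iff_ne_top.mpr fun h => hne (le_antisymm hle ?_)
    exact subgroupOf_eq_top.mp h
  obtain ⟨x, hxn, hxnot⟩ := SetLike.exists_of_lt (Group.normalizerCondition_of_isNilpotent _ hlt)
  refine ⟨x, x.2, ?_, fun h => hxnot h⟩
  rw [mem_normalizer_iff]
  intro y
  constructor
  · intro hy
    have h := (mem_normalizer_iff.mp hxn (⟨y, hle hy⟩ : H)).mp hy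
    simpa [mem_subgroupOf] using h
  · intro hy
    have hyH : y ∈ H := by
      have h : (x : G)⁻¹ * (x * y * (x : G)⁻¹) * x ∈ H :=
        H.mul_mem (H.mul_mem (H.inv_mem x.2) (hle hy)) x.2
      simpa [mul_assoc] using h
    have h := (mem_normalizer_iff.mp hxn (⟨y, hyH⟩ : H)).mpr (by simpa [mem_subgroupOf] using hy)
    simpa [mem_subgroupOf] using h

/-- If `H` is nilpotent, `A` acts coprimely and `C_H(C_H(A)) ≤ C_H(A)`, then `A` centralises `H`. -/
theorem le_centralizer_of_nilpotent_faithful [Finite G] {H A : Subgroup G}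
    (hH : Group.IsNilpotent H) (hA : A ≤ normalizer (H : Set G))
    (hcop : (Nat.card A).Coprime (Nat.card H))
    (hC : H ⊓ centralizer ((H ⊓ centralizer (A : Set G) : Subgroup G) : Set G)
      ≤ H ⊓ centralizer (A : Set G)) : A ≤ centralizer (H : Set G) := by
  set C := H ⊓ centralizer (A : Set G) with hCdef
  suffices h : C = H by
    rw [le_centralizer_iff]
    exact fun x hx => (h.ge hx).2
  by_contra hne
  obtain ⟨x, hxH, hxN, hxC⟩ := exists_mem_normalizer_not_mem hH inf_le_left hne
  apply hxC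
  refine ⟨hxH, fun a ha => ?_⟩
  have hcen : ∀ c ∈ C, a * c = c * a := fun c hc => mem_centralizer_iff.mp hc.2 a ha
  have hax : ⁅a, x⁆ ∈ H := by
    rw [commutatorElement_def]
    exact H.mul_mem (mem_inv_conj (hA ha) hxH) (H.inv_mem hxH)
  refine (commute_of_stab_mem ?_ hax (coprime_orderOf_of_mem ha hcop)).eq
  have hmem : ⁅a, x⁆ ∈ C := by
    refine hC ⟨hax, fun c hc => ?_⟩
    have h1 : a * c = c * a := hcen c hc
    have h2 : x⁻¹ * c * x ∈ C := by
      have := mem_inv_conj (inv_mem hxN) hc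
      rwa [inv_inv] at this
    have h3 := hcen _ h2
    show c * ⁅a, x⁆ = ⁅a, x⁆ * c
    rw [commutatorElement_def]
    calc c * (a * x * a⁻¹ * x⁻¹) = a * (x * (x⁻¹ * c * x)) * a⁻¹ * x⁻¹ := by
          rw [show c * (a * x * a⁻¹ * x⁻¹) = (c * a) * x * a⁻¹ * x⁻¹ by group, ← h1]
          group
      _ = a * x * (a⁻¹ * (a * (x⁻¹ * c * x))) * a⁻¹ * x⁻¹ := by group
      _ = a * x * (a⁻¹ * ((x⁻¹ * c * x) * a)) * a⁻¹ * x⁻¹ := by rw [h3]
      _ = a * x * a⁻¹ * x⁻¹ * c := by group
  exact hcen _ hmem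

lemma commutatorElement_pow_left {x y : G} (h : Commute x ⁅x, y⁆) (n : ℕ) :
    ⁅x ^ n, y⁆ = ⁅x, y⁆ ^ n := by
  have hx : x * y * x⁻¹ = ⁅x, y⁆ * y := by rw [commutatorElement_def]; group
  rw [commutatorElement_def (x ^ n), commutator_pow_eq h hx n]
  group

lemma mul_pow_of_commutator_central {x y : G} (h : ∀ z, Commute ⁅y, x⁆ z) (n : ℕ) :
    (x * y) ^ n = x ^ n * y ^ n * ⁅y, x⁆ ^ n.choose 2 := by
  have hcx : y * x * y⁻¹ = ⁅y, x⁆ * x := by rw [commutatorElement_def]; group
  induction n with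
  | zero => simp
  | succ n ih =>
    have hyn : y ^ n * x = ⁅y, x⁆ ^ n * x * y ^ n := by
      have := commutator_pow_eq (h y).symm hcx n
      rw [← this]; group
    have hk : ∀ (k : ℕ) (z : G), z * ⁅y, x⁆ ^ k = ⁅y, x⁆ ^ k * z :=
      fun k z => ((h z).pow_left k).eq.symm
    have hc : (n + 1).choose 2 = n.choose 2 + n := by
      rw [Nat.choose_succ_succ', Nat.choose_one_right]; ring
    calc (x * y) ^ (n + 1) = x ^ n * y ^ n * (⁅y, x⁆ ^ n.choose 2 * (x * y)) := by
          rw [pow_succ, ih]; group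
      _ = x ^ n * (y ^ n * x) * y * ⁅y, x⁆ ^ n.choose 2 := by
          rw [← hk (n.choose 2) (x * y)]; group
      _ = x ^ n * (⁅y, x⁆ ^ n * (x * y ^ n * y)) * ⁅y, x⁆ ^ n.choose 2 := by rw [hyn]; group
      _ = x ^ n * (x * y ^ n * y) * (⁅y, x⁆ ^ n * ⁅y, x⁆ ^ n.choose 2) := by
          rw [← hk n (x * y ^ n * y)]; group
      _ = x ^ (n + 1) * y ^ (n + 1) * ⁅y, x⁆ ^ (n + 1).choose 2 := by
          rw [hc, ← pow_add, add_comm n (n.choose 2), pow_succ, pow_succ]; group

/-- In a nontrivial finite `p`-group the Frattini subgroup is proper and contains commutators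
and `p`-th powers. -/
theorem frattini_facts {p : ℕ} [Fact p.Prime] {P : Type*} [Group P] [Finite P]
    (hP : IsPGroup p P) :
    (∀ x y : P, ⁅x, y⁆ ∈ frattini P) ∧ (∀ x : P, x ^ p ∈ frattini P) ∧
      (Nontrivial P → frattini P ≠ ⊤) := by
  haveI := hP.isNilpotent
  have hmax : ∀ M : Subgroup P, IsCoatom M → M.Normal ∧ M.index = p := by
    intro M hM
    have hn : M.Normal := NormalizerCondition.normal_of_coatom M Group.normalizerCondition_of_isNilpotent hM
    refine ⟨hn, ?_⟩
    haveI := hn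
    obtain ⟨k, hk⟩ := hP.index M
    have hs : ∀ Q : Subgroup (P ⧸ M), Q = ⊥ ∨ Q = ⊤ := by
      intro Q
      rcases hM.le_iff.mp (QuotientGroup.le_comap_mk' M Q) with h | h
      · exact Or.inr (comap_injective (QuotientGroup.mk'_surjective M) (h.trans (comap_top _).symm))
      · refine Or.inl (comap_injective (QuotientGroup.mk'_surjective M) ?_)
        rw [h, MonoidHom.comap_bot, QuotientGroup.ker_mk']
    have hne : M.index ≠ 1 := fun h => hM.1 (index_eq_one.mp h)
    have hdvd : p ∣ Nat.card (P ⧸ M) := by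
      rw [← index_eq_card, hk]
      exact dvd_pow_self p (by rintro rfl; simp_all)
    obtain ⟨g, hg⟩ := exists_prime_orderOf_dvd_card' p hdvd
    rcases hs (zpowers g) with h | h
    · have : g = 1 := zpowers_eq_bot.mp h
      subst this
      rw [orderOf_one] at hg
      exact absurd hg.symm (Fact.out : p.Prime).one_lt.ne'
    · rw [index_eq_card, ← card_top (G := P ⧸ M), ← h, Nat.card_zpowers, hg]
  refine ⟨fun x y => ?_, fun x => ?_, fun hnt htop => ?_⟩
  · simp only [frattini, Order.radical, mem_iInf]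
    intro M hM
    obtain ⟨hn, hi⟩ := hmax M hM
    haveI := hn
    haveI : IsCyclic (P ⧸ M) := isCyclic_of_prime_card (p := p) ((index_eq_card M).symm.trans hi)
    have := (Subgroup.Normal.quotient_commutative_iff_commutator_le (N := M)).mp inferInstance
    exact this (commutator_mem_commutator (mem_top x) (mem_top y))
  · simp only [frattini, Order.radical, mem_iInf]
    intro M hM
    obtain ⟨hn, hi⟩ := hmax M hM
    haveI := hn
    rw [← hi]
    exact pow_index_mem M x
  · have : (⊥ : Subgroup P) = ⊤ := frattini_nongenerating (by rw [htop, bot_sup_eq])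
    exact bot_ne_top this

lemma map_subtype_conj_mem {S : Subgroup G} (T : Subgroup S) [hT : T.Characteristic] {a : G}
    (ha : a ∈ normalizer (S : Set G)) {x : G} (hx : x ∈ T.map S.subtype) :
    a * x * a⁻¹ ∈ T.map S.subtype := by
  obtain ⟨y, hy, rfl⟩ := hx
  let φ : S ≃* S :=
    { toFun := fun z => ⟨a * z * a⁻¹, mem_inv_conj ha z.2⟩
      invFun := fun z => ⟨a⁻¹ * z * a, by simpa using mem_inv_conj (inv_mem ha) z.2⟩
      left_inv := fun z => by ext; simp [mul_assoc]
      right_inv := fun z => by ext; simp [mul_assoc]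
      map_mul' := fun z w => by ext; simp [mul_assoc] }
  exact ⟨φ y, characteristic_iff_le_comap.mp hT φ hy, rfl⟩

/-- `p` odd: a `p'`-element which normalises the `p`-group `P` and commutes with all its elements
of order dividing `p` centralises `P`. -/
theorem commute_of_fix_prime_order [Finite G] {p : ℕ} [Fact p.Prime] (hp : p ≠ 2) {a : G}
    {P : Subgroup G} (hP : IsPGroup p P) (hcop : (orderOf a).Coprime p)
    (ha : a ∈ normalizer (P : Set G)) (hfix : ∀ x ∈ P, x ^ p = 1 → Commute a x) :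
    ∀ x ∈ P, Commute a x := by
  induction P using WellFoundedLT.induction with
  | _ P ih =>
  rcases subsingleton_or_nontrivial P with hs | hnt
  · intro x hx
    have : (⟨x, hx⟩ : P) = 1 := Subsingleton.elim _ _
    rw [show x = 1 from congrArg Subtype.val this]
    exact Commute.one_right a
  obtain ⟨hfc, hfp, hfne⟩ := frattini_facts hP
  set F : Subgroup G := (frattini P).map P.subtype with hF
  have hFP : F < P := by
    refine lt_of_le_of_ne (map_subtype_le _) fun h => hfne hnt ?_
    apply map_injective P.subtype_injective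
    rw [← hF, h, ← MonoidHom.range_eq_map, range_subtype]
  have haF : a ∈ normalizer (F : Set G) := by
    rw [mem_normalizer_iff]
    intro z
    refine ⟨map_subtype_conj_mem _ ha, fun hz => ?_⟩
    have := map_subtype_conj_mem _ (inv_mem ha) hz
    rwa [show a⁻¹ * (a * z * a⁻¹) * a⁻¹⁻¹ = z by group] at this
  have hFa : ∀ x ∈ F, Commute a x := ih F hFP (hP.to_le hFP.le) haF
    fun x hx h => hfix x (hFP.le hx) h
  have hcopP : (orderOf a).Coprime (Nat.card P) := by
    obtain ⟨k, hk⟩ := IsPGroup.iff_card.mp hP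
    rw [hk]
    exact hcop.pow_right k
  set D : Subgroup G := P ⊓ centralizer (F : Set G) with hD
  have haD : a ∈ normalizer (D : Set G) := by
    rw [mem_normalizer_iff]
    intro z
    have hnP := mem_normalizer_iff.mp ha z
    constructor
    · rintro ⟨hz, hzc⟩
      refine ⟨hnP.mp hz, fun f hf => ?_⟩
      have h1 : a * f = f * a := (hFa f hf).eq
      have h2 : f * z = z * f := mem_centralizer_iff.mp hzc f hf
      calc f * (a * z * a⁻¹) = a * (f * z) * a⁻¹ := by
            rw [← mul_assoc, ← mul_assoc, ← h1]; group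
        _ = a * z * (a⁻¹ * (a * f)) * a⁻¹ := by rw [h2]; group
        _ = a * z * a⁻¹ * f := by rw [h1]; group
    · rintro ⟨hz, hzc⟩
      refine ⟨hnP.mpr hz, fun f hf => ?_⟩
      have h1 : a * f = f * a := (hFa f hf).eq
      have h2 : f * (a * z * a⁻¹) = a * z * a⁻¹ * f := mem_centralizer_iff.mp hzc f hf
      calc f * z = a⁻¹ * (a * f) * z := by group
        _ = a⁻¹ * (f * (a * z * a⁻¹)) * a := by rw [h1]; group
        _ = z * (a⁻¹ * (f * a)) := by
            rw [h2, show a⁻¹ * (a * z * a⁻¹ * f) * a = z * (a⁻¹ * (f * a)) by group]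
        _ = z * f := by rw [← h1]; group
  -- the commutator with `a` of an element of `P` centralises `F`
  have hcomm : ∀ x ∈ P, ⁅a, x⁆ ∈ D := by
    intro x hx
    refine ⟨?_, fun f hf => ?_⟩
    · rw [commutatorElement_def]
      exact P.mul_mem (mem_inv_conj ha hx) (P.inv_mem hx)
    · have h1 : a * f = f * a := (hFa f hf).eq
      have hconj : x⁻¹ * f * x ∈ F := by
        obtain ⟨y, hy, rfl⟩ := hf
        exact ⟨(⟨x, hx⟩ : P)⁻¹ * y * ⟨x, hx⟩,
          by simpa using (inferInstance : (frattini P).Normal).conj_mem y hy (⟨x, hx⟩ : P)⁻¹, rfl⟩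
      have h3 : a * (x⁻¹ * f * x) = x⁻¹ * f * x * a := (hFa _ hconj).eq
      rw [commutatorElement_def]
      calc f * (a * x * a⁻¹ * x⁻¹) = a * (x * (x⁻¹ * f * x)) * a⁻¹ * x⁻¹ := by
            rw [show f * (a * x * a⁻¹ * x⁻¹) = f * a * x * a⁻¹ * x⁻¹ by group, ← h1]; group
        _ = a * x * (a⁻¹ * (a * (x⁻¹ * f * x))) * a⁻¹ * x⁻¹ := by group
        _ = a * x * a⁻¹ * x⁻¹ * f := by rw [h3]; group
  rcases lt_or_eq_of_le (inf_le_left : D ≤ P) with hlt | heq
  · have hDa : ∀ x ∈ D, Commute a x := ih D hlt (hP.to_le inf_le_left) haD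
      fun x hx h => hfix x hx.1 h
    exact fun x hx => commute_of_stab_mem (hDa _ (hcomm x hx)) (hcomm x hx).1 hcopP
  · intro x hx
    have hcen : ∀ f ∈ F, ∀ z ∈ P, f * z = z * f := fun f hf z hz =>
      mem_centralizer_iff.mp (heq.ge hz).2 f hf
    have hFmem : ∀ z ∈ P, ∀ w ∈ P, ⁅z, w⁆ ∈ F := fun z hz w hw =>
      ⟨⁅(⟨z, hz⟩ : P), ⟨w, hw⟩⁆, hfc _ _, rfl⟩
    have hpow : ∀ z ∈ P, z ^ p ∈ F := fun z hz => ⟨(⟨z, hz⟩ : P) ^ p, hfp _, rfl⟩
    set c := ⁅a, x⁆
    have hcP : c ∈ P := (hcomm x hx).1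
    have hxc : a * x * a⁻¹ = c * x := by
      show _ = ⁅a, x⁆ * x
      rw [commutatorElement_def]; group
    -- the commutator of `x` and `c` is central in `P` of order dividing `p`
    have hce : ∀ z ∈ P, Commute ⁅x, c⁆ z := fun z hz => hcen _ (hFmem x hx c hcP) z hz
    have hcpow : ⁅x, c⁆ ^ p = 1 := by
      rw [← commutatorElement_pow_left (hce x hx).symm, commutatorElement_eq_one_iff_mul_comm]
      exact hcen _ (hpow x hx) c hcP
    have hchoose : p ∣ p.choose 2 := by
      refine Nat.Prime.dvd_choose_self Fact.out (by norm_num) ?_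
      exact lt_of_le_of_ne (Fact.out : p.Prime).two_le (Ne.symm hp)
    have hmul : (c * x) ^ p = c ^ p * x ^ p := by
      have h := mul_pow_of_commutator_central (x := (⟨c, hcP⟩ : P)) (y := ⟨x, hx⟩)
        (fun z => Subtype.ext (hce z z.2)) p
      have h' : (c * x) ^ p = c ^ p * x ^ p * ⁅x, c⁆ ^ p.choose 2 := congrArg Subtype.val h
      obtain ⟨k, hk⟩ := hchoose
      have hk' : ⁅x, c⁆ ^ p.choose 2 = 1 := by rw [hk, pow_mul, hcpow, one_pow]
      simpa [hk'] using h'
    have hcp : c ^ p = 1 := by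
      have h1 : (c * x) ^ p = x ^ p := by
        rw [← hxc, conj_pow, (hFa _ (hpow x hx)).eq, mul_inv_cancel_right]
      rw [hmul] at h1
      exact mul_eq_right.mp h1
    exact commute_of_stab_mem (hfix c hcP hcp) hcP hcopP

/-- `p` odd, `E ≤ P` commutative, `A` of order prime to `p` fixing every element of order dividing
`p` of `C_P(E)`; then `A` centralises the `p`-group `P`. -/
theorem le_centralizer_of_fix_prime_order_in_centralizer [Finite G] {p : ℕ} [Fact p.Prime]
    (hp : p ≠ 2) {P E A : Subgroup G} (hP : IsPGroup p P) (hE : E ≤ P)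
    (hEab : IsMulCommutative E) (hEp : ∀ e ∈ E, e ^ p = 1)
    (hA : A ≤ normalizer (P : Set G)) (hcop : (Nat.card A).Coprime p)
    (hfix : ∀ x ∈ P ⊓ centralizer (E : Set G), x ^ p = 1 → A ≤ centralizer {x}) :
    A ≤ centralizer (P : Set G) := by
  have hEc : E ≤ centralizer (E : Set G) := le_centralizer_iff_isMulCommutative.mpr hEab
  have hEA : ∀ e ∈ E, ∀ a ∈ A, a * e = e * a := fun e he a ha =>
    (mem_centralizer_singleton_iff.mp (hfix e ⟨hE he, hEc he⟩ (hEp e he) ha))
  set D := P ⊓ centralizer (E : Set G)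
  have hconj : ∀ a ∈ A, ∀ z ∈ D, a * z * a⁻¹ ∈ D := by
    rintro a ha z ⟨hzP, hzc⟩
    refine ⟨mem_inv_conj (hA ha) hzP, fun e he => ?_⟩
    have h1 := hEA e he a ha
    have h2 : e * z = z * e := mem_centralizer_iff.mp hzc e he
    calc e * (a * z * a⁻¹) = a * (e * z) * a⁻¹ := by
          rw [← mul_assoc, ← mul_assoc, ← h1]; group
      _ = a * z * (a⁻¹ * (a * e)) * a⁻¹ := by rw [h2]; group
      _ = a * z * a⁻¹ * e := by rw [h1]; group
  have hAD : A ≤ normalizer (D : Set G) := fun a ha => mem_normalizer_iff.mpr fun z =>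
    ⟨hconj a ha z, fun h => by simpa [mul_assoc] using hconj a⁻¹ (inv_mem ha) _ h⟩
  have hDA : D ≤ centralizer (A : Set G) := fun x hx a ha =>
    (commute_of_fix_prime_order hp (hP.to_le inf_le_left) (coprime_orderOf_of_mem ha hcop)
      (hAD ha) (fun y hy h => (mem_centralizer_singleton_iff.mp (hfix y hy h ha))) x hx).eq
  obtain ⟨k, hk⟩ := IsPGroup.iff_card.mp hP
  refine le_centralizer_of_nilpotent_faithful hP.isNilpotent hA (hk ▸ hcop.pow_right k) ?_
  rintro x ⟨hxP, hxc⟩
  refine ⟨hxP, hDA ⟨hxP, fun e he => hxc e ⟨hE he, fun a ha => hEA e he a ha⟩⟩⟩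

end CfsgLib.OddOrder.Stab
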