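import Cfsg.Prelude.Def_OddOrderLocal
import Mathlib.GroupTheory.QuotientGroup.Basic
import Mathlib.GroupTheory.Index
import Mathlib.Algebra.Group.Subgroup.Pointwise
import Mathlib.Tactic

/-!
Elementary consequences of the definition of a subgroup of type P: cardinality of complements,
`M_F` is a Hall subgroup, and the part of `F(M)` in a complement `U`.
-/

set_option autoImplicit false

namespace CfsgLib.OddOrder

open Subgroup Cfsg

variable {G : Type*} [Group G]

theorem compl_card {A B M : Subgroup G} (h : Cfsg.IsComplIn A B M) :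
    Nat.card A * Nat.card B = Nat.card M := by
  obtain ⟨hA, hB, hI, hM⟩ := h
  rw [← Nat.card_prod]
  refine Nat.card_eq_of_bijective
    (fun z : A × B => (⟨(z.1 : G) * z.2, mul_mem (hA z.1.2) (hB z.2.2)⟩ : M)) ⟨?_, ?_⟩
  · intro x y hxy
    have : ((fun z : A × B => (z.1 : G) * z.2) x) = (fun z : A × B => (z.1 : G) * z.2) y := by
      simpa using congrArg Subtype.val hxy
    exact Subgroup.mul_injective_of_disjoint (disjoint_iff.2 hI) this
  · rintro ⟨m, hm⟩
    obtain ⟨a, ha, b, hb, rfl⟩ := hM m hm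
    exact ⟨(⟨a, ha⟩, ⟨b, hb⟩), rfl⟩

theorem card_sup_dvd_mul (H K : Subgroup G) [H.Normal] :
    Nat.card ↥(H ⊔ K) ∣ Nat.card H * Nat.card K := by
  have h1 : H.relIndex (K ⊔ H) = H.relIndex K := Subgroup.relIndex_sup_right K H
  have h2 : (⊥ : Subgroup G).relIndex H * H.relIndex (K ⊔ H) = (⊥ : Subgroup G).relIndex (K ⊔ H) :=
    Subgroup.relIndex_mul_relIndex _ _ _ bot_le le_sup_right
  rw [Subgroup.relIndex_bot_left, Subgroup.relIndex_bot_left, h1] at h2
  rw [sup_comm, ← h2]
  exact mul_dvd_mul_left _ (H.relIndex_dvd_card K)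

theorem coprime_index_sup [Finite G] {A B : Subgroup G} [A.Normal] [B.Normal]
    (hA : (Nat.card A).Coprime A.index) (hB : (Nat.card B).Coprime B.index) :
    (Nat.card ↥(A ⊔ B)).Coprime (A ⊔ B).index := by
  have hA' := hA.coprime_dvd_right (Subgroup.index_dvd_of_le (le_sup_left : A ≤ A ⊔ B))
  have hB' := hB.coprime_dvd_right (Subgroup.index_dvd_of_le (le_sup_right : B ≤ A ⊔ B))
  exact (Nat.Coprime.mul_left hA' hB').coprime_dvd_left (card_sup_dvd_mul A B)

theorem fittingHall_coprime_index (M : Type*) [Group M] [Finite M] :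
    (Nat.card (Cfsg.fittingHall M)).Coprime (Cfsg.fittingHall M).index := by
  unfold Cfsg.fittingHall
  set S := {N : Subgroup M | N.Normal ∧ Group.IsNilpotent N ∧ (Nat.card N).Coprime N.index} with hS
  suffices h : ∀ T : Set (Subgroup M), T.Finite → T ⊆ S →
      (sSup T).Normal ∧ (Nat.card ↥(sSup T)).Coprime (sSup T).index from
    (h S (Set.toFinite _) subset_rfl).2
  intro T hT
  induction T, hT using Set.Finite.induction_on with
  | empty =>
      intro _
      rw [sSup_empty]
      exact ⟨inferInstance, by simp⟩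
  | @insert a s _ _ ih =>
      intro hsub
      obtain ⟨hn, hc⟩ := ih ((Set.subset_insert _ _).trans hsub)
      obtain ⟨han, -, hac⟩ := hsub (Set.mem_insert _ _)
      rw [sSup_insert]
      have := han
      have := hn
      exact ⟨inferInstance, coprime_index_sup hac hc⟩

theorem le_fittingHallOf {M N : Subgroup G} (hNM : N ≤ M) (hn : M ≤ Subgroup.normalizer (N : Set G))
    (hnil : Group.IsNilpotent N) (hcop : (Nat.card N).Coprime (N.relIndex M)) :
    N ≤ Cfsg.fittingHallOf M := by
  have e := Subgroup.subgroupOfEquivOfLe hNM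
  have h1 : N.subgroupOf M ≤ Cfsg.fittingHall M := by
    refine le_sSup ⟨Subgroup.normal_subgroupOf_iff_le_normalizer hNM |>.2 hn, ?_, ?_⟩
    · have := hnil
      exact Group.nilpotent_of_mulEquiv e.symm
    · rw [Nat.card_congr e.toEquiv]
      exact hcop
  intro x hx
  exact ⟨⟨x, hNM hx⟩, h1 (by simpa [Subgroup.mem_subgroupOf] using hx), rfl⟩

theorem fittingHallOf_le (M : Subgroup G) : Cfsg.fittingHallOf M ≤ M :=
  Subgroup.map_subtype_le _

theorem le_normalizer_fittingHallOf (M : Subgroup G) :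
    M ≤ Subgroup.normalizer (Cfsg.fittingHallOf M : Set G) := by
  rw [← Subgroup.normal_subgroupOf_iff_le_normalizer (fittingHallOf_le M)]
  rw [Cfsg.fittingHallOf, Subgroup.subgroupOf, Subgroup.comap_map_eq_self_of_injective M.subtype_injective]
  exact Cfsg.fittingHall_normal M

/-- A complement in a subgroup of `M` to `M_F` has order coprime to that of `M_F`. -/
theorem card_coprime_fittingHallOf [Finite G] {M U : Subgroup G} (hUM : U ≤ M)
    (hI : Cfsg.fittingHallOf M ⊓ U = ⊥) :
    (Nat.card (Cfsg.fittingHallOf M)).Coprime (Nat.card U) := by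
  have h := fittingHall_coprime_index M
  have hc : Nat.card (Cfsg.fittingHallOf M) = Nat.card (Cfsg.fittingHall M) :=
    Subgroup.card_map_of_injective M.subtype_injective
  rw [hc]
  refine h.coprime_dvd_right ?_
  have hU : Nat.card (U.subgroupOf M) = Nat.card U :=
    Nat.card_congr (Subgroup.subgroupOfEquivOfLe hUM).toEquiv
  have hbot : (Cfsg.fittingHall M) ⊓ U.subgroupOf M = ⊥ := by
    rw [eq_bot_iff]
    intro x hx
    have : (x : G) ∈ Cfsg.fittingHallOf M ⊓ U := ⟨⟨x, hx.1, rfl⟩, hx.2⟩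
    rw [hI, Subgroup.mem_bot] at this
    exact Subgroup.mem_bot.2 (Subtype.ext this)
  have hr : (Cfsg.fittingHall M).relIndex (U.subgroupOf M) = Nat.card U := by
    rw [← Subgroup.inf_relIndex_right, hbot, Subgroup.relIndex_bot_left, hU]
  rw [← hr]
  exact Subgroup.relIndex_dvd_index_of_normal _ _

/-- If `u = h * c` with `h ∈ H`, `c` centralizing `H` and the order of `u` coprime to `#H`,
then `u` centralizes `H`. -/
theorem mem_centralizer_of_coprime [Finite G] {H : Subgroup G} {h c : G} (hh : h ∈ H)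
    (hc : c ∈ Subgroup.centralizer (H : Set G)) (hco : (Nat.card H).Coprime (orderOf (h * c))) :
    h * c ∈ Subgroup.centralizer (H : Set G) := by
  refine mul_mem ?_ hc
  have hcom : Commute h c := hc h hh
  set n := orderOf (h * c)
  have h1 : h ^ n * c ^ n = 1 := by rw [← hcom.mul_pow, pow_orderOf_eq_one]
  have h2 : h ^ n ∈ Subgroup.centralizer (H : Set G) := by
    rw [eq_inv_of_mul_eq_one_left h1]
    exact inv_mem (pow_mem hc n)
  have hd : orderOf h ∣ Nat.card H := by
    have := orderOf_dvd_natCard (⟨h, hh⟩ : H)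
    rwa [Subgroup.orderOf_mk] at this
  obtain ⟨m, hm⟩ := exists_pow_eq_self_of_coprime (hco.coprime_dvd_left hd).symm
  rw [← hm]
  exact pow_mem h2 m

theorem eq_of_card_eq_of_isCyclic {C : Type*} [Group C] [Finite C] [IsCyclic C] {H K : Subgroup C}
    (h : Nat.card H = Nat.card K) : H = K := by
  let _ : CommGroup C := IsCyclic.commGroup
  have key : ∀ L : Subgroup C, L = (powMonoidHom (Nat.card L) : C →* C).ker := by
    intro L
    refine Subgroup.eq_of_le_of_card_ge (fun x hx => ?_) ?_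
    · rw [MonoidHom.mem_ker, powMonoidHom_apply]
      exact congrArg Subtype.val (pow_card_eq_one' (x := (⟨x, hx⟩ : L)))
    · rw [IsCyclic.card_powMonoidHom_ker]
      exact Nat.le_of_dvd Nat.card_pos (Nat.gcd_dvd_right _ _)
  rw [key H, key K, h]

variable {M W₁ U W₂ : Subgroup G}

theorem typeP_U_le (hP : Cfsg.IsTypePWith M W₁ U W₂) : U ≤ M :=
  hP.U_compl.2.1.trans (M.commutator_le_self)

theorem typeP_inter_fitting [Finite G] (hP : Cfsg.IsTypePWith M W₁ U W₂) {u : G} (hu : u ∈ U)
    (huF : u ∈ Cfsg.fittingOf M) :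
    u ∈ Subgroup.centralizer (Cfsg.fittingHallOf M : Set G) := by
  rw [← hP.fitting_eq] at huF
  have hN : M ⊓ Subgroup.centralizer (Cfsg.fittingHallOf M : Set G) ≤
      Subgroup.normalizer (Cfsg.fittingHallOf M : Set G) :=
    inf_le_left.trans (le_normalizer_fittingHallOf M)
  rw [sup_comm] at huF
  rw [← SetLike.mem_coe, Subgroup.coe_mul_of_left_le_normalizer_right _ _ hN] at huF
  obtain ⟨c, hc, h, hh, rfl⟩ := Set.mem_mul.1 huF
  have hcom : c * h = h * c := (hc.2 h hh).symm
  rw [hcom] at hu ⊢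
  refine mem_centralizer_of_coprime hh hc.2 ?_
  refine (card_coprime_fittingHallOf (typeP_U_le hP) hP.U_compl.2.2.1).coprime_dvd_right ?_
  have := orderOf_dvd_natCard (⟨h * c, hu⟩ : U)
  rwa [Subgroup.orderOf_mk] at this

theorem typeP_fitting_eq [Finite G] (hP : Cfsg.IsTypePWith M W₁ U W₂) :
    Cfsg.fittingOf M =
      Cfsg.fittingHallOf M ⊔ (U ⊓ Subgroup.centralizer (Cfsg.fittingHallOf M : Set G)) := by
  refine le_antisymm ?_ ?_
  · intro x hx
    obtain ⟨h, hh, u, hu, rfl⟩ := hP.U_compl.2.2.2 x (hP.fitting_le hx)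
    have hhF : h ∈ Cfsg.fittingOf M := hP.fitting_eq ▸ Subgroup.mem_sup_left hh
    have huF : u ∈ Cfsg.fittingOf M := by simpa using mul_mem (inv_mem hhF) hx
    exact mul_mem (Subgroup.mem_sup_left hh)
      (Subgroup.mem_sup_right ⟨hu, typeP_inter_fitting hP hu huF⟩)
  · rw [← hP.fitting_eq]
    exact sup_le_sup_left (inf_le_inf_right _ (typeP_U_le hP)) _

theorem typeP_commutator_U [Finite G] (hP : Cfsg.IsTypePWith M W₁ U W₂) :
    ⁅U, U⁆ ≤ Subgroup.centralizer (Cfsg.fittingHallOf M : Set G) := by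
  intro x hx
  refine typeP_inter_fitting hP (U.commutator_le_self hx) ?_
  rw [← hP.fitting_eq]
  exact hP.derived_two_le (Subgroup.commutator_mono hP.U_compl.2.1 hP.U_compl.2.1 hx)

theorem typeP_U_not_le_centralizer [Finite G] (hP : Cfsg.IsTypePWith M W₁ U W₂) (hU : U ≠ ⊥) :
    ¬ U ≤ Subgroup.centralizer (Cfsg.fittingHallOf M : Set G) := by
  intro hC
  apply hU
  obtain ⟨hH', hU', hI, -⟩ := hP.U_compl
  have hHU : Cfsg.fittingHallOf M ≤ Subgroup.normalizer (U : Set G) :=
    (Subgroup.le_centralizer_iff.1 hC).trans (Subgroup.centralizer_le_normalizer _)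
  have hMN : M ≤ Subgroup.normalizer (U : Set G) := by
    intro m hm
    obtain ⟨a, ha, b, hb, rfl⟩ := hP.W₁_compl.2.2.2 m hm
    obtain ⟨c, hc, d, hd, rfl⟩ := hP.U_compl.2.2.2 a ha
    exact mul_mem (mul_mem (hHU hc) (Subgroup.le_normalizer hd)) (hP.U_normal hb)
  have hMcard := compl_card hP.W₁_compl
  have hM'card := compl_card hP.U_compl
  have h1 : Nat.card U * U.relIndex M = Nat.card M := by
    have := Subgroup.relIndex_mul_relIndex (⊥ : Subgroup G) U M bot_le (typeP_U_le hP)
    simpa [Subgroup.relIndex_bot_left] using this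
  have h2 : U.relIndex M = Nat.card (Cfsg.fittingHallOf M) * Nat.card W₁ := by
    have hpos : 0 < Nat.card U := Nat.card_pos
    apply Nat.eq_of_mul_eq_mul_left hpos
    rw [h1, ← hMcard, ← hM'card]
    ring
  have hW : W₁.relIndex M = Nat.card ↥⁅M, M⁆ := by
    have := Subgroup.relIndex_mul_relIndex (⊥ : Subgroup G) W₁ M bot_le hP.W₁_compl.2.1
    rw [Subgroup.relIndex_bot_left, Subgroup.relIndex_bot_left, ← hMcard,
      mul_comm (Nat.card ↥⁅M, M⁆)] at this
    exact Nat.eq_of_mul_eq_mul_left Nat.card_pos this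
  have hco : (Nat.card U).Coprime (U.relIndex M) := by
    rw [h2]
    refine Nat.Coprime.mul_right (card_coprime_fittingHallOf (typeP_U_le hP) hI).symm ?_
    exact (hW ▸ hP.W₁_hall).symm.coprime_dvd_left (Subgroup.card_dvd_of_le hU')
  have : U ≤ Cfsg.fittingHallOf M :=
    le_fittingHallOf (typeP_U_le hP) hMN hP.U_nilpotent hco
  rw [← hI, eq_comm]
  exact inf_eq_right.2 this

end CfsgLib.OddOrder
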