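import Cfsg.Prelude.Def_OddOrderLocal
import Cfsg.Prelude.Def_Local
import Cfsg.Agent.Coprime.Action
import Cfsg.Agent.PLocal.Constraint

/-!
# Fusion from a supplement of a coprime normal subgroup (Bender–Glauberman 6.5, 6.6)
-/

set_option autoImplicit false
open Pointwise

namespace CfsgLib.OddOrder

open Cfsg Subgroup CfsgLib.Coprime

variable {G : Type*} [Group G] [Finite G]

/-- BG 6.5: if `G = K U`, `H ≤ U` has order prime to `|K|`, and `gHg⁻¹ ≤ U`, then `g = u c` with
`u ∈ U` and `c ∈ C_K(H)`. -/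
theorem supplement_fusion {K U H : Subgroup G} [K.Normal]
    (hsolv : Group.IsSolvable K ∨ Group.IsSolvable H) (hKU : K ⊔ U = ⊤) (hH : H ≤ U)
    (hcop : (Nat.card H).Coprime (Nat.card K)) {g : G} (hg : MulAut.conj g • H ≤ U) :
    ∃ u ∈ U, ∃ c ∈ K ⊓ centralizer (H : Set G), g = u * c := by
  obtain ⟨u, hu, k, hk, rfl⟩ := mem_sup_of_normal_right.1
    (show g ∈ U ⊔ K by rw [sup_comm, hKU]; exact mem_top g)
  have hkU : MulAut.conj k • H ≤ U := by
    rw [← conj_smul_conj_smul] at hg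
    have h1 := (pointwise_smul_le_pointwise_smul_iff (a := (MulAut.conj u)⁻¹)).2 hg
    rw [inv_smul_smul, ← map_inv] at h1
    exact h1.trans (conj_smul_le_of_mem (U.inv_mem hu) le_rfl)
  set N := K ⊓ U with hN
  have hUN : U ≤ normalizer (N : Set G) :=
    (le_inf le_normalizer_of_normal le_normalizer).trans inf_normalizer_le_normalizer_inf
  have hkH : MulAut.conj k • H ≤ N ⊔ H := by
    intro x hx
    have hxU := hkU hx
    rw [mem_conj_smul] at hx
    have hK : x * (k⁻¹ * x * k)⁻¹ ∈ K := by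
      have h2 := (inferInstance : K.Normal).conj_mem k⁻¹ (K.inv_mem hk) x
      have h3 : x * (k⁻¹ * x * k)⁻¹ = (x * k⁻¹ * x⁻¹) * k := by group
      rw [h3]; exact K.mul_mem h2 hk
    have h4 : x = (x * (k⁻¹ * x * k)⁻¹) * (k⁻¹ * x * k) := by group
    rw [h4]
    exact mul_mem_sup ⟨hK, U.mul_mem hxU (U.inv_mem (hH hx))⟩ hx
  have hcN : (Nat.card N).Coprime (Nat.card H) :=
    (hcop.coprime_dvd_right (card_dvd_of_le inf_le_left)).symm
  have hcard : Nat.card ↥(MulAut.conj k • H) = Nat.card H := card_conj_smul k H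
  have heq : N ⊔ H = N ⊔ MulAut.conj k • H := by
    refine (eq_of_le_of_card_ge (sup_le le_sup_left hkH) (le_of_eq ?_)).symm
    rw [card_sup_eq (hH.trans hUN) (CfsgLib.Coprime.inf_eq_bot_of_coprime hcN),
      card_sup_eq (hkU.trans hUN) (CfsgLib.Coprime.inf_eq_bot_of_coprime (hcard.symm ▸ hcN)), hcard]
  obtain ⟨n, hn, hconj⟩ := exists_conj_eq_of_sup_eq (hH.trans hUN) (hkU.trans hUN) hcN hcard heq
    (hsolv.imp_left fun h => by haveI := h; exact isSolvable_of_le inf_le_left)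
  have hnorm : n⁻¹ * k ∈ normalizer (H : Set G) := by
    rw [mem_normalizer_iff_conj_smul_eq, ← conj_smul_conj_smul, ← hconj, conj_smul_conj_smul,
      inv_mul_cancel, conj_one_smul]
  have hnk : n⁻¹ * k ∈ K := K.mul_mem (K.inv_mem hn.1) hk
  refine ⟨u * n, U.mul_mem hu hn.2, n⁻¹ * k,
    ⟨hnk, mem_centralizer_of_normalizer hnorm (CfsgLib.Coprime.inf_eq_bot_of_coprime hcop.symm) ?_⟩, by group⟩
  intro a _
  have h3 : (n⁻¹ * k) * a * (n⁻¹ * k)⁻¹ * a⁻¹ = (n⁻¹ * k) * (a * (n⁻¹ * k)⁻¹ * a⁻¹) := by group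
  rw [h3]
  exact K.mul_mem hnk ((inferInstance : K.Normal).conj_mem _ (K.inv_mem hnk) a)

/-- BG 6.5(b). -/
theorem supplement_normalizer {K U H : Subgroup G} [K.Normal]
    (hsolv : Group.IsSolvable K ∨ Group.IsSolvable H) (hKU : K ⊔ U = ⊤) (hH : H ≤ U)
    (hcop : (Nat.card H).Coprime (Nat.card K)) :
    normalizer (H : Set G) = (K ⊓ centralizer (H : Set G)) ⊔ (U ⊓ normalizer (H : Set G)) := by
  have hCN : K ⊓ centralizer (H : Set G) ≤ normalizer (H : Set G) :=
    inf_le_right.trans (centralizer_le_normalizer _)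
  refine le_antisymm (fun g hg => ?_) (sup_le hCN inf_le_right)
  obtain ⟨u, hu, c, hc, rfl⟩ := supplement_fusion hsolv hKU hH hcop
    (g := g) (by rw [conj_smul_eq_self hg]; exact hH)
  refine mul_mem (mem_sup_right ⟨hu, ?_⟩) (mem_sup_left hc)
  have h1 := mul_mem hg (inv_mem (hCN hc))
  rwa [mul_inv_cancel_right] at h1

/-- BG 6.5(a). -/
theorem supplement_inf_commutator {K U H : Subgroup G} [K.Normal]
    (hKU : K ⊔ U = ⊤) (hH : H ≤ U) (hcop : (Nat.card H).Coprime (Nat.card K)) :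
    H ⊓ commutator G = H ⊓ ⁅U, U⁆ := by
  refine le_antisymm ?_ (inf_le_inf le_rfl ?_)
  swap
  · rw [_root_.commutator_def]; exact commutator_mono le_top le_top
  rintro h ⟨hh, hG'⟩
  refine ⟨hh, ?_⟩
  have hsurj : U.map (QuotientGroup.mk' K) = ⊤ := by
    have h1 := congrArg (map (QuotientGroup.mk' K)) hKU
    rw [Subgroup.map_sup, (Subgroup.map_eq_bot_iff _).2 (QuotientGroup.ker_mk' K).ge, bot_sup_eq,
      map_top_of_surjective _ (QuotientGroup.mk'_surjective K)] at h1
    exact h1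
  have h1 : QuotientGroup.mk' K h ∈ (⁅U, U⁆).map (QuotientGroup.mk' K) := by
    rw [map_commutator, hsurj, ← map_top_of_surjective _ (QuotientGroup.mk'_surjective K),
      ← map_commutator, ← _root_.commutator_def]
    exact mem_map_of_mem _ hG'
  obtain ⟨c, hc, hck⟩ := h1
  obtain ⟨k, hk, he⟩ := (QuotientGroup.mk'_eq_mk' _).1 hck
  have hcU : c ∈ U := commutator_le_self U hc
  have hkU : k ∈ U := by
    have h2 := U.mul_mem (U.inv_mem hcU) (hH hh)
    rwa [← he, inv_mul_cancel_left] at h2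
  have hπ : (QuotientGroup.mk' (commutator U)) ⟨h, hH hh⟩
      = (QuotientGroup.mk' (commutator U)) ⟨k, hkU⟩ := by
    rw [QuotientGroup.mk'_eq_mk']
    refine ⟨(⟨h, hH hh⟩ : U)⁻¹ * ⟨k, hkU⟩, ?_, mul_inv_cancel_left _ _⟩
    have h2 : ((⟨h, hH hh⟩ : U)⁻¹ * ⟨k, hkU⟩ : U) ∈ (⁅U, U⁆).subgroupOf U := by
      rw [mem_subgroupOf]
      show h⁻¹ * k ∈ ⁅U, U⁆
      have h3 : k = c⁻¹ * h := by rw [← he]; group
      rw [h3, show h⁻¹ * (c⁻¹ * h) = h⁻¹ * c⁻¹ * h from by group]
      exact (mem_normalizer_iff''.1 ((normalizer_commutator_ge_left U U) (hH hh)) _).1 (inv_mem hc)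
    rwa [← map_subtype_commutator, subgroupOf, comap_map_eq_self_of_injective U.subtype_injective]
      at h2
  set π := QuotientGroup.mk' (commutator U)
  have o1 : orderOf (π ⟨h, hH hh⟩) ∣ Nat.card H :=
    (orderOf_map_dvd π _).trans (by rw [Subgroup.orderOf_mk]; exact H.orderOf_dvd_natCard hh)
  have o2 : orderOf (π ⟨h, hH hh⟩) ∣ Nat.card K :=
    hπ ▸ (orderOf_map_dvd π _).trans (by rw [Subgroup.orderOf_mk]; exact K.orderOf_dvd_natCard hk)
  have h4 := orderOf_eq_one_iff.1 (Nat.eq_one_of_dvd_coprimes hcop o1 o2)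
  rw [QuotientGroup.mk'_apply, QuotientGroup.eq_one_iff] at h4
  have h5 := mem_map_of_mem U.subtype h4
  rwa [map_subtype_commutator] at h5

/-! ### `p`-length one -/

theorem upperPSeries_three (p : ℕ) :
    (upperPSeries p G 3).1 = (pPrimeCore p (G ⧸ pPrimePCore p G)).comap
      (QuotientGroup.mk' (pPrimePCore p G)) := by
  have h1 : (upperPSeries p G 1).1 = pPrimeCore p G := by
    show (pPrimeCore p (G ⧸ (⊥ : Subgroup G))).comap (QuotientGroup.mk' ⊥) = _
    exact CfsgLib.PLocal.comap_pPrimeCore_quotient (⊥ : Subgroup G) (by simp)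
  have h2 : (upperPSeries p G 2).1 = pPrimePCore p G := by
    have hgen : ∀ (N M : Subgroup G) [N.Normal] [M.Normal], N = M →
        (pCore p (G ⧸ N)).comap (QuotientGroup.mk' N)
          = (pCore p (G ⧸ M)).comap (QuotientGroup.mk' M) := by
      intro N M _ _ h; subst h; rfl
    exact hgen _ _ h1
  have hgen : ∀ (N M : Subgroup G) [N.Normal] [M.Normal], N = M →
      (pPrimeCore p (G ⧸ N)).comap (QuotientGroup.mk' N)
        = (pPrimeCore p (G ⧸ M)).comap (QuotientGroup.mk' M) := by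
    intro N M _ _ h; subst h; rfl
  exact hgen _ _ h2

instance pPrimePCore_normal' (p : ℕ) : (pPrimePCore p G).Normal :=
  (inferInstance : ((pCore p (G ⧸ pPrimeCore p G)).comap
    (QuotientGroup.mk' (pPrimeCore p G))).Normal)

/-- In a group of `p`-length one the index of `O_{p',p}(G)` is prime to `p`. -/
theorem coprime_index_pPrimePCore {p : ℕ} (h : PLengthLE p 1 G) :
    ((pPrimePCore p G).index).Coprime p := by
  have h' : (upperPSeries p G 3).1 = ⊤ := h
  rw [upperPSeries_three] at h'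
  have h1 : pPrimeCore p (G ⧸ pPrimePCore p G) = ⊤ := by
    rw [← map_comap_eq_self_of_surjective
      (QuotientGroup.mk'_surjective (pPrimePCore p G)) (pPrimeCore p _), h',
      map_top_of_surjective _ (QuotientGroup.mk'_surjective _)]
  have h2 := CfsgLib.PLocal.coprime_card_pPrimeCore p (G ⧸ pPrimePCore p G)
  rwa [h1, card_top, ← index_eq_card] at h2

theorem sylow_le_pPrimePCore {p : ℕ} [Fact p.Prime] (h : PLengthLE p 1 G) (S : Sylow p G) :
    (S : Subgroup G) ≤ pPrimePCore p G := by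
  intro x hx
  rw [← QuotientGroup.eq_one_iff (N := pPrimePCore p G)]
  obtain ⟨k, hk⟩ := S.isPGroup' ⟨x, hx⟩
  have hxk : x ^ p ^ k = 1 := congrArg Subtype.val hk
  have o1 : orderOf (x : G ⧸ pPrimePCore p G) ∣ p ^ k := by
    rw [orderOf_dvd_iff_pow_eq_one, ← QuotientGroup.mk_pow, hxk, QuotientGroup.mk_one]
  have o2 : orderOf (x : G ⧸ pPrimePCore p G) ∣ (pPrimePCore p G).index := by
    rw [index_eq_card]; exact orderOf_dvd_natCard _
  exact orderOf_eq_one_iff.1
    (Nat.eq_one_of_dvd_coprimes ((coprime_index_pPrimePCore h).pow_right k) o2 o1)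

theorem pPrimeCore_sup_sylow {p : ℕ} [Fact p.Prime] (h : PLengthLE p 1 G) (S : Sylow p G) :
    pPrimeCore p G ⊔ (S : Subgroup G) = pPrimePCore p G := by
  have hle := sylow_le_pPrimePCore h S
  have h1 : ((S.subtype hle : Subgroup _)).map (pPrimePCore p G).subtype = S := by
    rw [Sylow.coe_subtype, map_subgroupOf_eq_of_le hle]
  have h2 := CfsgLib.PLocal.sylow_pPrimePCore_sup (S.subtype hle)
  rw [h1, sup_comm] at h2
  exact h2

/-- Frattini argument for `p`-length one. -/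
theorem pPrimeCore_sup_normalizer {p : ℕ} [Fact p.Prime] (h : PLengthLE p 1 G) (S : Sylow p G) :
    pPrimeCore p G ⊔ normalizer ((S : Subgroup G) : Set G) = ⊤ := by
  refine top_unique ?_
  rw [← S.normalizer_sup_eq_top' (sylow_le_pPrimePCore h S), ← pPrimeCore_sup_sylow h S]
  exact sup_le le_sup_right (sup_le le_sup_left (le_normalizer.trans le_sup_right))

/-- BG 6.6(b). -/
theorem pLengthOne_fusion [Group.IsSolvable G] {p : ℕ} [Fact p.Prime] (h : PLengthLE p 1 G)
    (S : Sylow p G) {D : Subgroup G} (hD : D ≤ (S : Subgroup G)) {x : G}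
    (hx : MulAut.conj x • D ≤ (S : Subgroup G)) :
    ∃ g ∈ normalizer ((S : Subgroup G) : Set G),
      ∃ c ∈ centralizer (D : Set G), x = g * c := by
  obtain ⟨n, hn⟩ := IsPGroup.iff_card.1 (S.isPGroup'.to_le hD)
  obtain ⟨u, hu, c, hc, he⟩ := supplement_fusion (Or.inl inferInstance)
    (pPrimeCore_sup_normalizer h S) (hD.trans le_normalizer)
    (by rw [hn]; exact (CfsgLib.PLocal.coprime_card_pPrimeCore p G).symm.pow_left n)
    (hx.trans le_normalizer)
  exact ⟨u, hu, c, hc.2, he⟩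

end CfsgLib.OddOrder
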