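import Cfsg.Agent.Coprime.Action
import Cfsg.Agent.PLocal.Cores
import Mathlib.GroupTheory.Abelianization.Defs
import Mathlib.GroupTheory.Frattini
import Mathlib.GroupTheory.Nilpotent

/-!
# Normal Hall subgroups inside the derived subgroup (Bender–Glauberman 6.4)
-/

set_option autoImplicit false

namespace CfsgLib.OddOrder

open Subgroup
open scoped commutatorElement

variable {G : Type*} [Group G] [Finite G] [Group.IsSolvable G]

/-- BG 6.4(a), first half: `H = [H,K]`. -/
theorem eq_commutator_complement {H K : Subgroup G} [H.Normal]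
    (hc : H.IsComplement' K) (hH' : H ≤ _root_.commutator G) : H = ⁅H, K⁆ := by
  have htop : H ⊔ K = ⊤ := hc.sup_eq_top
  have hn : (⁅H, K⁆ : Subgroup G).Normal := by
    rw [← normalizer_eq_top_iff, ← top_le_iff, ← htop]
    exact CfsgLib.Coprime.sup_le_normalizer_commutator H K
  set N := ⁅H, K⁆ with hN
  have hNH : N ≤ H := CfsgLib.Coprime.commutator_le_of_le_normalizer le_normalizer_of_normal
  set π := QuotientGroup.mk' N with hπ
  have hcomm : ⁅H.map π, K.map π⁆ = ⊥ := by
    rw [← map_commutator, Subgroup.map_eq_bot_iff, QuotientGroup.ker_mk']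
  have htop' : H.map π ⊔ K.map π = ⊤ := by
    rw [← Subgroup.map_sup, htop, map_top_of_surjective _ (QuotientGroup.mk'_surjective N)]
  haveI hHn : (H.map π).Normal := Subgroup.Normal.map inferInstance π (QuotientGroup.mk'_surjective N)
  have hdisj : H.map π ⊓ K.map π = ⊥ := by
    rw [eq_bot_iff]
    rintro x ⟨⟨h, hh, rfl⟩, k, hk, he⟩
    have h1 : h⁻¹ * k ∈ N := by
      rw [← QuotientGroup.eq]; exact he.symm
    have h2 : k ∈ H ⊓ K := by
      refine ⟨?_, hk⟩
      have := H.mul_mem hh (hNH h1)
      rwa [mul_inv_cancel_left] at this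
    rw [hc.disjoint.eq_bot, mem_bot] at h2
    rw [mem_bot, ← he, h2, map_one]
  -- the derived subgroup of the quotient
  have hder : (_root_.commutator G).map π ≤ ⁅H.map π, H.map π⁆ ⊔ ⁅K.map π, K.map π⁆ := by
    rw [_root_.commutator_def, map_commutator, map_top_of_surjective _ (QuotientGroup.mk'_surjective N),
      ← htop', commutator_le]
    intro x hx y hy
    obtain ⟨a, ha, b, hb, rfl⟩ := mem_sup_of_normal_left.1 hx
    obtain ⟨c, hc', d, hd, rfl⟩ := mem_sup_of_normal_left.1 hy
    have hcom : ∀ u ∈ H.map π, ∀ v ∈ K.map π, u * v = v * u := fun u hu v hv =>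
      (commutatorElement_eq_one_iff_mul_comm).1 (by
        rw [← mem_bot, ← hcomm]; exact commutator_mem_commutator hu hv)
    have h1 : ⁅a * b, c * d⁆ = ⁅a, c⁆ * ⁅b, d⁆ := by
      rw [commutatorElement_def, commutatorElement_def, commutatorElement_def]
      calc a * b * (c * d) * (a * b)⁻¹ * (c * d)⁻¹
          = a * (b * c) * d * (b⁻¹ * a⁻¹) * (d⁻¹ * c⁻¹) := by group
        _ = a * (c * b) * d * (b⁻¹ * a⁻¹) * (d⁻¹ * c⁻¹) := by rw [hcom c hc' b hb]
        _ = a * c * ((b * d * b⁻¹) * a⁻¹) * (d⁻¹ * c⁻¹) := by group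
        _ = a * c * (a⁻¹ * (b * d * b⁻¹)) * (d⁻¹ * c⁻¹) := by
            rw [hcom a⁻¹ (inv_mem ha) (b * d * b⁻¹) (mul_mem (mul_mem hb hd) (inv_mem hb))]
        _ = a * c * a⁻¹ * ((b * d * b⁻¹ * d⁻¹) * c⁻¹) := by group
        _ = a * c * a⁻¹ * (c⁻¹ * (b * d * b⁻¹ * d⁻¹)) := by
            rw [hcom c⁻¹ (inv_mem hc') (b * d * b⁻¹ * d⁻¹)
              (mul_mem (mul_mem (mul_mem hb hd) (inv_mem hb)) (inv_mem hd))]
        _ = _ := by group
    rw [h1]
    exact mul_mem_sup (commutator_mem_commutator ha hc') (commutator_mem_commutator hb hd)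
  have hperf : H.map π ≤ ⁅H.map π, H.map π⁆ := by
    intro x hx
    have h1 : x ∈ ⁅H.map π, H.map π⁆ ⊔ ⁅K.map π, K.map π⁆ := hder (map_mono hH' hx)
    obtain ⟨u, hu, v, hv, rfl⟩ := mem_sup_of_normal_left.1 h1
    have h2 : v ∈ H.map π ⊓ K.map π := by
      refine ⟨?_, commutator_le_self _ hv⟩
      have := mul_mem (inv_mem (commutator_le_self _ hu)) hx
      rwa [inv_mul_cancel_left] at this
    rw [hdisj, mem_bot] at h2
    rwa [h2, mul_one]
  have hbot : H.map π = ⊥ := by
    by_contra hne
    haveI : Nontrivial (H.map π) := (nontrivial_iff_ne_bot _).2 hne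
    refine (Group.IsSolvable.commutator_lt_top_of_nontrivial (H.map π)).ne ?_
    apply map_injective (H.map π).subtype_injective
    rw [map_subtype_commutator, ← MonoidHom.range_eq_map, range_subtype]
    exact le_antisymm (commutator_le_self _) hperf
  rw [Subgroup.map_eq_bot_iff, QuotientGroup.ker_mk'] at hbot
  exact le_antisymm hbot hNH

omit [Group.IsSolvable G] in
/-- BG 6.4(a), second half: fixed points lie in the derived subgroup. -/
theorem inf_centralizer_le_commutator_of_eq {H K : Subgroup G} (hK : K ≤ normalizer (H : Set G))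
    (hcop : (Nat.card H).Coprime (Nat.card K)) (heq : H = ⁅H, K⁆) :
    H ⊓ centralizer (K : Set G) ≤ ⁅H, H⁆ := by
  classical
  haveI := Fintype.ofFinite K
  have hmem : ∀ (k : K) (h : H), (k : G) * h * (k : G)⁻¹ ∈ H := fun k h =>
    ((mem_normalizer_iff.1 (hK k.2)) _).1 h.2
  let f : H →* Abelianization H :=
    { toFun := fun h => ∏ k : K, Abelianization.of (⟨_, hmem k h⟩ : H)
      map_one' := Finset.prod_eq_one fun k _ => by
        rw [show (⟨_, hmem k 1⟩ : H) = 1 from Subtype.ext (by simp), map_one]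
      map_mul' := fun a b => by
        rw [← Finset.prod_mul_distrib]
        refine Finset.prod_congr rfl fun k _ => ?_
        rw [← map_mul]
        exact congrArg _ (Subtype.ext (by simp [mul_assoc])) }
  have hinv : ∀ (k₀ : K) (h : H), f ⟨_, hmem k₀ h⟩ = f h := fun k₀ h => by
    refine Fintype.prod_equiv (Equiv.mulRight k₀) _ _ fun k => ?_
    exact congrArg _ (Subtype.ext (by simp [mul_assoc]))
  have hker : H ≤ f.ker.map H.subtype := by
    refine heq.le.trans (commutator_le.2 fun h hh k hk => ?_)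
    refine ⟨⟨h, hh⟩ * ⟨_, hmem ⟨k, hk⟩ (⟨h, hh⟩ : H)⁻¹⟩, ?_, ?_⟩
    · rw [SetLike.mem_coe, MonoidHom.mem_ker, map_mul, hinv, map_inv, mul_inv_cancel]
    · simp [commutatorElement_def, mul_assoc]
  rintro c ⟨hcH, hcK⟩
  obtain ⟨c', hc', hcc⟩ := hker hcH
  have h1 : f c' = Abelianization.of c' ^ Nat.card K := by
    rw [Nat.card_eq_fintype_card, ← Finset.card_univ]
    refine Finset.prod_eq_pow_card fun k _ => congrArg _ (Subtype.ext ?_)
    show (k : G) * c' * (k : G)⁻¹ = c'
    have hc2 : ((c' : H) : G) = c := hcc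
    rw [hc2, mem_centralizer_iff.1 hcK k k.2, mul_inv_cancel_right]
  rw [SetLike.mem_coe, MonoidHom.mem_ker, h1] at hc'
  have h2 : Abelianization.of c' = 1 := orderOf_eq_one_iff.1 (Nat.eq_one_of_dvd_coprimes hcop
    ((orderOf_map_dvd _ _).trans (orderOf_dvd_natCard c')) (orderOf_dvd_of_pow_eq_one hc'))
  rw [← MonoidHom.mem_ker, Abelianization.ker_of] at h2
  have h3 := mem_map_of_mem H.subtype h2
  rw [map_subtype_commutator, hcc] at h3
  exact h3

/-- BG 6.4(b). -/
theorem derived_coprime_of_nilpotent_prime_index (hnil : Group.IsNilpotent ↥(_root_.commutator G))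
    (hidx : (_root_.commutator G).index.Prime) :
    (Nat.card ↥(_root_.commutator G)).Coprime (_root_.commutator G).index := by
  set D := _root_.commutator G with hD
  set r := D.index with hr
  haveI : Fact r.Prime := ⟨hidx⟩
  set M := Cfsg.pPrimeCore r G with hM
  -- the quotient by the `r'`-core is an `r`-group
  have hQ : IsPGroup r (G ⧸ M) := by
    obtain hd : ∀ q : ℕ, q.Prime → q ∣ M.index → q = r := by
      intro q hq hqi
      by_contra hne
      haveI : Fact q.Prime := ⟨hq⟩
      let P : Sylow q D := default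
      haveI : (P : Subgroup D).Characteristic :=
        Sylow.characteristic_of_normal P inferInstance
      haveI : ((P : Subgroup D).map D.subtype).Normal :=
        CfsgLib.PLocal.normal_map_subtype D (P : Subgroup D)
      have hle : (P : Subgroup D).map D.subtype ≤ M := by
        refine CfsgLib.PLocal.le_pPrimeCore ?_
        rw [card_map_of_injective D.subtype_injective, P.card_eq_multiplicity]
        exact Nat.Coprime.pow_left _ ((Nat.coprime_primes hq hidx).2 hne)
      have h1 : Nat.card ↥(P : Subgroup D) ∣ Nat.card M := by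
        rw [← card_map_of_injective D.subtype_injective]; exact card_dvd_of_le hle
      rw [P.card_eq_multiplicity] at h1
      have h2 : q ^ ((Nat.card D).factorization q + 1) ∣ Nat.card D * r := by
        rw [hr, card_mul_index, ← card_mul_index M, pow_succ]
        exact mul_dvd_mul h1 hqi
      have h3 := ((Nat.coprime_primes hq hidx).2 hne).pow_left
        ((Nat.card D).factorization q + 1)
      exact Nat.pow_succ_factorization_not_dvd Nat.card_pos.ne' hq (h3.dvd_of_dvd_mul_right h2)
    refine IsPGroup.of_card (n := M.index.primeFactorsList.length) ?_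
    rw [← index_eq_card]
    exact Nat.eq_prime_pow_of_unique_prime_dvd index_ne_zero_of_finite
      fun {q} hq hqd => hd q hq hqd
  suffices hDM : D ≤ M from
    (CfsgLib.PLocal.coprime_card_pPrimeCore r G).coprime_dvd_left (card_dvd_of_le hDM)
  have hne : D ≠ ⊤ := fun h => by
    rw [hr, h, index_top] at hidx
    exact Nat.not_prime_one hidx
  by_contra hDM
  haveI hQnil : Group.IsNilpotent (G ⧸ M) := hQ.isNilpotent
  set π := QuotientGroup.mk' M with hπ
  have hmapD : D.map π = _root_.commutator (G ⧸ M) := by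
    rw [hD, _root_.commutator_def, map_commutator,
      map_top_of_surjective _ (QuotientGroup.mk'_surjective M), _root_.commutator_def]
  have hlt : _root_.commutator (G ⧸ M) ≠ ⊤ := by
    intro h
    haveI : Nontrivial (G ⧸ M) := QuotientGroup.nontrivial_iff.2 fun h' => hDM (h' ▸ le_top)
    exact (Group.IsSolvable.commutator_lt_top_of_nontrivial (G ⧸ M)).ne h
  obtain ⟨x, hx⟩ : ∃ x, x ∉ D := SetLike.exists_not_mem_of_ne_top D hne rfl
  haveI : D.Normal := inferInstance
  have hxD : zpowers x ⊔ D = ⊤ := by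
    by_contra h
    obtain ⟨t, ht⟩ : D.relIndex (zpowers x ⊔ D) ∣ r := D.relIndex_dvd_index_of_normal _
    rcases (Nat.dvd_prime hidx).1 ⟨t, ht⟩ with h1 | h1
    · exact hx (relIndex_eq_one.1 h1 (mem_sup_left (mem_zpowers x)))
    · refine h (index_eq_one.1 ?_)
      have h2 := relIndex_mul_index (le_sup_right : D ≤ zpowers x ⊔ D)
      rw [h1, ← hr] at h2
      exact (mul_eq_left₀ hidx.ne_zero).1 h2
  have hfr : _root_.commutator (G ⧸ M) ≤ frattini (G ⧸ M) := by
    refine le_iInf₂ fun K hK => ?_
    haveI hKn : K.Normal := NormalizerCondition.normal_of_coatom K Group.normalizerCondition_of_isNilpotent hK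
    haveI : Nontrivial ((G ⧸ M) ⧸ K) := QuotientGroup.nontrivial_iff.2 hK.1
    haveI : IsSimpleGroup ((G ⧸ M) ⧸ K) := ⟨fun L _ => by
      have hsurj := QuotientGroup.mk'_surjective K
      have h1 : K ≤ L.comap (QuotientGroup.mk' K) := fun y hy => by
        rw [mem_comap, QuotientGroup.mk'_apply, (QuotientGroup.eq_one_iff y).2 hy]
        exact one_mem L
      rcases hK.le_iff.1 h1 with h | h
      · exact Or.inr (comap_injective hsurj (h.trans (comap_top _).symm))
      · left
        rw [← map_comap_eq_self_of_surjective hsurj L, h, Subgroup.map_eq_bot_iff,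
          QuotientGroup.ker_mk']⟩
    refine Subgroup.Normal.quotient_commutative_iff_commutator_le.1 ?_
    exact ⟨⟨(IsSimpleGroup.comm_iff_isSolvable).2 inferInstance⟩⟩
  have hgen : zpowers (π x) = ⊤ := by
    refine frattini_nongenerating (top_unique ?_)
    refine le_trans ?_ (sup_le_sup_left hfr _)
    rw [← hmapD, ← MonoidHom.map_zpowers, ← Subgroup.map_sup, hxD,
      map_top_of_surjective _ (QuotientGroup.mk'_surjective M)]
  refine hDM ?_
  rw [← QuotientGroup.ker_mk' M, ← Subgroup.map_eq_bot_iff, hmapD, eq_bot_iff,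
    _root_.commutator_def, commutator_le]
  intro a _ b _
  rw [mem_bot, commutatorElement_eq_one_iff_mul_comm]
  have ha : a ∈ zpowers (π x) := hgen ▸ mem_top a
  have hb : b ∈ zpowers (π x) := hgen ▸ mem_top b
  obtain ⟨i, rfl⟩ := mem_zpowers_iff.1 ha
  obtain ⟨j, rfl⟩ := mem_zpowers_iff.1 hb
  exact zpow_mul_comm _ i j

end CfsgLib.OddOrder
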