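import Cfsg.Agent.OddOrder.BG6Fusion
import Cfsg.Agent.OddOrder.BG1Stab
import Cfsg.Agent.PLocal.PSolvable

/-!
# Maximal elementary abelian subgroups in `p`-length one (Bender–Glauberman 6.7)
-/

set_option autoImplicit false

namespace CfsgLib.OddOrder

open Cfsg Subgroup

/-- BG 6.7 when `O_{p'}(G) = 1` and the Sylow `p`-subgroup is normal and self-centralizing. -/
theorem eq_bot_of_maximal_elementary_normalizes {G : Type*} [Group G] [Finite G] {p : ℕ}
    [Fact p.Prime] (hp : p ≠ 2) {S : Subgroup G} [hSn : S.Normal] (hS : IsPGroup p S)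
    (hCS : centralizer (S : Set G) ≤ S) {E : Subgroup G} (hES : E ≤ S)
    (hE : IsElementaryAbelian p E)
    (hmax : ∀ B : Subgroup G, B ≤ S → IsElementaryAbelian p B → E ≤ B → B = E)
    {L : Subgroup G} (hL : (Nat.card L).Coprime p) (hEL : E ≤ normalizer (L : Set G)) :
    L = ⊥ := by
  have hLS : L ⊓ S = ⊥ := by
    rw [inf_comm]; exact CfsgLib.PLocal.disjoint_of_isPGroup_of_coprime hS hL
  have hLE : L ≤ centralizer (E : Set G) := by
    rw [← commutator_eq_bot_iff_le_centralizer, eq_bot_iff, ← hLS, le_inf_iff, commutator_le,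
      commutator_le]
    constructor
    · intro l hl e he
      rw [commutatorElement_def, mul_assoc, mul_assoc]
      refine L.mul_mem hl ?_
      rw [← mul_assoc]
      exact ((mem_normalizer_iff.1 (hEL he)) _).1 (L.inv_mem hl)
    · intro l hl e he
      rw [commutatorElement_def]
      exact S.mul_mem (hSn.conj_mem e (hES he) l) (S.inv_mem (hES he))
  have hsmall : ∀ x ∈ S ⊓ centralizer (E : Set G), x ^ p = 1 → x ∈ E := by
    intro x hx hxp
    have hB : IsElementaryAbelian p (Subgroup.closure ((E : Set G) ∪ {x})) := by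
      have hc : IsMulCommutative (Subgroup.closure ((E : Set G) ∪ {x})) := by
        refine isMulCommutative_closure ?_
        rintro a (ha | ha) b (hb | hb)
        · exact congrArg Subtype.val (hE.1.is_comm.comm ⟨a, ha⟩ ⟨b, hb⟩)
        · exact Set.mem_singleton_iff.1 hb ▸ mem_centralizer_iff.1 hx.2 a ha
        · exact Set.mem_singleton_iff.1 ha ▸ (mem_centralizer_iff.1 hx.2 b hb).symm
        · rw [Set.mem_singleton_iff.1 ha, Set.mem_singleton_iff.1 hb]
      refine ⟨hc, fun y hy => ?_⟩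
      induction hy using closure_induction with
      | mem z hz => exact hz.elim (hE.2 z) fun h => Set.mem_singleton_iff.1 h ▸ hxp
      | one => exact one_pow p
      | mul y z hy hz h1 h2 =>
        have hyz : Commute y z := congrArg Subtype.val (hc.is_comm.comm ⟨y, hy⟩ ⟨z, hz⟩)
        rw [hyz.mul_pow, h1, h2, one_mul]
      | inv y _ h1 => rw [inv_pow, h1, inv_one]
    have hBS : Subgroup.closure ((E : Set G) ∪ {x}) ≤ S :=
      (closure_le _).2 (Set.union_subset hES (Set.singleton_subset_iff.2 hx.1))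
    rw [← hmax _ hBS hB (fun e he => subset_closure (Or.inl he))]
    exact subset_closure (Or.inr rfl)
  have hLSc : L ≤ centralizer (S : Set G) :=
    Stab.le_centralizer_of_fix_prime_order_in_centralizer hp hS hES hE.1 hE.2
      le_normalizer_of_normal hL (fun x hx hxp l hl => by
        rw [mem_centralizer_singleton_iff]
        exact (mem_centralizer_iff.1 (hLE hl) x (hsmall x hx hxp)).symm)
  exact le_bot_iff.1 (hLS ▸ le_inf le_rfl (hLSc.trans hCS))

/-- BG 6.7. -/
theorem le_pPrimeCore_of_maximal_elementary {G : Type*} [Group G] [Finite G]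
    [Group.IsSolvable G] {p : ℕ} [Fact p.Prime] (hp : p ≠ 2) (hpl : PLengthLE p 1 G)
    {E L : Subgroup G} (hE : IsElementaryAbelian p E)
    (hmax : ∀ B : Subgroup G, IsElementaryAbelian p B → E ≤ B → B = E)
    (hL : (Nat.card L).Coprime p) (hEL : E ≤ normalizer (L : Set G)) :
    L ≤ pPrimeCore p G := by
  set M := pPrimeCore p G with hM
  set π := QuotientGroup.mk' M with hπ
  have hEp : IsPGroup p E := fun e => ⟨1, Subtype.ext (by simpa using hE.2 e e.2)⟩
  obtain ⟨S, hES⟩ := hEp.exists_le_sylow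
  have hSbar : (S : Subgroup G).map π = pCore p (G ⧸ M) := by
    have h1 := congrArg (map π) (pPrimeCore_sup_sylow hpl S)
    rw [Subgroup.map_sup, (Subgroup.map_eq_bot_iff _).2 (QuotientGroup.ker_mk' M).ge, bot_sup_eq,
      CfsgLib.PLocal.map_pPrimePCore] at h1
    exact h1
  haveI : ((S : Subgroup G).map π).Normal := hSbar ▸ inferInstance
  have hinj : ∀ x ∈ (S : Subgroup G), ∀ y ∈ (S : Subgroup G), π x = π y → x = y := by
    intro x hx y hy h
    rw [← inv_mul_eq_one]
    have h1 : x⁻¹ * y ∈ (S : Subgroup G) ⊓ M :=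
      ⟨(S : Subgroup G).mul_mem ((S : Subgroup G).inv_mem hx) hy, (QuotientGroup.eq).1 h⟩
    rwa [CfsgLib.PLocal.disjoint_of_isPGroup_of_coprime S.isPGroup'
      (CfsgLib.PLocal.coprime_card_pPrimeCore p G), mem_bot] at h1
  have hEbar : IsElementaryAbelian p (E.map π) :=
    ⟨by haveI := hE.1; infer_instance, by
      rintro _ ⟨e, he, rfl⟩; rw [← map_pow, hE.2 e he, map_one]⟩
  have hbot := eq_bot_of_maximal_elementary_normalizes hp (S := (S : Subgroup G).map π)
    (S.isPGroup'.map π) (by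
      rw [hSbar]
      exact CfsgLib.PLocal.centralizer_pCore_le
        (CfsgLib.PLocal.isPSolvable_quotient CfsgLib.PLocal.isPSolvable_of_isSolvable M)
        (CfsgLib.PLocal.pPrimeCore_quotient_pPrimeCore_eq_bot p G))
    (map_mono hES) hEbar ?_ (L := L.map π)
    (hL.coprime_dvd_left (card_map_dvd L π)) ((map_mono hEL).trans (le_normalizer_map π))
  · rwa [Subgroup.map_eq_bot_iff, QuotientGroup.ker_mk'] at hbot
  intro B hBS hB hEB
  have hB0 : IsElementaryAbelian p ((S : Subgroup G) ⊓ B.comap π) := by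
    refine ⟨⟨⟨fun a b => Subtype.ext (hinj _ (mul_mem a.2.1 b.2.1) _ (mul_mem b.2.1 a.2.1) ?_)⟩⟩,
      fun a ha => hinj _ (pow_mem ha.1 p) _ (one_mem _) ?_⟩
    · simp only [map_mul]
      exact congrArg Subtype.val (hB.1.is_comm.comm ⟨_, a.2.2⟩ ⟨_, b.2.2⟩)
    · rw [map_pow, map_one]; exact hB.2 _ ha.2
  have hEB0 : E ≤ (S : Subgroup G) ⊓ B.comap π :=
    le_inf hES (map_le_iff_le_comap.1 hEB)
  refine le_antisymm (fun x hx => ?_) hEB
  obtain ⟨s, hs, rfl⟩ := hBS hx
  exact mem_map_of_mem π ((hmax _ hB0 hEB0).le ⟨hs, hx⟩)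

end CfsgLib.OddOrder
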