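import Cfsg.Prelude.Def_OddOrderLocal
import Mathlib.GroupTheory.Frattini

/-!
# The standing hypothesis of the odd order analysis

Elementary consequences of `Cfsg.IsMinSimpleOddOrder G`: proper subgroups are solvable, nontrivial
proper subgroups have proper normalizers, maximal subgroups are self-normalizing, and the elementary
behaviour of `InUniqueMaximal` and of conjugation.
-/

set_option autoImplicit false
set_option linter.style.haveILetI false

namespace CfsgLib.OddOrder

open Cfsg Subgroup

variable {G : Type*} [Group G]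

/-! ### Primes and orders -/

/-- A prime dividing an odd number is not two. -/
theorem prime_ne_two_of_dvd_odd {n p : ℕ} (hn : Odd n) (hd : p ∣ n) : p ≠ 2 := by
  rintro rfl
  exact (Nat.not_even_iff_odd.2 hn) (even_iff_two_dvd.2 hd)

/-- Subgroups of a group of odd order have odd order. -/
theorem odd_card_subgroup (hodd : Odd (Nat.card G)) (H : Subgroup G) : Odd (Nat.card H) :=
  hodd.of_dvd_nat (Subgroup.card_subgroup_dvd_card H)

/-- A group of odd order is finite. -/
theorem finite_of_odd_card (hodd : Odd (Nat.card G)) : Finite G :=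
  Nat.finite_of_card_ne_zero (by rcases hodd with ⟨k, hk⟩; omega)

variable (hG : IsMinSimpleOddOrder G)
include hG

theorem minSimple_odd : Odd (Nat.card G) := hG.1

theorem minSimple_isSimpleGroup : IsSimpleGroup G := hG.2.1

theorem minSimple_not_comm : ¬ IsMulCommutative G := hG.2.2.1

theorem minSimple_finite : Finite G := finite_of_odd_card hG.1

theorem minSimple_nontrivial : Nontrivial G := hG.2.1.toNontrivial

theorem minSimple_solvable {H : Subgroup G} (hH : H ≠ ⊤) : Group.IsSolvable H := hG.2.2.2 H hH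

theorem minSimple_not_solvable : ¬ Group.IsSolvable G := by
  haveI := minSimple_isSimpleGroup hG
  intro hs
  exact minSimple_not_comm hG ⟨⟨(IsSimpleGroup.comm_iff_isSolvable).2 hs⟩⟩

theorem minSimple_odd_subgroup (H : Subgroup G) : Odd (Nat.card H) := odd_card_subgroup hG.1 H

theorem minSimple_prime_ne_two {p : ℕ} (hp : p ∣ Nat.card G) : p ≠ 2 :=
  prime_ne_two_of_dvd_odd hG.1 hp

theorem minSimple_prime_ne_two_subgroup {p : ℕ} {H : Subgroup G} (hp : p ∣ Nat.card H) : p ≠ 2 :=
  prime_ne_two_of_dvd_odd (minSimple_odd_subgroup hG H) hp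

theorem minSimple_normal_eq_bot_or_top {H : Subgroup G} (hH : H.Normal) : H = ⊥ ∨ H = ⊤ :=
  (minSimple_isSimpleGroup hG).eq_bot_or_eq_top_of_normal H hH

theorem minSimple_normalizer_ne_top {H : Subgroup G} (h1 : H ≠ ⊥) (h2 : H ≠ ⊤) :
    normalizer (H : Set G) ≠ ⊤ := fun h =>
  (minSimple_normal_eq_bot_or_top hG (normalizer_eq_top_iff.1 h)).elim h1 h2

theorem minSimple_center_eq_bot : center G = ⊥ :=
  (minSimple_normal_eq_bot_or_top hG inferInstance).resolve_right fun h =>
    minSimple_not_comm hG ⟨⟨fun a b => (mem_center_iff.1 (h ▸ mem_top b : b ∈ center G) a)⟩⟩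

theorem minSimple_centralizer_ne_top {S : Set G} (hS : ∃ x ∈ S, x ≠ 1) :
    centralizer S ≠ ⊤ := by
  obtain ⟨x, hx, hx1⟩ := hS
  intro h
  apply hx1
  rw [← mem_bot, ← minSimple_center_eq_bot hG, mem_center_iff]
  intro g
  exact ((mem_centralizer_iff.1 (h ▸ mem_top g : g ∈ centralizer S)) x hx).symm

theorem minSimple_centralizer_singleton_ne_top {x : G} (hx : x ≠ 1) :
    centralizer ({x} : Set G) ≠ ⊤ :=
  minSimple_centralizer_ne_top hG ⟨x, rfl, hx⟩

theorem minSimple_centralizer_subgroup_ne_top {H : Subgroup G} (hH : H ≠ ⊥) :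
    centralizer (H : Set G) ≠ ⊤ := by
  obtain ⟨x, hx, hx1⟩ := (bot_or_exists_ne_one H).resolve_left hH
  exact minSimple_centralizer_ne_top hG ⟨x, hx, hx1⟩

/-- A subgroup of a nilpotent or solvable kind is proper. -/
theorem minSimple_ne_top_of_solvable {H : Subgroup G} (hH : Group.IsSolvable H) : H ≠ ⊤ := by
  rintro rfl
  haveI := hH
  exact minSimple_not_solvable hG
    (Group.isSolvable_of_surjective (f := (Subgroup.topEquiv (G := G)).toMonoidHom)
      Subgroup.topEquiv.surjective)

theorem minSimple_ne_top_of_isPGroup {p : ℕ} [Fact p.Prime] {P : Subgroup G} (hP : IsPGroup p P) :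
    P ≠ ⊤ := by
  haveI := minSimple_finite hG
  haveI : Group.IsNilpotent P := hP.isNilpotent
  exact minSimple_ne_top_of_solvable hG inferInstance

theorem minSimple_ne_top_of_isMulCommutative {H : Subgroup G} (hH : IsMulCommutative H) : H ≠ ⊤ :=
  minSimple_ne_top_of_solvable hG
    (Group.isSolvable_of_comm fun a b => hH.is_comm.comm a b)

/-- Every proper subgroup lies in a maximal one. -/
theorem minSimple_exists_coatom {H : Subgroup G} (hH : H ≠ ⊤) :
    ∃ M : Subgroup G, IsCoatom M ∧ H ≤ M := by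
  haveI := minSimple_finite hG
  exact (IsCoatomic.eq_top_or_exists_le_coatom H).resolve_left hH

theorem minSimple_coatom_solvable {M : Subgroup G} (hM : IsCoatom M) : Group.IsSolvable M :=
  minSimple_solvable hG hM.1

theorem minSimple_coatom_ne_bot {M : Subgroup G} (hM : IsCoatom M) : M ≠ ⊥ := by
  rintro rfl
  haveI := minSimple_nontrivial hG
  obtain ⟨x, hx⟩ := exists_ne (1 : G)
  have h : zpowers x = ⊤ := hM.2 _ (bot_lt_iff_ne_bot.2 (zpowers_ne_bot.2 hx))
  exact minSimple_ne_top_of_isMulCommutative hG inferInstance h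

/-- Maximal subgroups are their own normalizers. -/
theorem minSimple_normalizer_coatom {M : Subgroup G} (hM : IsCoatom M) :
    normalizer (M : Set G) = M :=
  (hM.le_iff.1 le_normalizer).resolve_left
    (minSimple_normalizer_ne_top hG (minSimple_coatom_ne_bot hG hM) hM.1)

/-- A nontrivial proper subgroup normalized by a maximal subgroup has it as normalizer. -/
theorem minSimple_normalizer_eq_coatom {M H : Subgroup G} (hM : IsCoatom M) (h1 : H ≠ ⊥)
    (h2 : H ≠ ⊤) (hn : M ≤ normalizer (H : Set G)) : normalizer (H : Set G) = M :=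
  (hM.le_iff.1 hn).resolve_left (minSimple_normalizer_ne_top hG h1 h2)

/-- A nontrivial subgroup of a maximal subgroup `M` normalized by `M` has normalizer `M`. -/
theorem minSimple_normalizer_eq_coatom_of_le {M H : Subgroup G} (hM : IsCoatom M) (h1 : H ≠ ⊥)
    (hle : H ≤ M) (hn : M ≤ normalizer (H : Set G)) : normalizer (H : Set G) = M :=
  minSimple_normalizer_eq_coatom hG hM h1 (fun h => hM.1 (top_le_iff.1 (h ▸ hle))) hn

/-- A nontrivial solvable subgroup properly contains its derived subgroup. -/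
theorem minSimple_commutator_lt {H : Subgroup G} (h1 : H ≠ ⊥) (h2 : H ≠ ⊤) : ⁅H, H⁆ < H := by
  haveI := minSimple_solvable hG h2
  haveI : Nontrivial H := (nontrivial_iff_ne_bot H).2 h1
  have h := Group.IsSolvable.commutator_lt_top_of_nontrivial (G := H)
  have h' : (commutator H).map H.subtype < H := by
    refine lt_of_le_of_ne (map_subtype_le _) fun heq => h.ne ?_
    apply map_injective (subtype_injective H)
    rw [heq, ← MonoidHom.range_eq_map, range_subtype]
  rwa [map_subtype_commutator] at h'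

omit hG

/-! ### Conjugation -/

/-- Conjugation as an isomorphism of subgroup lattices preserves maximality. -/
theorem isCoatom_map_conj {M : Subgroup G} (hM : IsCoatom M) (g : G) :
    IsCoatom (M.map (MulAut.conj g).toMonoidHom) :=
  (OrderIso.isCoatom_iff (MulEquiv.mapSubgroup (MulAut.conj g)) M).2 hM

theorem mem_map_conj_iff {H : Subgroup G} {g x : G} :
    x ∈ H.map (MulAut.conj g).toMonoidHom ↔ g⁻¹ * x * g ∈ H := by
  rw [Subgroup.mem_map_equiv, MulAut.conj_symm_apply]

theorem map_conj_map_conj (H : Subgroup G) (g h : G) :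
    (H.map (MulAut.conj h).toMonoidHom).map (MulAut.conj g).toMonoidHom =
      H.map (MulAut.conj (g * h)).toMonoidHom := by
  ext x
  simp only [mem_map_conj_iff, mul_inv_rev, mul_assoc]

theorem map_conj_one (H : Subgroup G) : H.map (MulAut.conj (1 : G)).toMonoidHom = H := by
  ext x
  simp

theorem map_conj_eq_self_iff {H : Subgroup G} {g : G} :
    H.map (MulAut.conj g).toMonoidHom = H ↔ g ∈ normalizer (H : Set G) :=
  (mem_normalizer_iff_map_conj_eq).symm

theorem card_map_conj (H : Subgroup G) (g : G) :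
    Nat.card (H.map (MulAut.conj g).toMonoidHom) = Nat.card H :=
  (Nat.card_congr (H.equivMapOfInjective _ (MulAut.conj g).injective).toEquiv).symm

theorem map_conj_centralizer (S : Set G) (g : G) :
    (centralizer S).map (MulAut.conj g).toMonoidHom = centralizer ((fun x => g * x * g⁻¹) '' S) := by
  ext x
  rw [mem_map_conj_iff, mem_centralizer_iff, mem_centralizer_iff]
  constructor
  · rintro h _ ⟨y, hy, rfl⟩
    calc g * y * g⁻¹ * x = g * (y * (g⁻¹ * x * g)) * g⁻¹ := by group
      _ = g * ((g⁻¹ * x * g) * y) * g⁻¹ := by rw [h y hy]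
      _ = x * (g * y * g⁻¹) := by group
  · intro h y hy
    calc y * (g⁻¹ * x * g) = g⁻¹ * (g * y * g⁻¹ * x) * g := by group
      _ = g⁻¹ * (x * (g * y * g⁻¹)) * g := by rw [h _ ⟨y, hy, rfl⟩]
      _ = g⁻¹ * x * g * y := by group

theorem map_conj_normalizer (H : Subgroup G) (g : G) :
    (normalizer (H : Set G)).map (MulAut.conj g).toMonoidHom =
      normalizer ((H.map (MulAut.conj g).toMonoidHom : Subgroup G) : Set G) :=
  map_equiv_normalizer_eq H (MulAut.conj g)

/-- Elements of a maximal subgroup fix it under conjugation. -/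
theorem map_conj_eq_self_of_mem {M : Subgroup G} {g : G} (hg : g ∈ M) :
    M.map (MulAut.conj g).toMonoidHom = M :=
  map_conj_eq_self_iff.2 (le_normalizer hg)

/-! ### Subgroups lying in exactly one maximal subgroup -/

theorem inUniqueMaximal_iff {X : Subgroup G} :
    InUniqueMaximal X ↔
      ∃ M, IsCoatom M ∧ X ≤ M ∧ ∀ L : Subgroup G, IsCoatom L → X ≤ L → L = M := by
  constructor
  · rintro ⟨M, ⟨h1, h2⟩, h3⟩
    exact ⟨M, h1, h2, fun L hL hX => h3 L ⟨hL, hX⟩⟩
  · rintro ⟨M, h1, h2, h3⟩
    exact ⟨M, ⟨h1, h2⟩, fun L hL => h3 L hL.1 hL.2⟩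

theorem inUniqueMaximal_eq {X M L : Subgroup G} (hX : InUniqueMaximal X) (hM : IsCoatom M)
    (hXM : X ≤ M) (hL : IsCoatom L) (hXL : X ≤ L) : L = M :=
  hX.unique ⟨hL, hXL⟩ ⟨hM, hXM⟩

theorem inUniqueMaximal_ne_top {X : Subgroup G} (hX : InUniqueMaximal X) : X ≠ ⊤ := by
  rintro rfl
  obtain ⟨M, ⟨hM, hXM⟩, -⟩ := hX
  exact hM.1 (top_le_iff.1 hXM)

theorem inUniqueMaximal_mono [IsCoatomic (Subgroup G)] {X Y : Subgroup G} (hX : InUniqueMaximal X)
    (hXY : X ≤ Y) (hY : Y ≠ ⊤) : InUniqueMaximal Y := by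
  obtain ⟨M, hM, hYM⟩ := (IsCoatomic.eq_top_or_exists_le_coatom Y).resolve_left hY
  exact ⟨M, ⟨hM, hYM⟩, fun L hL => inUniqueMaximal_eq hX hM (hXY.trans hYM) hL.1 (hXY.trans hL.2)⟩

theorem inUniqueMaximal_map_conj {X : Subgroup G} (hX : InUniqueMaximal X) (g : G) :
    InUniqueMaximal (X.map (MulAut.conj g).toMonoidHom) := by
  obtain ⟨M, hM, hXM, huniq⟩ := inUniqueMaximal_iff.1 hX
  refine inUniqueMaximal_iff.2 ⟨_, isCoatom_map_conj hM g, map_mono hXM, fun L hL hXL => ?_⟩
  have h := huniq _ (isCoatom_map_conj hL g⁻¹) ?_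
  · rw [← h, map_conj_map_conj, mul_inv_cancel, map_conj_one]
  · have := map_mono (f := (MulAut.conj g⁻¹).toMonoidHom) hXL
    rwa [map_conj_map_conj, inv_mul_cancel, map_conj_one] at this

/-- The normalizer of a uniqueness subgroup lies in its maximal subgroup. -/
theorem inUniqueMaximal_normalizer_le (hG : IsMinSimpleOddOrder G) {X M : Subgroup G}
    (hX : InUniqueMaximal X) (hM : IsCoatom M) (hXM : X ≤ M) :
    normalizer (X : Set G) ≤ M := by
  intro g hg
  have h1 := inUniqueMaximal_eq hX hM hXM (isCoatom_map_conj hM g)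
    (by rw [← map_conj_eq_self_iff.2 hg]; exact map_mono hXM)
  rw [← minSimple_normalizer_coatom hG hM]
  exact map_conj_eq_self_iff.1 h1

end CfsgLib.OddOrder
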