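import Cfsg.Prelude.Def_OddOrderLocal

/-!
# The type predicates used on the route to the odd order theorem

`IsTypeI` is type I with `O_{p'}(H)` cyclic in place of `O_{p'}(M)` cyclic in its third alternative
(`H = M_F`); it is what the local analysis gives, and what the character theory uses.  `supportA`,
`supportA0` and `IsSupporting` are `typeA`, `typeA0` and `Supports` taken with this predicate.
-/

set_option autoImplicit false

namespace CfsgLib.OddOrder

open Cfsg

universe u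

/-- Type I, as delivered by the local analysis: `O_{p'}(M_F)` instead of `O_{p'}(M)` cyclic. -/
def IsTypeI {G : Type u} [Group G] (M : Subgroup G) : Prop :=
  IsOfTypeF M ∧
  ( IsTISubset (fittingHallOf M : Set G) ∨
    (IsMulCommutative (fittingHallOf M) ∧ RankLE 2 (fittingHallOf M) ∧ ¬ RankLE 1 (fittingHallOf M)) ∨
    ((∀ p : ℕ, p.Prime → p ∣ Nat.card (fittingHallOf M) →
        Monoid.exponent (M ⧸ fittingHall M) ∣ p - 1) ∧
      ∃ p : ℕ, p.Prime ∧ p ∣ Nat.card (fittingHallOf M) ∧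
        IsCyclic (pPrimeCore p (fittingHallOf M))) )

open scoped Classical in
/-- `A(M)`. -/
noncomputable def supportA {G : Type u} [Group G] (M : Subgroup G) : Set G :=
  if IsTypeI M then
    {a | a ∈ M ∧ a ≠ 1 ∧ ∃ x ∈ fittingHallOf M, x ≠ 1 ∧ a * x = x * a}
  else
    {a | a ∈ ⁅M, M⁆ ∧ a ≠ 1 ∧ ∃ x ∈ typeCore M, x ≠ 1 ∧ a * x = x * a}

/-- `A₀(M)`. -/
noncomputable def supportA0 {G : Type u} [Group G] (M : Subgroup G) : Set G :=
  supportA M ∪ {v | ¬ IsTypeI M ∧ ∃ W₁ U W₂ : Subgroup G, IsTypePWith M W₁ U W₂ ∧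
    ∃ m ∈ M, ∃ w ∈ W₁ ⊔ W₂, w ∉ W₁ ∧ w ∉ W₂ ∧ v = m * w * m⁻¹}

/-- `L` supports `M`. -/
def IsSupporting {G : Type u} [Group G] (L M : Subgroup G) : Prop :=
  IsCoatom L ∧ ∃ x ∈ supportA0 M, ¬ Subgroup.centralizer ({x} : Set G) ≤ M ∧
    Subgroup.centralizer ({x} : Set G) ≤ L

end CfsgLib.OddOrder
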