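import Cfsg.Prelude.Def_OddOrder
import Mathlib.GroupTheory.Index
import Mathlib.GroupTheory.QuotientGroup.Basic

/-!
# The reduction of the odd order theorem to minimal simple groups
-/

set_option autoImplicit false

namespace CfsgLib.OddOrder

universe u

/-- If there is no minimal simple group of odd order, every group of odd order is solvable. -/
theorem isSolvable_of_odd_of_no_minSimple
    (h : ∀ (K : Type u) [Group K] [Finite K], Cfsg.IsMinSimpleOddOrder K → False)
    (G : Type u) [Group G] [Finite G] (hG : Odd (Nat.card G)) : Group.IsSolvable G := by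
  suffices ∀ (n : ℕ) (K : Type u) [Group K] [Finite K], Nat.card K = n → Odd (Nat.card K) →
      Group.IsSolvable K from this _ G rfl hG
  intro n
  induction n using Nat.strong_induction_on with
  | _ n ih =>
    intro K _ _ hn hodd
    have hsub : ∀ H : Subgroup K, H ≠ ⊤ → Group.IsSolvable H := fun H hH =>
      ih _ (hn ▸ lt_of_le_of_ne (Nat.le_of_dvd Nat.card_pos H.card_subgroup_dvd_card)
        fun e => hH (Subgroup.eq_top_of_card_eq H e)) H rfl (hodd.of_dvd_nat H.card_subgroup_dvd_card)
    by_cases hc : IsMulCommutative K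
    · haveI := hc
      exact Group.isSolvable_of_comm fun a b => hc.is_comm.comm a b
    by_cases hs : IsSimpleGroup K
    · exact (h K ⟨hodd, hs, hc, hsub⟩).elim
    haveI : Nontrivial K := by
      by_contra ht
      haveI := not_nontrivial_iff_subsingleton.1 ht
      exact hc ⟨⟨fun a b => Subsingleton.elim _ _⟩⟩
    obtain ⟨N, hN, hN0, hN1⟩ : ∃ N : Subgroup K, N.Normal ∧ N ≠ ⊥ ∧ N ≠ ⊤ := by
      by_contra hne
      refine hs ⟨fun N hN => ?_⟩
      by_contra h'
      push Not at h'
      exact hne ⟨N, hN, h'.1, h'.2⟩
    haveI := hsub N hN1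
    haveI : Group.IsSolvable (K ⧸ N) := ih _ (by
      have h1 := N.card_eq_card_quotient_mul_card_subgroup
      have h2 : 1 < Nat.card N :=
        Subgroup.one_lt_card_iff_ne_bot N |>.2 hN0
      rw [hn] at h1
      rw [h1]
      exact lt_mul_of_one_lt_right Nat.card_pos h2) _ rfl
      (hodd.of_dvd_nat N.card_quotient_dvd_card)
    exact Group.isSolvable_of_ker_le_range N.subtype (QuotientGroup.mk' N)
      (le_of_eq (by rw [QuotientGroup.ker_mk', Subgroup.range_subtype]))

end CfsgLib.OddOrder
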