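import Cfsg.Prelude.Def_OddOrderLocal
import Mathlib.GroupTheory.Sylow
import Mathlib.Algebra.Group.Subgroup.Pointwise

/-!
# π-subgroups and the cores `piCore`, `piCoreOf`

A π-subgroup is written `∀ r, r.Prime → r ∣ Nat.card H → r ∈ π`, as in the Prelude; the abbreviation
`IsPiSubgroup π H` unfolds to exactly that.
-/

set_option autoImplicit false
set_option linter.style.haveILetI false

namespace CfsgLib.OddOrder

open Cfsg Subgroup

variable {G : Type*} [Group G] {π ρ : Set ℕ}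

/-- All prime divisors of the order of `H` lie in `π`. -/
abbrev IsPiSubgroup (π : Set ℕ) (H : Subgroup G) : Prop :=
  ∀ r : ℕ, r.Prime → r ∣ Nat.card H → r ∈ π

theorem isPiSubgroup_bot (π : Set ℕ) : IsPiSubgroup π (⊥ : Subgroup G) := by
  intro r hr hd
  rw [Subgroup.card_bot] at hd
  exact absurd (Nat.dvd_one.1 hd) hr.ne_one

theorem isPiSubgroup_mono {A B : Subgroup G} (h : A ≤ B) (hB : IsPiSubgroup π B) :
    IsPiSubgroup π A :=
  fun r hr hd => hB r hr (hd.trans (card_dvd_of_le h))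

theorem isPiSubgroup_of_subset {A : Subgroup G} (h : π ⊆ ρ) (hA : IsPiSubgroup π A) :
    IsPiSubgroup ρ A :=
  fun r hr hd => h (hA r hr hd)

theorem isPiSubgroup_map {H : Type*} [Group H] (f : G →* H) {A : Subgroup G}
    (hA : IsPiSubgroup π A) : IsPiSubgroup π (A.map f) :=
  fun r hr hd => hA r hr (hd.trans (card_map_dvd A f))

theorem isPiSubgroup_map_iff {H : Type*} [Group H] {f : G →* H} (hf : Function.Injective f)
    {A : Subgroup G} : IsPiSubgroup π (A.map f) ↔ IsPiSubgroup π A := by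
  unfold IsPiSubgroup
  rw [card_map_of_injective hf]

theorem isPiSubgroup_subgroupOf {A M : Subgroup G} (hA : IsPiSubgroup π A) :
    IsPiSubgroup π (A.subgroupOf M) := by
  intro r hr hd
  refine hA r hr (hd.trans ?_)
  rw [← card_map_of_injective (f := M.subtype) M.subtype_injective, subgroupOf_map_subtype]
  exact card_dvd_of_le inf_le_left

/-- A `p`-subgroup is a `π`-subgroup when `p ∈ π`. -/
theorem isPiSubgroup_of_isPGroup [Finite G] {p : ℕ} [Fact p.Prime] {A : Subgroup G} (hA : IsPGroup p A)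
    (hp : p ∈ π) : IsPiSubgroup π A := by
  intro r hr hd
  obtain ⟨n, hn⟩ := IsPGroup.iff_card.1 hA
  rw [hn] at hd
  rwa [(Nat.prime_dvd_prime_iff_eq hr Fact.out).1 (hr.dvd_of_dvd_pow hd)]

theorem isPGroup_of_isPiSubgroup [Finite G] {p : ℕ} [Fact p.Prime] {A : Subgroup G}
    (hA : IsPiSubgroup ({p} : Set ℕ) A) : IsPGroup p A := by
  refine IsPGroup.iff_card.2 ⟨_, Nat.eq_prime_pow_of_unique_prime_dvd (Nat.card_pos).ne' fun hr hd => ?_⟩
  exact hA _ hr hd

/-- Subgroups whose orders have no common prime divisor. -/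
theorem coprime_card_of_isPiSubgroup {H : Type*} [Group H] {A : Subgroup G} {B : Subgroup H}
    (hA : IsPiSubgroup π A) (hB : IsPiSubgroup ρ B) (h : Disjoint π ρ) :
    (Nat.card A).Coprime (Nat.card B) :=
  Nat.coprime_of_dvd fun r hr hdA hdB =>
    Set.disjoint_left.1 h (hA r hr hdA) (hB r hr hdB)

theorem inf_eq_bot_of_isPiSubgroup {A B : Subgroup G}
    (hA : IsPiSubgroup π A) (hB : IsPiSubgroup ρ B) (h : Disjoint π ρ) : A ⊓ B = ⊥ :=
  Subgroup.inf_eq_bot_of_coprime (coprime_card_of_isPiSubgroup hA hB h)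

theorem coprime_card_primesNotDvd {H : Type*} [Group H] {A : Subgroup H} {n : ℕ}
    (hA : IsPiSubgroup (Cfsg.primesNotDvd n) A) : n.Coprime (Nat.card A) :=
  Nat.coprime_of_dvd fun r hr hn hd => (hA r hr hd).2 hn

theorem isPiSubgroup_primesNotDvd_of_coprime {A : Subgroup G} {n : ℕ}
    (h : n.Coprime (Nat.card A)) : IsPiSubgroup (Cfsg.primesNotDvd n) A :=
  fun _ hr hd => ⟨hr, fun hn => hr.not_dvd_one (h ▸ Nat.dvd_gcd hn hd)⟩

theorem isPiSubgroup_sup_of_normal {A B : Subgroup G} [B.Normal]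
    (hA : IsPiSubgroup π A) (hB : IsPiSubgroup π B) : IsPiSubgroup π (A ⊔ B) := by
  intro r hr hd
  have h1 : Nat.card ↥(A ⊔ B) = Nat.card B * B.relIndex A := by
    rw [← Subgroup.relIndex_sup_right (H := A) (K := B), ← Subgroup.relIndex_bot_left (H := A ⊔ B),
      ← Subgroup.relIndex_mul_relIndex ⊥ B (A ⊔ B) bot_le le_sup_right,
      Subgroup.relIndex_bot_left]
  rcases hr.dvd_mul.1 (h1 ▸ hd) with h | h
  · exact hB r hr h
  · exact hA r hr (h.trans (Subgroup.relIndex_dvd_card B A))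

theorem isPiSubgroup_sup {A B : Subgroup G} (hn : A ≤ normalizer (B : Set G))
    (hA : IsPiSubgroup π A) (hB : IsPiSubgroup π B) : IsPiSubgroup π (A ⊔ B) := by
  set N := normalizer (B : Set G) with hN
  have hBN : B ≤ N := le_normalizer
  haveI : (B.subgroupOf N).Normal := Subgroup.normal_in_normalizer
  have h := isPiSubgroup_map N.subtype
    (isPiSubgroup_sup_of_normal (isPiSubgroup_subgroupOf (M := N) hA)
      (isPiSubgroup_subgroupOf (M := N) hB))
  rwa [Subgroup.map_sup, map_subgroupOf_eq_of_le hn, map_subgroupOf_eq_of_le hBN] at h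

/-- `piCore` is a π-subgroup. -/
theorem isPiSubgroup_piCore (π : Set ℕ) (G : Type*) [Group G] [Finite G] :
    IsPiSubgroup π (Cfsg.piCore π G) := by
  unfold Cfsg.piCore
  set S := {N : Subgroup G | N.Normal ∧ ∀ p : ℕ, p.Prime → p ∣ Nat.card N → p ∈ π}
  suffices key : ∀ T : Set (Subgroup G), T.Finite → T ⊆ S →
      (sSup T).Normal ∧ IsPiSubgroup π (sSup T) from (key S (Set.toFinite _) subset_rfl).2
  intro T hT
  induction T, hT using Set.Finite.induction_on with
  | empty =>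
    intro _
    rw [sSup_empty]
    exact ⟨inferInstance, isPiSubgroup_bot π⟩
  | @insert a T _ _ ih =>
    intro hsub
    obtain ⟨hn, hp⟩ := ih ((Set.subset_insert _ _).trans hsub)
    obtain ⟨han, hap⟩ := hsub (Set.mem_insert _ _)
    rw [sSup_insert]
    haveI := han
    haveI := hn
    exact ⟨inferInstance, isPiSubgroup_sup_of_normal hap hp⟩

theorem le_piCore {N : Subgroup G} [hN : N.Normal] (h : IsPiSubgroup π N) : N ≤ Cfsg.piCore π G :=
  le_sSup ⟨hN, h⟩

instance piCoreCharacteristic (π : Set ℕ) (G : Type*) [Group G] :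
    (Cfsg.piCore π G).Characteristic := by
  rw [Subgroup.characteristic_iff_map_le]
  intro φ
  rw [Cfsg.piCore, sSup_eq_iSup', Subgroup.map_iSup, iSup_le_iff]
  rintro ⟨N, hN, hp⟩
  refine le_iSup_of_le ⟨N.map φ.toMonoidHom, hN.map _ φ.surjective, ?_⟩ le_rfl
  intro q hq hd
  rw [Subgroup.card_map_of_injective φ.injective] at hd
  exact hp q hq hd

theorem piCoreOf_le (π : Set ℕ) (X : Subgroup G) : Cfsg.piCoreOf π X ≤ X :=
  map_subtype_le _

theorem isPiSubgroup_piCoreOf [Finite G] (π : Set ℕ) (X : Subgroup G) :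
    IsPiSubgroup π (Cfsg.piCoreOf π X) :=
  isPiSubgroup_map _ (isPiSubgroup_piCore π X)

/-- A normal π-subgroup of `X` lies in `O_π(X)`. -/
theorem le_piCoreOf {N X : Subgroup G} (hNX : N ≤ X) (hn : X ≤ normalizer (N : Set G))
    (h : IsPiSubgroup π N) : N ≤ Cfsg.piCoreOf π X := by
  haveI : (N.subgroupOf X).Normal := (normal_subgroupOf_iff_le_normalizer hNX).2 hn
  rw [← map_subgroupOf_eq_of_le hNX]
  exact map_mono (le_piCore (isPiSubgroup_subgroupOf h))

/-- The normalizer of `X` normalizes `O_π(X)`. -/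
theorem normalizer_le_normalizer_piCoreOf (π : Set ℕ) (X : Subgroup G) :
    normalizer (X : Set G) ≤ normalizer ((Cfsg.piCoreOf π X : Subgroup G) : Set G) := by
  intro g hg
  rw [mem_normalizer_iff_map_conj_eq] at hg ⊢
  set e : X ≃* X := ((MulAut.conj g).subgroupMap X).trans (MulEquiv.subgroupCongr hg) with he
  have hc : (Cfsg.piCore π X).map e.toMonoidHom = Cfsg.piCore π X :=
    characteristic_iff_map_eq.1 inferInstance e
  unfold Cfsg.piCoreOf
  conv_rhs => rw [← hc]
  rw [map_map, map_map]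
  rfl

theorem le_normalizer_piCoreOf (π : Set ℕ) (X : Subgroup G) :
    X ≤ normalizer ((Cfsg.piCoreOf π X : Subgroup G) : Set G) :=
  le_normalizer.trans (normalizer_le_normalizer_piCoreOf π X)

/-- `O_π(X) ∩ Y ≤ O_π(X ∩ Y)`. -/
theorem piCoreOf_inf_le [Finite G] (π : Set ℕ) (X Y : Subgroup G) :
    Cfsg.piCoreOf π X ⊓ Y ≤ Cfsg.piCoreOf π (X ⊓ Y) := by
  refine le_piCoreOf (inf_le_inf_right _ (piCoreOf_le π X)) ?_
    (isPiSubgroup_mono inf_le_left (isPiSubgroup_piCoreOf π X))
  intro g hg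
  rw [mem_normalizer_iff]
  intro x
  have h1 := (mem_normalizer_iff.1 (le_normalizer_piCoreOf π X hg.1)) x
  have h2 := (mem_normalizer_iff.1 (le_normalizer hg.2 : g ∈ normalizer (Y : Set G))) x
  exact and_congr h1 h2

theorem piCoreOf_mono {X : Subgroup G} [Finite G] (h : π ⊆ ρ) :
    Cfsg.piCoreOf π X ≤ Cfsg.piCoreOf ρ X :=
  le_piCoreOf (piCoreOf_le π X) (le_normalizer_piCoreOf π X)
    (isPiSubgroup_of_subset h (isPiSubgroup_piCoreOf π X))

end CfsgLib.OddOrder
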