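import Cfsg.Agent.Coprime.Action
import Cfsg.Agent.Coprime.PTimesQ
import Cfsg.Agent.OddOrder.BG1Stab
import Mathlib.GroupTheory.PGroup

/-!
# A `p'`-group fixing the fixed points of a `p`-group that normalises it

For a `p`-group `W` acted on by a `p'`-group `Y` and a `p`-group `A` normalising `Y`: if `Y`
centralises `C_W(A)` then `Y` centralises `W` when `p` is odd; for `p = 2` the same holds
provided `A` acts quadratically. For `p` odd the reduction is to class two and then to the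
abelian group given by Baer's correspondence.
-/

set_option autoImplicit false
open scoped commutatorElement

namespace CfsgLib.OddOrder

/-- Baer's abelian group on a class two group in which central commutators have square roots
given by the exponent `k`. -/
structure BaerGroup {W : Type*} [Group W] (k : ℕ)
    (hc : ∀ a b c : W, Commute ⁅a, b⁆ c) (hk : ∀ a b : W, (⁅a, b⁆ ^ k) ^ 2 = ⁅a, b⁆) where
  /-- The underlying element. -/
  val : W

namespace BaerGroup

variable {W : Type*} [Group W] {k : ℕ} {hc : ∀ a b c : W, Commute ⁅a, b⁆ c}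
  {hk : ∀ a b : W, (⁅a, b⁆ ^ k) ^ 2 = ⁅a, b⁆}

theorem comm_mul_right (hc : ∀ a b c : W, Commute ⁅a, b⁆ c) (z x y : W) :
    ⁅z, x * y⁆ = ⁅z, x⁆ * ⁅z, y⁆ := by
  have h : ⁅z, x * y⁆ = ⁅z, x⁆ * (x * ⁅z, y⁆ * x⁻¹) := by
    simp only [commutatorElement_def]; group
  rw [h, ← (hc z y x).eq, mul_inv_cancel_right]

theorem comm_mul_left (hc : ∀ a b c : W, Commute ⁅a, b⁆ c) (x y z : W) :
    ⁅x * y, z⁆ = ⁅x, z⁆ * ⁅y, z⁆ := by
  have h : ⁅x * y, z⁆ = x * ⁅y, z⁆ * x⁻¹ * ⁅x, z⁆ := by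
    simp only [commutatorElement_def]; group
  rw [h, ← (hc y z x).eq, mul_inv_cancel_right, (hc y z ⁅x, z⁆).eq]

theorem comm_central_right (hc : ∀ a b c : W, Commute ⁅a, b⁆ c) (z x y : W) (n : ℕ) :
    ⁅z, ⁅x, y⁆ ^ n⁆ = 1 :=
  commutatorElement_eq_one_iff_mul_comm.2 ((hc x y z).pow_left n).eq.symm

theorem comm_central_left (hc : ∀ a b c : W, Commute ⁅a, b⁆ c) (z x y : W) (n : ℕ) :
    ⁅⁅x, y⁆ ^ n, z⁆ = 1 :=
  commutatorElement_eq_one_iff_mul_comm.2 ((hc x y z).pow_left n).eq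

/-- The Baer operation. -/
def op (k : ℕ) (x y : W) : W := x * y * ⁅y, x⁆ ^ k

theorem op_assoc (hc : ∀ a b c : W, Commute ⁅a, b⁆ c) (x y z : W) :
    op k (op k x y) z = op k x (op k y z) := by
  simp only [op]
  rw [comm_mul_right hc z (x * y), comm_central_right hc, mul_one, comm_mul_right hc z x,
    comm_mul_left hc (y * z), comm_central_left hc, mul_one, comm_mul_left hc y z,
    (hc z x _).mul_pow, (hc y x _).mul_pow]
  have e1 : ⁅y, x⁆ ^ k * z = z * ⁅y, x⁆ ^ k := ((hc y x z).pow_left k).eq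
  have e2 : ⁅y, x⁆ ^ k * (⁅z, x⁆ ^ k * ⁅z, y⁆ ^ k)
      = ⁅z, y⁆ ^ k * (⁅y, x⁆ ^ k * ⁅z, x⁆ ^ k) := by
    rw [← mul_assoc]
    exact (((hc z y _).pow_left k).eq).symm
  simp only [mul_assoc] at *
  rw [← mul_assoc (⁅y, x⁆ ^ k) z, e1, mul_assoc, e2]

theorem op_comm (hc : ∀ a b c : W, Commute ⁅a, b⁆ c) (hk : ∀ a b : W, (⁅a, b⁆ ^ k) ^ 2 = ⁅a, b⁆)
    (x y : W) : op k x y = op k y x := by
  simp only [op]
  rw [← commutatorElement_inv y x]
  have h1 : x * y = ⁅y, x⁆⁻¹ * (y * x) := by rw [commutatorElement_def]; group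
  rw [h1, mul_assoc, ← ((hc y x (y * x)).pow_left k).eq, ← mul_assoc,
    ← ((hc y x (y * x)).inv_left.pow_left k).eq]
  congr 1
  rw [inv_pow, inv_mul_eq_iff_eq_mul, eq_mul_inv_iff_mul_eq, ← sq]
  exact hk y x

instance instCommGroupBaerGroup : CommGroup (BaerGroup k hc hk) where
  mul a b := ⟨op k a.val b.val⟩
  one := ⟨1⟩
  inv a := ⟨a.val⁻¹⟩
  mul_assoc a b c := congrArg BaerGroup.mk (op_assoc hc a.val b.val c.val)
  one_mul a := congrArg BaerGroup.mk (show op k 1 a.val = a.val by simp [op])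
  mul_one a := congrArg BaerGroup.mk (show op k a.val 1 = a.val by simp [op])
  inv_mul_cancel a := congrArg BaerGroup.mk (show op k a.val⁻¹ a.val = 1 by
    simp [op, commutatorElement_def])
  mul_comm a b := congrArg BaerGroup.mk (op_comm hc hk a.val b.val)

theorem val_mul (a b : BaerGroup k hc hk) : (a * b).val = op k a.val b.val := rfl

theorem val_one : (1 : BaerGroup k hc hk).val = 1 := rfl

/-- The underlying bijection. -/
def equiv : BaerGroup k hc hk ≃ W := ⟨BaerGroup.val, BaerGroup.mk, fun _ => rfl, fun _ => rfl⟩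

/-- An automorphism of `W` is one of the Baer group. -/
def aut (φ : MulAut W) : BaerGroup k hc hk ≃* BaerGroup k hc hk where
  toFun a := ⟨φ a.val⟩
  invFun a := ⟨φ.symm a.val⟩
  left_inv a := congrArg BaerGroup.mk (φ.symm_apply_apply a.val)
  right_inv a := congrArg BaerGroup.mk (φ.apply_symm_apply a.val)
  map_mul' a b := congrArg BaerGroup.mk (by
    show φ (a.val * b.val * ⁅b.val, a.val⁆ ^ k) = op k (φ a.val) (φ b.val)
    simp [op, map_commutatorElement])

theorem aut_val (φ : MulAut W) (a : BaerGroup k hc hk) : (aut φ a).val = φ a.val := rfl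

end BaerGroup

/-- Class two, `p` odd: if `Y` acts nontrivially, then some element fixed by `A` is moved by `Y`. -/
theorem exists_fixed_moved_of_class_two {W : Type*} [Group W] [Finite W] {p : ℕ} [Fact p.Prime]
    (hp : p ≠ 2) (hW : IsPGroup p W) (hc : ∀ a b c : W, Commute ⁅a, b⁆ c)
    {Y A : Type*} [Group Y] [Group A] [Finite Y] [Finite A] (φ : Y →* MulAut W) (ψ : A →* MulAut W)
    (hA : IsPGroup p A) (hY : (Nat.card Y).Coprime p)
    (hnorm : ∀ a : A, ∃ σ : Y ≃ Y, ∀ y w, ψ a (φ y w) = φ (σ y) (ψ a w))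
    (hne : ∃ y w, φ y w ≠ w) :
    ∃ x : W, (∀ a, ψ a x = x) ∧ ∃ y, φ y x ≠ x := by
  classical
  obtain ⟨m, hm⟩ := IsPGroup.iff_card.1 hW
  have hodd : Odd (p ^ m) := ((Fact.out : p.Prime).odd_of_ne_two hp).pow
  obtain ⟨j, hj⟩ := hodd
  have hk : ∀ a b : W, (⁅a, b⁆ ^ (j + 1)) ^ 2 = ⁅a, b⁆ := by
    intro a b
    rw [← pow_mul, show (j + 1) * 2 = p ^ m + 1 by omega, pow_succ, ← hm, pow_card_eq_one',
      one_mul]
  haveI : Finite (BaerGroup (j + 1) hc hk) := Finite.of_equiv W BaerGroup.equiv.symm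
  haveI := Fintype.ofFinite Y
  let f : BaerGroup (j + 1) hc hk →* BaerGroup (j + 1) hc hk :=
    ∏ y : Y, (BaerGroup.aut (φ y)).toMonoidHom
  have hf : ∀ b, f b = ∏ y : Y, BaerGroup.aut (φ y) b := fun b => MonoidHom.finsetProd_apply _ _ _
  have hcard : Nat.card (BaerGroup (j + 1) hc hk) = p ^ m :=
    hm ▸ Nat.card_congr BaerGroup.equiv
  -- invariance of the kernel
  have hfA : ∀ (a : A) b, f (BaerGroup.aut (ψ a) b) = BaerGroup.aut (ψ a) (f b) := by
    intro a b
    obtain ⟨σ, hσ⟩ := hnorm a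
    rw [hf, hf, map_prod]
    refine (Fintype.prod_equiv σ _ _ fun y => ?_).symm
    exact congrArg BaerGroup.mk (hσ y b.val)
  letI : MulAction A f.ker :=
    { smul := fun a b => ⟨BaerGroup.aut (ψ a) b.1, by
        rw [MonoidHom.mem_ker, hfA, MonoidHom.mem_ker.1 b.2, map_one]⟩
      one_smul := fun b => Subtype.ext (congrArg BaerGroup.mk
        (show ψ 1 b.1.val = b.1.val by simp))
      mul_smul := fun a a' b => Subtype.ext (congrArg BaerGroup.mk
        (show ψ (a * a') b.1.val = ψ a (ψ a' b.1.val) by simp)) }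
  haveI : Nontrivial f.ker := by
    rw [Subgroup.nontrivial_iff_ne_bot]
    intro hbot
    obtain ⟨y₀, w, hw⟩ := hne
    have hinj : Function.Injective f := (MonoidHom.ker_eq_bot_iff f).1 hbot
    refine hw (congrArg BaerGroup.val (hinj (a₁ := BaerGroup.aut (φ y₀) ⟨w⟩) (a₂ := ⟨w⟩) ?_))
    rw [hf, hf]
    refine Fintype.prod_equiv (Equiv.mulRight y₀) _ _ fun y => congrArg BaerGroup.mk ?_
    show φ y (φ y₀ w) = φ (y * y₀) w
    simp
  obtain ⟨n, hn, hn'⟩ : ∃ n, 0 < n ∧ Nat.card f.ker = p ^ n := by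
    have hd : Nat.card f.ker ∣ p ^ m := hcard ▸ Subgroup.card_subgroup_dvd_card f.ker
    obtain ⟨n, -, hn⟩ := (Nat.dvd_prime_pow (Fact.out : p.Prime)).1 hd
    refine ⟨n, Nat.pos_of_ne_zero fun h => ?_, hn⟩
    rw [h, pow_zero] at hn
    exact (Subgroup.nontrivial_iff_ne_bot f.ker).1 ‹_› (Subgroup.card_eq_one.1 hn)
  obtain ⟨x, hx, hx1⟩ := hA.exists_fixed_point_of_prime_dvd_card_of_fixed_point (α := f.ker)
    (hn' ▸ dvd_pow_self p hn.ne') (a := 1)
    (fun a => Subtype.ext (congrArg BaerGroup.mk (map_one (ψ a))))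
  refine ⟨x.1.val, fun a => congrArg (fun b : f.ker => b.1.val) (hx a), ?_⟩
  by_contra hall
  push_neg at hall
  refine hx1 (Eq.symm (Subtype.ext ?_))
  have h1 : f x.1 = x.1 ^ Nat.card Y := by
    have hy : ∀ y : Y, BaerGroup.aut (φ y) x.1 = x.1 := fun y => congrArg BaerGroup.mk (hall y)
    rw [hf]
    simp only [hy, Finset.prod_const, Finset.card_univ, Nat.card_eq_fintype_card]
  rw [MonoidHom.mem_ker.1 x.2] at h1
  exact orderOf_eq_one_iff.1 (Nat.eq_one_of_dvd_coprimes (hY.pow_right m)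
    (orderOf_dvd_of_pow_eq_one h1.symm) (hcard ▸ orderOf_dvd_natCard x.1))

section Internal

open Subgroup

variable {X : Type*} [Group X] [Finite X] {p : ℕ} [Fact p.Prime]

/-- `p` odd, `A` a `p`-group normalising the `p'`-group `Y`, both normalising the `p`-group `W`:
if `Y` centralises `C_W(A)` then `Y` centralises `W`. -/
theorem le_centralizer_of_fixed_points_le (hp : p ≠ 2) {W A Y : Subgroup X} (hW : IsPGroup p W)
    (hA : IsPGroup p A) (hY : (Nat.card Y).Coprime p) (hAY : A ≤ normalizer (Y : Set X))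
    (hAW : A ≤ normalizer (W : Set X)) (hYW : Y ≤ normalizer (W : Set X))
    (hC : W ⊓ centralizer (A : Set X) ≤ centralizer (Y : Set X)) :
    Y ≤ centralizer (W : Set X) := by
  induction W using WellFoundedLT.induction with
  | _ W ih =>
  have hcop : (Nat.card Y).Coprime (Nat.card W) := by
    obtain ⟨n, hn⟩ := IsPGroup.iff_card.1 hW
    rw [hn]; exact hY.pow_right n
  have hrec : ∀ V : Subgroup X, V < W → A ≤ normalizer (V : Set X) → Y ≤ normalizer (V : Set X) →
      Y ≤ centralizer (V : Set X) := fun V hV h1 h2 =>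
    ih V hV (hW.to_le hV.le) h1 h2 ((inf_le_inf_right _ hV.le).trans hC)
  rcases eq_or_ne W ⊥ with rfl | hne
  · intro y _
    simp [mem_centralizer_iff]
  have hnorm2 : ∀ {B U V : Subgroup X}, B ≤ normalizer (U : Set X) → B ≤ normalizer (V : Set X) →
      B ≤ normalizer ((⁅U, V⁆ : Subgroup X) : Set X) := fun hU hV =>
    CfsgLib.Coprime.le_normalizer_of_eq_self fun b hb => by
      show map (MulAut.conj b).toMonoidHom _ = _
      rw [map_commutator]
      exact congrArg₂ _ (CfsgLib.Coprime.conj_smul_eq_self (hU hb))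
        (CfsgLib.Coprime.conj_smul_eq_self (hV hb))
  by_cases hWY : ⁅W, Y⁆ = W
  swap
  · refine CfsgLib.Coprime.le_centralizer_of_commutator_commutator_eq_bot hYW hcop ?_
    rw [commutator_eq_bot_iff_le_centralizer]
    exact le_centralizer_iff.1 (hrec _
      ((CfsgLib.Coprime.commutator_le_of_le_normalizer hYW).lt_of_ne hWY)
      (hnorm2 hAW hAY) (normalizer_commutator_ge_right W Y))
  have hW'lt : ⁅W, W⁆ < W := CfsgLib.Coprime.commutator_lt_of_isPGroup hW hW le_normalizer hne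
  have hW'Y : ⁅W, W⁆ ≤ centralizer (Y : Set X) :=
    le_centralizer_iff.1 (hrec _ hW'lt (hnorm2 hAW hAW) (hnorm2 hYW hYW))
  -- class two
  have hcl : ⁅⁅W, W⁆, W⁆ = ⊥ := by
    have h1 : ⁅⁅⁅W, W⁆, W⁆, Y⁆ = ⊥ := by
      rw [commutator_eq_bot_iff_le_centralizer]
      exact (CfsgLib.Coprime.commutator_le_of_le_normalizer
        (normalizer_commutator_ge_left W W)).trans hW'Y
    have h2 : ⁅⁅Y, ⁅W, W⁆⁆, W⁆ = ⊥ := by
      rw [commutator_comm Y, commutator_eq_bot_iff_le_centralizer.2 hW'Y, commutator_bot_left]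
    have h3 := commutator_commutator_eq_bot_of_rotate h2 h1
    rw [hWY, commutator_comm W ⁅W, W⁆] at h3
    exact h3
  have hc : ∀ a b c : W, Commute ⁅a, b⁆ c := fun a b c => Subtype.ext (by
    have h := commutator_mem_commutator
      (commutator_mem_commutator a.2 b.2) c.2
    rw [hcl, mem_bot, commutatorElement_eq_one_iff_mul_comm] at h
    exact h)
  by_contra hcon
  obtain ⟨y₀, hy₀, hy₀'⟩ := SetLike.not_le_iff_exists.1 hcon
  rw [mem_centralizer_iff] at hy₀'
  push_neg at hy₀'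
  obtain ⟨w₀, hw₀, hw₀'⟩ := hy₀'
  let φ : Y →* MulAut W := (normalizerMonoidHom W).comp (inclusion hYW)
  let ψ : A →* MulAut W := (normalizerMonoidHom W).comp (inclusion hAW)
  have hφ : ∀ (y : Y) (w : W), ((φ y w : W) : X) = (y : X) * w * (y : X)⁻¹ := fun y w => rfl
  have hψ : ∀ (a : A) (w : W), ((ψ a w : W) : X) = (a : X) * w * (a : X)⁻¹ := fun a w => rfl
  obtain ⟨x, hxA, y, hxy⟩ := exists_fixed_moved_of_class_two hp hW hc φ ψ hA hY
    (fun a => ⟨{ toFun := fun y => ⟨(a : X) * y * (a : X)⁻¹,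
                    ((mem_normalizer_iff.1 (hAY a.2)) _).1 y.2⟩
                 invFun := fun y => ⟨(a : X)⁻¹ * y * (a : X),
                    ((mem_normalizer_iff''.1 (hAY a.2)) _).1 y.2⟩
                 left_inv := fun y => Subtype.ext (by simp [mul_assoc])
                 right_inv := fun y => Subtype.ext (by simp [mul_assoc]) },
      fun y w => Subtype.ext (by
        simp only [hφ, hψ, Equiv.coe_fn_mk]
        group)⟩)
    ⟨⟨y₀, hy₀⟩, ⟨w₀, hw₀⟩, fun h => hw₀' (by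
      have h' := congrArg Subtype.val h
      rw [hφ] at h'
      exact (mul_inv_eq_iff_eq_mul.1 h').symm)⟩
  refine hxy (Subtype.ext ?_)
  have hxc : (x : X) ∈ centralizer (A : Set X) := by
    rw [mem_centralizer_iff]
    intro a ha
    have h' := congrArg Subtype.val (hxA ⟨a, ha⟩)
    rw [hψ] at h'
    exact mul_inv_eq_iff_eq_mul.1 h'
  rw [hφ, mul_inv_eq_iff_eq_mul]
  exact mem_centralizer_iff.1 (hC ⟨x.2, hxc⟩) y y.2

/-- `A` acting quadratically on `W` with `Y` centralising `C_W(A)`: `Y` centralises `W`. -/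
theorem le_centralizer_of_fixed_points_le_of_quadratic {W A Y : Subgroup X} (hW : IsPGroup p W)
    (hA : IsPGroup p A) (hY : (Nat.card Y).Coprime p) (hAY : A ≤ normalizer (Y : Set X))
    (hAW : A ≤ normalizer (W : Set X)) (hYW : Y ≤ normalizer (W : Set X))
    (hquad : ⁅⁅W, A⁆, A⁆ = ⊥) (hYW1 : Y ⊓ centralizer (W : Set X) = ⊥)
    (hC : W ⊓ centralizer (A : Set X) ≤ centralizer (Y : Set X)) :
    Y ≤ centralizer (W : Set X) := by
  refine CfsgLib.Coprime.le_centralizer_of_inf_centralizer_le hA hY hW ?_ hAW hYW hC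
  have hfix : ∀ w ∈ W, ∀ a ∈ A, a * w * a⁻¹ * w⁻¹ ∈ W ⊓ centralizer (Y : Set X) := by
    intro w hw a ha
    have h1 : a * w * a⁻¹ * w⁻¹ ∈ ⁅W, A⁆ := by
      rw [commutator_comm, ← commutatorElement_def]
      exact commutator_mem_commutator ha hw
    have hle : ⁅W, A⁆ ≤ W := CfsgLib.Coprime.commutator_le_of_le_normalizer hAW
    exact ⟨hle h1, hC ⟨hle h1, commutator_eq_bot_iff_le_centralizer.1 hquad h1⟩⟩
  rw [← commutator_eq_bot_iff_le_centralizer, eq_bot_iff, commutator_le]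
  intro a ha y hy
  have hbY : ⁅a, y⁆ ∈ Y := by
    rw [commutatorElement_def]
    exact Y.mul_mem (((mem_normalizer_iff.1 (hAY ha)) _).1 hy) (Y.inv_mem hy)
  rw [← hYW1]
  refine ⟨hbY, ?_⟩
  intro w hw
  have hu : y⁻¹ * w * y ∈ W := ((mem_normalizer_iff''.1 (hYW hy)) _).1 hw
  set u := y⁻¹ * w * y with hudef
  have hd := hfix u hu a⁻¹ (inv_mem ha)
  set d := a⁻¹ * u * a⁻¹⁻¹ * u⁻¹ with hddef
  have hc := hfix w hw a ha
  set c := a * w * a⁻¹ * w⁻¹ with hcdef
  have hdy : y * d * y⁻¹ = d := by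
    rw [mem_centralizer_iff.1 hd.2 y hy, mul_inv_cancel_right]
  have hda : a * d * a⁻¹ * d⁻¹ = 1 := by
    have h1 : d ∈ ⁅W, A⁆ := by
      rw [hddef, commutator_comm, ← commutatorElement_def]
      exact commutator_mem_commutator (inv_mem ha) hu
    have h2 := mem_centralizer_iff.1 (commutator_eq_bot_iff_le_centralizer.1 hquad h1) a ha
    rw [h2, mul_inv_cancel_right, mul_inv_cancel]
  have key : ⁅a, y⁆ * w * ⁅a, y⁆⁻¹ = d * c * w := by
    rw [mul_inv_eq_one] at hda
    calc ⁅a, y⁆ * w * ⁅a, y⁆⁻¹ = a * (y * (a⁻¹ * u * a) * y⁻¹) * a⁻¹ := by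
          rw [hudef, commutatorElement_def]; group
      _ = a * (y * (d * u) * y⁻¹) * a⁻¹ := by
          rw [hddef]; group
      _ = a * ((y * d * y⁻¹) * w) * a⁻¹ := by rw [hudef]; group
      _ = (a * d * a⁻¹) * (c * w) := by rw [hdy, hcdef]; group
      _ = _ := by rw [hda]; exact (mul_assoc d c w).symm
  have hg : ⁅⁅a, y⁆, w⁆ = d * c := by
    rw [commutatorElement_def ⁅a, y⁆, key]; group
  have hdc : d * c ∈ W ⊓ centralizer (Y : Set X) := Subgroup.mul_mem _ hd hc
  have hcom := Stab.commute_of_stab_mem (H := W) (a := ⁅a, y⁆) (x := w)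
    (by rw [hg]; exact mem_centralizer_iff.1 hdc.2 _ hbY) (hg ▸ hdc.1) (by
      obtain ⟨n, hn⟩ := IsPGroup.iff_card.1 hW
      rw [hn]
      exact (Stab.coprime_orderOf_of_mem hbY hY).pow_right n)
  exact hcom.eq.symm

end Internal

end CfsgLib.OddOrder
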