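import Cfsg.Prelude.Def_OddOrderLocal
import Cfsg.Prelude.Def_Local
import Cfsg.Agent.PLocal.Constraint
import Cfsg.Agent.Coprime.Generation
import Cfsg.Agent.OddOrder.FixedPointGeneration

/-!
# The transitivity theorem for groups with p-constrained p-local subgroups

* `le_pPrimeCore_of_invariant`: in a p-constrained group a p'-subgroup normalised by an abelian
  p-subgroup `E` containing all p-elements of its centralizer lies in `O_{p'}` (for `p = 2`, when
  the Sylow 2-subgroups have class at most two).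
* `exists_conj_of_maxInvSubgroups`: the transitivity theorem.
-/

set_option autoImplicit false
open scoped commutatorElement Pointwise

namespace CfsgLib.OddOrder

open Cfsg Subgroup

/-- If the lower central series stops after two steps, double commutators vanish. -/
theorem commutator_commutator_mem_eq_one {G : Type*} [Group G] (hnil : Group.IsNilpotent G)
    (hcl : Group.nilpotencyClass G ≤ 2) (x y z : G) : ⁅⁅x, y⁆, z⁆ = 1 := by
  haveI := hnil
  have h2 : (⊤ : Subgroup G).lowerCentralSeries 2 = ⊥ :=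
    Subgroup.lowerCentralSeries_eq_bot_iff_nilpotencyClass_le.2 hcl
  have hmem : ⁅⁅x, y⁆, z⁆ ∈ (⊤ : Subgroup G).lowerCentralSeries 2 := by
    rw [Subgroup.lowerCentralSeries_succ]
    refine commutator_mem_commutator ?_ (mem_top z)
    rw [Subgroup.lowerCentralSeries_succ, Subgroup.lowerCentralSeries_zero]
    exact commutator_mem_commutator (mem_top x) (mem_top y)
  rwa [h2, mem_bot] at hmem

/-- An abelian `p`-subgroup containing the `p`-elements of its centralizer in a `p`-constrained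
group: invariant `p'`-subgroups lie in `O_{p'}`. -/
theorem le_pPrimeCore_of_invariant {H : Type*} [Group H] [Finite H] {p : ℕ} [Fact p.Prime]
    (hcon : IsPConstrained p H)
    (h2 : p = 2 → ∀ P : Subgroup H, IsPGroup p P → ∀ x ∈ P, ∀ y ∈ P, ∀ z ∈ P, ⁅⁅x, y⁆, z⁆ = 1)
    {E : Subgroup H} (hEp : IsPGroup p E)
    (hfull : ∀ x ∈ centralizer (E : Set H), IsPGroup p (zpowers x) → x ∈ E)
    {Y : Subgroup H} (hY : (Nat.card Y).Coprime p) (hEY : E ≤ normalizer (Y : Set H)) :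
    Y ≤ pPrimeCore p H := by
  set M := pPrimeCore p H with hM
  set π := QuotientGroup.mk' M with hπ
  set W := pCore p (H ⧸ M) with hW
  have hWp : IsPGroup p W := CfsgLib.PLocal.isPGroup_pCore p _
  have hCW : centralizer (W : Set (H ⧸ M)) ≤ W := CfsgLib.PLocal.isPConstrained_iff.1 hcon
  have hYbar : (Nat.card (Y.map π)).Coprime p := hY.coprime_dvd_left (card_map_dvd Y π)
  have hdisj : Y.map π ⊓ W = ⊥ := by
    rw [inf_comm]; exact CfsgLib.PLocal.disjoint_of_isPGroup_of_coprime hWp hYbar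
  have hEbarY : E.map π ≤ normalizer ((Y.map π : Subgroup (H ⧸ M)) : Set (H ⧸ M)) :=
    (map_mono hEY).trans (le_normalizer_map π)
  -- the fixed points of `E` on `W` come from `E`
  have hfix : W ⊓ centralizer ((E.map π : Subgroup (H ⧸ M)) : Set (H ⧸ M)) ≤ E.map π := by
    intro c hc
    obtain ⟨hcW, hcC⟩ := Subgroup.mem_inf.1 hc
    rw [CfsgLib.PLocal.centralizer_map_mk'_eq M (CfsgLib.PLocal.coprime_card_pPrimeCore p H) hEp,
      mem_map] at hcC
    obtain ⟨x, hx, rfl⟩ := hcC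
    obtain ⟨k, hk⟩ := IsPGroup.iff_card.1 hWp
    obtain ⟨n, hn⟩ := Nat.exists_eq_succ_of_ne_zero (orderOf_pos x).ne'
    -- replace `x` by its `p`-part
    set o := orderOf x with ho
    set e := o.factorization p with he
    have hcop : (o / p ^ e).Coprime (p ^ k) := by
      refine Nat.Coprime.pow_right k ?_
      rw [Nat.coprime_comm, (Fact.out : p.Prime).coprime_iff_not_dvd]
      exact Nat.not_dvd_ordCompl Fact.out (orderOf_pos x).ne'
    have hp : orderOf (π x) ∣ p ^ k := by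
      rw [← hk, ← Subgroup.orderOf_mk (π x) hcW]
      exact orderOf_dvd_natCard _
    obtain ⟨j, hj⟩ := exists_pow_eq_self_of_coprime (x := π x)
      (n := o / p ^ e) ((hcop.coprime_dvd_right hp))
    refine ⟨(x ^ (o / p ^ e)) ^ j, hfull _ (pow_mem (pow_mem hx _) _) ?_, by rw [map_pow, map_pow]; exact hj⟩
    refine fun y => ⟨e, Subtype.ext ?_⟩
    obtain ⟨i, hi⟩ := mem_zpowers_iff.1 y.2
    rw [SubmonoidClass.coe_pow, ← hi, ← zpow_natCast, zpow_comm, zpow_natCast, ← pow_mul,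
      ← pow_mul, mul_comm j, ← mul_assoc, Nat.div_mul_cancel (Nat.ordProj_dvd o p), pow_mul,
      pow_orderOf_eq_one, one_pow, one_zpow, coe_one]
  have hC : W ⊓ centralizer ((E.map π : Subgroup (H ⧸ M)) : Set (H ⧸ M))
      ≤ centralizer ((Y.map π : Subgroup (H ⧸ M)) : Set (H ⧸ M)) := by
    intro c hc
    rw [mem_centralizer_iff]
    intro y hy
    have hcn := hEbarY (hfix hc)
    have h1 : ⁅c, y⁆ ∈ Y.map π ⊓ W := by
      rw [commutatorElement_def]
      refine Subgroup.mem_inf.2 ⟨mul_mem ((mem_normalizer_iff.1 hcn y).1 hy) (inv_mem hy), ?_⟩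
      rw [show c * y * c⁻¹ * y⁻¹ = c * (y * c⁻¹ * y⁻¹) by group]
      exact mul_mem hc.1 ((inferInstance : W.Normal).conj_mem _ (inv_mem hc.1) y)
    rw [hdisj, mem_bot, commutatorElement_eq_one_iff_mul_comm] at h1
    exact h1.symm
  have hres : Y.map π ≤ centralizer (W : Set (H ⧸ M)) := by
    by_cases hp2 : p = 2
    · -- a Sylow subgroup above `W E`
      obtain ⟨T, hT⟩ := (hWp.to_sup_of_normal_left (hEp.map π)).exists_le_sylow
      obtain ⟨S, hS⟩ := Sylow.mapSurjective_surjective (QuotientGroup.mk'_surjective M) p T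
      have hcls : ∀ x ∈ W ⊔ E.map π, ∀ y ∈ W ⊔ E.map π, ∀ z ∈ W ⊔ E.map π, ⁅⁅x, y⁆, z⁆ = 1 := by
        intro x hx y hy z hz
        have hle : W ⊔ E.map π ≤ (S : Subgroup H).map π := by
          refine hT.trans ?_
          rw [← hS, Sylow.coe_mapSurjective]
        obtain ⟨x', hx', rfl⟩ := hle hx
        obtain ⟨y', hy', rfl⟩ := hle hy
        obtain ⟨z', hz', rfl⟩ := hle hz
        rw [← map_commutatorElement, ← map_commutatorElement,
          h2 hp2 S S.isPGroup' x' hx' y' hy' z' hz', map_one]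
      refine le_centralizer_of_fixed_points_le_of_quadratic hWp (hEp.map π) hYbar hEbarY
        le_normalizer_of_normal le_normalizer_of_normal ?_ ?_ hC
      · rw [commutator_eq_bot_iff_le_centralizer, commutator_le]
        intro w hw a ha
        rw [mem_centralizer_iff]
        intro b hb
        exact (commutatorElement_eq_one_iff_mul_comm.1 (hcls w (mem_sup_left hw) a
          (mem_sup_right ha) b (mem_sup_right hb))).symm
      · exact le_bot_iff.1 (hdisj ▸ inf_le_inf le_rfl hCW)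
    · exact le_centralizer_of_fixed_points_le hp2 hWp (hEp.map π) hYbar hEbarY
        le_normalizer_of_normal le_normalizer_of_normal hC
  have hbot : Y.map π = ⊥ := le_bot_iff.1 (hdisj ▸ le_inf le_rfl (hres.trans hCW))
  rwa [Subgroup.map_eq_bot_iff, QuotientGroup.ker_mk'] at hbot

section Transitivity

variable {G : Type*} [Group G] [Finite G]

/-- Membership of a `q`-subgroup in `И_G(E; {q})`. -/
theorem mem_invSubgroups_singleton {E Q : Subgroup G} {q : ℕ} [Fact q.Prime] :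
    Q ∈ invSubgroups ⊤ E {q} ↔ IsPGroup q Q ∧ E ≤ normalizer (Q : Set G) := by
  constructor
  · rintro ⟨-, h, hn⟩
    refine ⟨IsPGroup.of_card (n := (Nat.card Q).primeFactorsList.length) ?_, hn⟩
    exact Nat.eq_prime_pow_of_unique_prime_dvd Nat.card_pos.ne' fun {r} hr hrd => h r hr hrd
  · rintro ⟨h, hn⟩
    refine ⟨le_top, fun r hr hrd => ?_, hn⟩
    obtain ⟨k, hk⟩ := IsPGroup.iff_card.1 h
    rw [hk] at hrd
    exact (Nat.prime_dvd_prime_iff_eq hr Fact.out).1 (hr.dvd_of_dvd_pow hrd)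

/-- The largest normal `p'`-subgroup as `piCoreOf`. -/
theorem le_piCoreOf_primesNotDvd {p : ℕ} [Fact p.Prime] {C N : Subgroup G} (hNC : N ≤ C)
    (hn : C ≤ normalizer (N : Set G)) (hN : (Nat.card N).Coprime p) :
    N ≤ piCoreOf (primesNotDvd p) C := by
  rw [piCoreOf, ← map_subgroupOf_eq_of_le hNC]
  refine map_mono (le_sSup ⟨(normal_subgroupOf_iff_le_normalizer hNC).2 hn, fun r hr hrd => ?_⟩)
  rw [Nat.card_congr (subgroupOfEquivOfLe hNC).toEquiv] at hrd
  refine ⟨hr, fun hrp => ?_⟩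
  rw [Nat.prime_dvd_prime_iff_eq hr Fact.out] at hrp
  subst hrp
  exact Nat.Prime.not_coprime_iff_dvd.2 ⟨r, Fact.out, hrd, dvd_rfl⟩ hN

/-- For a nontrivial `p`-element `x` of `E` there is a `p'`-subgroup `K ≤ C(x)`, normalised by
`C(x)`, containing every `E`-invariant `p'`-subgroup of `C(x)`. -/
theorem exists_centralizer_core {p : ℕ} [Fact p.Prime]
    (hloc : ∀ T : Subgroup G, IsPGroup p T → T ≠ ⊥ →
      IsPConstrained p ↥(normalizer (T : Set G)))
    (h2 : p = 2 → ∀ P : Subgroup G, IsPGroup p P → ∀ x ∈ P, ∀ y ∈ P, ∀ z ∈ P, ⁅⁅x, y⁆, z⁆ = 1)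
    {E : Subgroup G} (hEp : IsPGroup p E) (hEc : IsMulCommutative E)
    (hfull : ∀ x ∈ centralizer (E : Set G), IsPGroup p (zpowers x) → x ∈ E)
    {x : G} (hx : x ∈ E) (hx1 : x ≠ 1) :
    ∃ K : Subgroup G, K ≤ centralizer {x} ∧ centralizer {x} ≤ normalizer (K : Set G) ∧
      (Nat.card K).Coprime p ∧ ∀ Y : Subgroup G, (Nat.card Y).Coprime p →
        E ≤ normalizer (Y : Set G) → Y ≤ centralizer {x} → Y ≤ K := by
  set N := normalizer ((zpowers x : Subgroup G) : Set G) with hN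
  have hxp : IsPGroup p (zpowers x) := hEp.to_le (zpowers_le.2 hx)
  have hcxN : centralizer {x} ≤ N := by
    rw [hN, ← centralizer_closure, ← zpowers_eq_closure]
    exact centralizer_le_normalizer _
  have hEN : E ≤ N := le_trans (fun e he => by
    rw [mem_centralizer_singleton_iff]
    exact congrArg Subtype.val (hEc.is_comm.comm ⟨e, he⟩ ⟨x, hx⟩)) hcxN
  have hzN : zpowers x ≤ N := le_normalizer
  refine ⟨(pPrimeCore p N).map N.subtype, ?_, ?_, ?_, ?_⟩
  · haveI : ((zpowers x).subgroupOf N).Normal := (normal_subgroupOf_iff_le_normalizer hzN).2 le_rfl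
    have h1 : ((zpowers x).subgroupOf N) ≤ pCore p N :=
      CfsgLib.PLocal.le_pCore (hxp.comap_subtype)
    rintro _ ⟨k, hk, rfl⟩
    rw [mem_centralizer_singleton_iff]
    have h3 := mem_centralizer_iff.1 (CfsgLib.PLocal.pPrimeCore_le_centralizer_pCore p N hk)
      ⟨x, hzN (mem_zpowers x)⟩ (h1 (mem_subgroupOf.2 (mem_zpowers x)))
    exact (congrArg Subtype.val h3).symm
  · refine hcxN.trans ?_
    have h := le_normalizer_map (H := pPrimeCore p N) N.subtype
    rwa [normalizer_eq_top, ← MonoidHom.range_eq_map, range_subtype] at h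
  · rw [card_map_of_injective N.subtype_injective]
    exact CfsgLib.PLocal.coprime_card_pPrimeCore p N
  · intro Y hY hEY hYx
    have hYN : Y ≤ N := hYx.trans hcxN
    have h := le_pPrimeCore_of_invariant (H := N) (hloc _ hxp (by rwa [ne_eq, zpowers_eq_bot]))
      (fun hp P hP a ha b hb c hc => Subtype.ext
        (h2 hp _ (hP.map N.subtype) a (mem_map_of_mem _ ha) b (mem_map_of_mem _ hb) c
          (mem_map_of_mem _ hc)))
      (E := E.subgroupOf N) (hEp.comap_subtype) ?_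
      (Y := Y.subgroupOf N) (by rwa [Nat.card_congr (subgroupOfEquivOfLe hYN).toEquiv]) ?_
    · rw [← map_subgroupOf_eq_of_le hYN]
      exact map_mono h
    · intro z hz hzp
      rw [mem_subgroupOf]
      refine hfull _ ?_ ?_
      · rw [mem_centralizer_iff]
        intro e he
        exact congrArg Subtype.val (mem_centralizer_iff.1 hz ⟨e, hEN he⟩ (mem_subgroupOf.2 he))
      · show IsPGroup p (zpowers (N.subtype z))
        rw [← MonoidHom.map_zpowers]
        exact hzp.map N.subtype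
    · intro e he
      rw [mem_normalizer_iff]
      intro y
      simp only [mem_subgroupOf, coe_mul, coe_inv]
      exact mem_normalizer_iff.1 (hEY (mem_subgroupOf.1 he)) (y : G)

/-- A noncyclic `E₀ ≤ T` acting coprimely on `R ⊄ D`: some hyperplane of `T` fixes a point of `R`
outside `D`. -/
theorem exists_hyperplane_not_le {p : ℕ} [Fact p.Prime] {T R D : Subgroup G}
    (hT : IsElementaryAbelian p T) (hTR : T ≤ normalizer (R : Set G))
    (hcop : (Nat.card R).Coprime p) (hRD : ¬ R ≤ D) :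
    ∃ B : Subgroup G, B ≤ T ∧ Nat.card T ≤ p * Nat.card B ∧
      ¬ R ⊓ centralizer (B : Set G) ≤ D := by
  obtain ⟨B, ⟨hBT, hB⟩, hmax⟩ := Set.Finite.exists_maximal
    (s := {B : Subgroup G | B ≤ T ∧ ¬ R ⊓ centralizer (B : Set G) ≤ D}) (Set.toFinite _)
    ⟨⊥, bot_le, fun h => hRD fun r hr => h (Subgroup.mem_inf.2 ⟨hr, by
      rw [mem_centralizer_iff]; intro b hb
      rw [SetLike.mem_coe, mem_bot] at hb; simp [hb]⟩)⟩
  refine ⟨B, hBT, ?_, hB⟩
  by_contra hlt
  push_neg at hlt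
  have hTp : IsPGroup p T := fun t => ⟨1, Subtype.ext (by simpa using hT.2 t t.2)⟩
  haveI := hT.1
  have hord : ∀ {b : G}, b ∈ T → b ≠ 1 → orderOf b = p := fun hb h1 =>
    orderOf_eq_prime (hT.2 _ hb) h1
  have hpp : p.Prime := Fact.out
  obtain ⟨b₁, hb₁T, hb₁B⟩ : ∃ b ∈ T, b ∉ B := by
    by_contra h
    push_neg at h
    have := Subgroup.card_le_of_le (show T ≤ B from h)
    have := hpp.two_le
    nlinarith [(Nat.card_pos : 0 < Nat.card B)]
  have hb₁1 : b₁ ≠ 1 := fun h => hb₁B (h ▸ B.one_mem)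
  have hnormT : ∀ S : Subgroup G, S ≤ T → T ≤ normalizer (S : Set G) := fun S hS t ht => by
    rw [mem_normalizer_iff]
    intro s
    constructor
    · intro hs
      have h := congrArg Subtype.val (hT.1.is_comm.comm ⟨t, ht⟩ ⟨s, hS hs⟩)
      simp only [coe_mul] at h
      rwa [h, mul_inv_cancel_right]
    · intro hs
      have hsT : s ∈ T := by
        have := T.mul_mem (T.mul_mem (T.inv_mem ht) (hS hs)) ht
        simpa [mul_assoc] using this
      have h := congrArg Subtype.val (hT.1.is_comm.comm ⟨t, ht⟩ ⟨s, hsT⟩)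
      simp only [coe_mul] at h
      rwa [h, mul_inv_cancel_right] at hs
  obtain ⟨b₂, hb₂T, hb₂B⟩ : ∃ b ∈ T, b ∉ B ⊔ zpowers b₁ := by
    by_contra h
    push_neg at h
    have h1 := Subgroup.card_le_of_le (show T ≤ B ⊔ zpowers b₁ from h)
    have hdis : B ⊓ zpowers b₁ = ⊥ := by
      rw [eq_bot_iff]
      intro z hz
      by_contra hz1
      have hle : zpowers z ≤ B ⊓ zpowers b₁ := zpowers_le.2 hz
      have hzb : zpowers z = zpowers b₁ := eq_of_le_of_card_ge (zpowers_le.2 hz.2) (by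
        rw [Nat.card_zpowers, Nat.card_zpowers, hord hb₁T hb₁1, hord (hBT hz.1) hz1])
      exact hb₁B ((hzb ▸ hle) (mem_zpowers b₁)).1
    rw [CfsgLib.Coprime.card_sup_eq ((zpowers_le.2 hb₁T).trans (hnormT B hBT)) hdis,
      Nat.card_zpowers, hord hb₁T hb₁1, mul_comm] at h1
    omega
  have hb₂1 : b₂ ≠ 1 := fun h => hb₂B (h ▸ one_mem _)
  set A := Subgroup.closure ({b₁, b₂} : Set G) with hA
  have hAT : A ≤ T := (closure_le _).2 (Set.insert_subset hb₁T (Set.singleton_subset_iff.2 hb₂T))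
  have hAc : IsMulCommutative A :=
    ⟨⟨fun u v => Subtype.ext (congrArg Subtype.val
      (hT.1.is_comm.comm ⟨u, hAT u.2⟩ ⟨v, hAT v.2⟩) :)⟩⟩
  have hAB : A ⊓ B = ⊥ := by
    rw [eq_bot_iff]
    rintro z ⟨hzA, hzB⟩
    by_contra hz1
    have hn1 : zpowers b₁ ≤ normalizer ((zpowers b₂ : Subgroup G) : Set G) :=
      (zpowers_le.2 hb₁T).trans (hnormT _ (zpowers_le.2 hb₂T))
    have hAeq : A = zpowers b₂ ⊔ zpowers b₁ := by
      rw [hA, zpowers_eq_closure, zpowers_eq_closure, ← Subgroup.closure_union, Set.union_comm]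
      rfl
    rw [hAeq] at hzA
    obtain ⟨u, hu, v, hv, rfl⟩ := CfsgLib.Coprime.exists_mul_of_mem_sup hn1 hzA
    rcases eq_or_ne u 1 with rfl | hu1
    · rw [one_mul] at hzB hz1
      have hzb : zpowers v = zpowers b₁ := eq_of_le_of_card_ge (zpowers_le.2 hv) (by
        rw [Nat.card_zpowers, Nat.card_zpowers, hord hb₁T hb₁1,
          hord (zpowers_le.2 hb₁T hv) hz1])
      exact hb₁B ((zpowers_le.2 hzB : zpowers v ≤ B) (hzb ▸ mem_zpowers b₁))
    · have hzb : zpowers u = zpowers b₂ := eq_of_le_of_card_ge (zpowers_le.2 hu) (by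
        rw [Nat.card_zpowers, Nat.card_zpowers, hord hb₂T hb₂1,
          hord (zpowers_le.2 hb₂T hu) hu1])
      have hmem : u ∈ B ⊔ zpowers b₁ := by
        have := mul_mem (mem_sup_left (T := zpowers b₁) hzB) (inv_mem (mem_sup_right (S := B) hv))
        rwa [mul_inv_cancel_right] at this
      exact hb₂B ((zpowers_le.2 hmem : zpowers u ≤ B ⊔ zpowers b₁) (hzb ▸ mem_zpowers b₂))
  have hncyc : ¬ IsCyclic A := by
    intro hcyc
    obtain ⟨g, hg⟩ := (Subgroup.isCyclic_iff_exists_zpowers_eq_top A).1 hcyc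
    have hb₁A : b₁ ∈ A := subset_closure (Set.mem_insert _ _)
    have hb₂A : b₂ ∈ A := subset_closure (Set.mem_insert_of_mem _ rfl)
    have hle : A ≤ zpowers b₁ := by
      refine (eq_of_le_of_card_ge (zpowers_le.2 hb₁A) ?_).ge
      rw [← hg, Nat.card_zpowers, Nat.card_zpowers, hord hb₁T hb₁1]
      exact Nat.le_of_dvd hpp.pos (orderOf_dvd_of_pow_eq_one (hT.2 _ (hAT (hg ▸ mem_zpowers g))))
    exact hb₂B (mem_sup_right (hle hb₂A))
  -- apply generation to the fixed points of `B`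
  set R' := R ⊓ centralizer (B : Set G) with hR'
  have hTB : T ≤ normalizer ((centralizer (B : Set G) : Subgroup G) : Set G) := by
    intro t ht
    refine le_normalizer (H := centralizer (B : Set G)) ?_
    rw [mem_centralizer_iff]
    intro b hb
    exact (congrArg Subtype.val (hT.1.is_comm.comm ⟨t, ht⟩ ⟨b, hBT hb⟩)).symm
  have hAR : A ≤ normalizer (R' : Set G) :=
    hAT.trans ((le_inf hTR hTB).trans inf_normalizer_le_normalizer_inf)
  have hcopA : (Nat.card A).Coprime (Nat.card R') := by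
    obtain ⟨n, hn⟩ := IsPGroup.iff_card.1 (hTp.to_le hAT)
    rw [hn]
    exact (hcop.coprime_dvd_left (card_dvd_of_le inf_le_left)).symm.pow_left n
  haveI := hAc
  refine hB (CfsgLib.Coprime.le_of_forall_inf_centralizer_le hncyc hAR hcopA fun a ha ha1 => ?_)
  by_contra hD
  have haB : a ∉ B := fun h => ha1 (by
    have : a ∈ A ⊓ B := ⟨ha, h⟩
    rwa [hAB, mem_bot] at this)
  refine haB (hmax (y := B ⊔ zpowers a) ⟨sup_le hBT (zpowers_le.2 (hAT ha)), fun h => hD ?_⟩
    le_sup_left (mem_sup_right (mem_zpowers a)))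
  refine le_trans (le_inf (inf_le_left.trans inf_le_left) ?_) h
  rw [le_centralizer_iff, sup_le_iff, le_centralizer_iff]
  refine ⟨inf_le_left.trans inf_le_right, ?_⟩
  rw [zpowers_le, mem_centralizer_iff]
  intro r hr
  exact (mem_centralizer_singleton_iff.1 hr.2)

/-- The order of a join with a subgroup normalised by the other divides the product. -/
theorem card_sup_dvd_of_le_normalizer {D K : Subgroup G} (h : K ≤ normalizer (D : Set G)) :
    Nat.card ↥(D ⊔ K) ∣ Nat.card D * Nat.card K := by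
  haveI : (D.subgroupOf (D ⊔ K)).Normal :=
    (normal_subgroupOf_iff_le_normalizer le_sup_left).2 (sup_le le_normalizer h)
  have h1 := CfsgLib.PLocal.card_sup_dvd_mul (K.subgroupOf (D ⊔ K)) (D.subgroupOf (D ⊔ K))
  rwa [← subgroupOf_sup le_sup_right le_sup_left, sup_comm K D,
    Nat.card_congr (subgroupOfEquivOfLe le_rfl).toEquiv,
    Nat.card_congr (subgroupOfEquivOfLe le_sup_right).toEquiv,
    Nat.card_congr (subgroupOfEquivOfLe le_sup_left).toEquiv, mul_comm] at h1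

/-- **The transitivity theorem** when every `p`-local subgroup is `p`-constrained. -/
theorem exists_conj_of_maxInvSubgroups {p : ℕ} [Fact p.Prime]
    (hloc : ∀ T : Subgroup G, IsPGroup p T → T ≠ ⊥ →
      IsPConstrained p ↥(normalizer (T : Set G)))
    (h2 : p = 2 → ∀ P : Subgroup G, IsPGroup p P → ∀ x ∈ P, ∀ y ∈ P, ∀ z ∈ P, ⁅⁅x, y⁆, z⁆ = 1)
    {E : Subgroup G} (hEp : IsPGroup p E) (hEc : IsMulCommutative E) (hE3 : ¬ PRankLE p 2 E)
    (hfull : ∀ x ∈ centralizer (E : Set G), IsPGroup p (zpowers x) → x ∈ E)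
    {q : ℕ} [Fact q.Prime] (hqp : q ≠ p) :
    ∀ Q₁ ∈ maxInvSubgroups ⊤ E {q}, ∀ Q₂ ∈ maxInvSubgroups ⊤ E {q},
      ∃ k ∈ piCoreOf (primesNotDvd p) (centralizer (E : Set G)),
        Q₂ = Q₁.map (MulAut.conj k).toMonoidHom := by
  classical
  have hpp : p.Prime := Fact.out
  haveI := hEc
  set Θ := piCoreOf (primesNotDvd p) (centralizer (E : Set G)) with hΘ
  have hΘC : Θ ≤ centralizer (E : Set G) := map_subtype_le _
  have hcore := @exists_centralizer_core G _ _ p _ hloc h2 E hEp hEc hfull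
  obtain ⟨T, hTE, hT, hTcard⟩ : ∃ T : Subgroup G,
      T ≤ E ∧ IsElementaryAbelian p T ∧ p ^ 2 < Nat.card T := by
    rw [PRankLE] at hE3
    push_neg at hE3
    obtain ⟨A, hAc, hAp, hAcard⟩ := hE3
    refine ⟨A.map E.subtype, map_subtype_le A, ⟨inferInstance, ?_⟩, ?_⟩
    · rintro _ ⟨a, ha, rfl⟩
      rw [← map_pow, hAp a ha, map_one]
    · rwa [card_map_of_injective E.subtype_injective]
  have hcopq : ∀ {Q : Subgroup G}, IsPGroup q Q → (Nat.card Q).Coprime p := by
    intro Q hQ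
    obtain ⟨n, hn⟩ := IsPGroup.iff_card.1 hQ
    rw [hn]
    exact ((Nat.coprime_primes Fact.out hpp).2 hqp).pow_left n
  have hEnC : ∀ {x : G}, x ∈ E →
      E ≤ normalizer ((centralizer {x} : Subgroup G) : Set G) := fun hx e he => by
    refine le_normalizer (H := centralizer {_}) ?_
    rw [mem_centralizer_singleton_iff]
    exact congrArg Subtype.val (hEc.is_comm.comm ⟨e, he⟩ ⟨_, hx⟩)
  -- conjugation by `Θ` preserves the maximal invariant subgroups
  have hinvconj : ∀ {c : G}, c ∈ centralizer (E : Set G) → ∀ {Q : Subgroup G},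
      Q ∈ invSubgroups ⊤ E {q} → MulAut.conj c • Q ∈ invSubgroups ⊤ E {q} := by
    intro c hc Q hQ
    rw [mem_invSubgroups_singleton] at hQ ⊢
    refine ⟨hQ.1.map (MulAut.conj c).toMonoidHom, fun e he => ?_⟩
    rw [CfsgLib.Coprime.mem_normalizer_iff_conj_smul_eq, CfsgLib.Coprime.conj_smul_conj_smul,
      mem_centralizer_iff.1 hc e he, ← CfsgLib.Coprime.conj_smul_conj_smul,
      CfsgLib.Coprime.conj_smul_eq_self (hQ.2 he)]
  have hmaxconj : ∀ {c : G}, c ∈ centralizer (E : Set G) → ∀ {Q : Subgroup G},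
      Q ∈ maxInvSubgroups ⊤ E {q} → MulAut.conj c • Q ∈ maxInvSubgroups ⊤ E {q} := by
    intro c hc Q hQ
    refine ⟨hinvconj hc hQ.1, fun R hR hle => ?_⟩
    have h1 := hinvconj (inv_mem hc) hR
    have h2 : Q ≤ MulAut.conj c⁻¹ • R := by
      rw [← pointwise_smul_le_pointwise_smul_iff (a := MulAut.conj c),
        CfsgLib.Coprime.conj_smul_conj_smul, mul_inv_cancel, CfsgLib.Coprime.conj_one_smul]
      exact hle
    rw [← hQ.2 _ h1 h2, CfsgLib.Coprime.conj_smul_conj_smul, mul_inv_cancel,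
      CfsgLib.Coprime.conj_one_smul]
  suffices key : ∀ n : ℕ, ∀ Q₁ ∈ maxInvSubgroups ⊤ E {q}, ∀ Q₂ ∈ maxInvSubgroups ⊤ E {q},
      Nat.card G - Nat.card ↥(Q₁ ⊓ Q₂) = n → ∃ k ∈ Θ, Q₂ = MulAut.conj k • Q₁ by
    intro Q₁ hQ₁ Q₂ hQ₂
    exact key _ Q₁ hQ₁ Q₂ hQ₂ rfl
  intro n
  induction n using Nat.strongRecOn with | ind n ih => ?_
  intro Q₁ hQ₁ Q₂ hQ₂ hn
  set D := Q₁ ⊓ Q₂ with hD
  obtain ⟨hQ₁q, hEQ₁⟩ := mem_invSubgroups_singleton.1 hQ₁.1
  obtain ⟨hQ₂q, hEQ₂⟩ := mem_invSubgroups_singleton.1 hQ₂.1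
  by_cases h1 : Q₁ ≤ Q₂
  · exact ⟨1, one_mem _, by rw [CfsgLib.Coprime.conj_one_smul]; exact hQ₁.2 Q₂ hQ₂.1 h1⟩
  by_cases h2' : Q₂ ≤ Q₁
  · exact absurd (hQ₂.2 Q₁ hQ₁.1 h2').le h1
  have hED : E ≤ normalizer (D : Set G) :=
    (le_inf hEQ₁ hEQ₂).trans inf_normalizer_le_normalizer_inf
  have hEN : E ≤ normalizer ((normalizer (D : Set G) : Subgroup G) : Set G) :=
    hED.trans le_normalizer
  -- one common element of `T`
  have hside : ∀ Q : Subgroup G, IsPGroup q Q → E ≤ normalizer (Q : Set G) → D ≤ Q → ¬ Q ≤ D →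
      ∃ B : Subgroup G, B ≤ T ∧ Nat.card T ≤ p * Nat.card B ∧
        ¬ (Q ⊓ normalizer (D : Set G)) ⊓ centralizer (B : Set G) ≤ D := by
    intro Q hQ hEQ hDQ hQD
    refine exists_hyperplane_not_le hT
      (hTE.trans ((le_inf hEQ hEN).trans inf_normalizer_le_normalizer_inf))
      (hcopq (hQ.to_le inf_le_left)) fun h => ?_
    obtain ⟨z, hz, hzn, hzD⟩ := Stab.exists_mem_normalizer_not_mem hQ.isNilpotent hDQ
      (fun h => hQD h.ge)
    exact hzD (h ⟨hz, hzn⟩)
  obtain ⟨B₁, hB₁, hc₁, hnD₁⟩ := hside Q₁ hQ₁q hEQ₁ inf_le_left fun h => h1 (h.trans inf_le_right)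
  obtain ⟨B₂, hB₂, hc₂, hnD₂⟩ := hside Q₂ hQ₂q hEQ₂ inf_le_right fun h => h2' (h.trans inf_le_left)
  obtain ⟨x, hx₁, hx₂, hx1⟩ : ∃ x, x ∈ B₁ ∧ x ∈ B₂ ∧ x ≠ 1 := by
    by_contra hall
    push_neg at hall
    have hdis : B₁ ⊓ B₂ = ⊥ := le_bot_iff.1 fun z hz => mem_bot.2 (hall z hz.1 hz.2)
    haveI := hT.1
    have hn : B₂ ≤ normalizer (B₁ : Set G) := fun t ht => by
      refine centralizer_le_normalizer (B₁ : Set G) ?_
      rw [mem_centralizer_iff]
      intro b hb
      exact congrArg Subtype.val (hT.1.is_comm.comm ⟨b, hB₁ hb⟩ ⟨t, hB₂ ht⟩)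
    have h := Subgroup.card_le_of_le (sup_le hB₁ hB₂)
    rw [CfsgLib.Coprime.card_sup_eq hn hdis] at h
    have := Nat.mul_le_mul hc₁ hc₂
    have hTpos : 0 < Nat.card T := Nat.card_pos
    nlinarith
  have hxE : x ∈ E := hTE (hB₁ hx₁)
  obtain ⟨K₀, hK₀x, hCK₀, hK₀p, hK₀⟩ := hcore hxE hx1
  set K := K₀ ⊓ normalizer (D : Set G) with hK
  have hEx : E ≤ centralizer {x} := fun e he => by
    rw [mem_centralizer_singleton_iff]
    exact congrArg Subtype.val (hEc.is_comm.comm ⟨e, he⟩ ⟨x, hxE⟩)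
  have hEK : E ≤ normalizer (K : Set G) :=
    (le_inf (hEx.trans hCK₀) hEN).trans inf_normalizer_le_normalizer_inf
  set M := D ⊔ K with hM
  have hMp : (Nat.card M).Coprime p :=
    ((hcopq (hQ₁q.to_le inf_le_left)).mul_left
      (hK₀p.coprime_dvd_left (card_dvd_of_le inf_le_left))).coprime_dvd_left
      (card_sup_dvd_of_le_normalizer inf_le_right)
  have hEM : E ≤ normalizer (M : Set G) :=
    (le_inf hED hEK).trans (normalizer_inf_normalizer_le_normalizer_sup D K)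
  have hcopEM : (Nat.card E).Coprime (Nat.card M) := by
    obtain ⟨m, hm⟩ := IsPGroup.iff_card.1 hEp
    rw [hm]
    exact hMp.symm.pow_left m
  have hEsolv : Group.IsSolvable E := Group.isSolvable_of_comm fun a b => hEc.is_comm.comm a b
  -- the enlarged subgroups inside `M`
  have hU : ∀ Q : Subgroup G, IsPGroup q Q → E ≤ normalizer (Q : Set G) → D ≤ Q →
      ∀ B : Subgroup G, x ∈ B → ¬ (Q ⊓ normalizer (D : Set G)) ⊓ centralizer (B : Set G) ≤ D →
      ∃ U : Subgroup G, D < U ∧ U ≤ Q ∧ U ≤ M ∧ E ≤ normalizer (U : Set G) := by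
    intro Q hQ hEQ hDQ B hxB hnD
    set C := (Q ⊓ normalizer (D : Set G)) ⊓ centralizer {x} with hC
    have hEC : E ≤ normalizer (C : Set G) :=
      (le_inf ((le_inf hEQ hEN).trans inf_normalizer_le_normalizer_inf) (hEnC hxE)).trans
        inf_normalizer_le_normalizer_inf
    have hCK : C ≤ K :=
      le_inf (hK₀ C (hcopq (hQ.to_le (inf_le_left.trans inf_le_left))) hEC inf_le_right)
        (inf_le_left.trans inf_le_right)
    refine ⟨D ⊔ C, ?_, sup_le hDQ (inf_le_left.trans inf_le_left), sup_le_sup le_rfl hCK,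
      (le_inf hED hEC).trans (normalizer_inf_normalizer_le_normalizer_sup D C)⟩
    refine lt_of_le_of_ne le_sup_left fun heq => hnD ?_
    calc (Q ⊓ normalizer (D : Set G)) ⊓ centralizer (B : Set G) ≤ C :=
          inf_le_inf le_rfl (centralizer_le (Set.singleton_subset_iff.2 hxB))
      _ ≤ D ⊔ C := le_sup_right
      _ = D := heq.symm
  obtain ⟨U₁, hDU₁, hU₁Q, hU₁M, hEU₁⟩ := hU Q₁ hQ₁q hEQ₁ inf_le_left B₁ hx₁ hnD₁
  obtain ⟨U₂, hDU₂, hU₂Q, hU₂M, hEU₂⟩ := hU Q₂ hQ₂q hEQ₂ inf_le_right B₂ hx₂ hnD₂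
  obtain ⟨P₁, hP₁U, hEP₁⟩ := CfsgLib.Coprime.exists_invariant_sylow_ge hEM hcopEM
    (Or.inl hEsolv) hU₁M (hQ₁q.to_le hU₁Q) hEU₁
  obtain ⟨P₂, hP₂U, hEP₂⟩ := CfsgLib.Coprime.exists_invariant_sylow_ge hEM hcopEM
    (Or.inl hEsolv) hU₂M (hQ₂q.to_le hU₂Q) hEU₂
  obtain ⟨g, hg, hgP⟩ := CfsgLib.Coprime.exists_conj_map_sylow P₁ P₂
  obtain ⟨c, ⟨hcM, hcC⟩, hcP⟩ := CfsgLib.Coprime.exists_conj_eq_of_invariant hEM hcopEM
    (Or.inl hEsolv) hEP₁ hEP₂ hg hgP
  -- `c` lies in `Θ`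
  have hsmall : ∀ {Y : Subgroup G}, Y ≤ centralizer (E : Set G) → Y ≤ K₀ → Y ≤ Θ := by
    intro Y hY hYK
    refine le_trans (le_inf hYK hY) (le_piCoreOf_primesNotDvd inf_le_right ?_
      (hK₀p.coprime_dvd_left (card_dvd_of_le inf_le_left)))
    refine (le_inf ?_ le_normalizer).trans inf_normalizer_le_normalizer_inf
    exact (centralizer_le (Set.singleton_subset_iff.2 hxE)).trans hCK₀
  have hcΘ : c ∈ Θ := by
    rw [← sup_comm K D] at hM
    obtain ⟨d, hd, k, hk, hdk⟩ := CfsgLib.Coprime.exists_mul_of_mem_sup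
      (inf_le_right : K ≤ normalizer (D : Set G)) (by rw [sup_comm]; exact hM ▸ hcM)
    obtain ⟨d', hd', k', hk', he⟩ := CfsgLib.Coprime.exists_mul_eq_of_mem_centralizer hED hEK
      (by
        obtain ⟨m, hm⟩ := IsPGroup.iff_card.1 hEp
        rw [hm]
        exact ((hK₀p.coprime_dvd_left (card_dvd_of_le inf_le_left)).coprime_dvd_left
          (card_dvd_of_le inf_le_right)).symm.pow_left m)
      (Or.inl hEsolv) hd hk (hdk ▸ hcC)
    rw [← hdk, he]
    refine mul_mem (hsmall (Y := D ⊓ centralizer (E : Set G)) inf_le_right ?_ hd')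
      (hsmall (Y := K ⊓ centralizer (E : Set G)) inf_le_right (inf_le_left.trans inf_le_left) hk')
    refine hK₀ _ (hcopq (hQ₁q.to_le (inf_le_left.trans inf_le_left))) ?_
      (inf_le_right.trans (centralizer_le (Set.singleton_subset_iff.2 hxE)))
    exact (le_inf hED ((le_centralizer E).trans le_normalizer)).trans
      inf_normalizer_le_normalizer_inf
  -- a maximal invariant subgroup above the first Sylow subgroup
  obtain ⟨Q₃, hP₁Q₃, hQ₃⟩ := (Set.toFinite (invSubgroups ⊤ E {q})).exists_le_maximal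
    (a := (P₁ : Subgroup M).map M.subtype)
    (mem_invSubgroups_singleton.2 ⟨P₁.isPGroup'.map _, hEP₁⟩)
  have hQ₃max : Q₃ ∈ maxInvSubgroups ⊤ E {q} :=
    ⟨hQ₃.1, fun R hR hle => le_antisymm (hQ₃.2 hR hle) hle⟩
  have hgrow : ∀ {A B U : Subgroup G}, D < U → U ≤ A → U ≤ B →
      Nat.card G - Nat.card ↥(A ⊓ B) < n := by
    intro A B U hDU hUA hUB
    have h1 := Set.Finite.card_lt_card (Set.toFinite _)
      (SetLike.coe_ssubset_coe.2 (hDU.trans_le (le_inf hUA hUB)))
    have h2 : Nat.card ↥(A ⊓ B) ≤ Nat.card G := card_le_card_group _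
    have h3 : Nat.card (D : Set G) = Nat.card D := rfl
    have h4 : Nat.card ((A ⊓ B : Subgroup G) : Set G) = Nat.card ↥(A ⊓ B) := rfl
    omega
  obtain ⟨k₁, hk₁, he₁⟩ := ih _ (hgrow hDU₁ hU₁Q (hP₁U.trans hP₁Q₃)) Q₁ hQ₁ Q₃ hQ₃max rfl
  have hcQ₃ : MulAut.conj c • Q₃ ∈ maxInvSubgroups ⊤ E {q} := hmaxconj (hΘC hcΘ) hQ₃max
  obtain ⟨k₂, hk₂, he₂⟩ := ih _ (hgrow hDU₂
    (hP₂U.trans (hcP ▸ pointwise_smul_le_pointwise_smul_iff.2 hP₁Q₃)) hU₂Q)
    _ hcQ₃ Q₂ hQ₂ rfl
  exact ⟨k₂ * (c * k₁), mul_mem hk₂ (mul_mem hcΘ hk₁), by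
    rw [he₂, he₁, CfsgLib.Coprime.conj_smul_conj_smul, CfsgLib.Coprime.conj_smul_conj_smul,
      mul_assoc]⟩

end Transitivity

end CfsgLib.OddOrder
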