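import Cfsg.Prelude.Def_OddOrderLocal
import Mathlib.GroupTheory.PGroup
import Mathlib.Order.OrderIsoNat

/-!
# The Puig series (Bender–Glauberman, Appendix B: elementary part)

Antitonicity of the Puig step, the alternating series, stabilisation, and self-centralization in
`p`-groups.
-/

set_option autoImplicit false

namespace CfsgLib.OddOrder

open Cfsg Subgroup

variable {G : Type*} [Group G]

theorem puigStep_anti {X Y : Subgroup G} (h : X ≤ Y) : puigStep Y ≤ puigStep X :=
  sSup_le_sSup (fun _ hA => ⟨hA.1, h.trans hA.2⟩)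

theorem le_puigStep {X A : Subgroup G} (hA : IsMulCommutative A)
    (hX : X ≤ normalizer (A : Set G)) : A ≤ puigStep X :=
  le_sSup ⟨hA, hX⟩

theorem le_puigStep_of_normal {A : Subgroup G} [A.Normal] (hA : IsMulCommutative A)
    (X : Subgroup G) : A ≤ puigStep X :=
  le_puigStep hA le_normalizer_of_normal

@[simp] theorem puigSeq_zero : puigSeq G 0 = ⊥ := rfl

theorem puigSeq_succ (n : ℕ) : puigSeq G (n + 1) = puigStep (puigSeq G n) := rfl

theorem puigSeq_one : puigSeq G 1 = ⊤ :=
  eq_top_iff.2 fun g _ => le_puigStep (X := ⊥) (A := zpowers g) inferInstance bot_le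
    (mem_zpowers g)

/-- `L_(2n) ≤ L_(2n+2)` and `L_(2n+3) ≤ L_(2n+1)`. -/
theorem puigSeq_two_step (n : ℕ) :
    puigSeq G (2 * n) ≤ puigSeq G (2 * n + 2) ∧ puigSeq G (2 * n + 3) ≤ puigSeq G (2 * n + 1) := by
  induction n with
  | zero => exact ⟨bot_le, puigStep_anti bot_le⟩
  | succ n ih =>
    have h : puigSeq G (2 * (n + 1)) ≤ puigSeq G (2 * (n + 1) + 2) := puigStep_anti ih.2
    exact ⟨h, puigStep_anti h⟩

theorem puigSeq_even_mono : Monotone (fun n => puigSeq G (2 * n)) :=
  monotone_nat_of_le_succ fun n => (puigSeq_two_step n).1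

theorem puigSeq_odd_anti : Antitone (fun n => puigSeq G (2 * n + 1)) :=
  antitone_nat_of_succ_le fun n => (puigSeq_two_step n).2

theorem puigSeq_even_le_succ (n : ℕ) : puigSeq G (2 * n) ≤ puigSeq G (2 * n + 1) := by
  induction n with
  | zero => exact bot_le
  | succ n ih => exact puigStep_anti (puigStep_anti ih)

theorem puigSeq_even_le_odd (n m : ℕ) : puigSeq G (2 * n) ≤ puigSeq G (2 * m + 1) :=
  ((puigSeq_even_mono (le_max_left n m)).trans (puigSeq_even_le_succ (max n m))).trans
    (puigSeq_odd_anti (le_max_right n m))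

/-- The Puig series is eventually periodic with values `L_*` and `L`. -/
theorem puigSeq_stabilizes [Finite G] : ∃ k : ℕ, ∀ n : ℕ, k ≤ n →
    puigSeq G (2 * n) = puigLower G ∧ puigSeq G (2 * n + 1) = puigSubgroup G := by
  obtain ⟨k, hk⟩ := WellFoundedGT.monotone_chain_condition
    (⟨fun n => puigSeq G (2 * n), puigSeq_even_mono⟩ : ℕ →o Subgroup G)
  refine ⟨k, fun n hn => ?_⟩
  have hk' : ∀ m, k ≤ m → puigSeq G (2 * m) = puigSeq G (2 * n) := fun m hm =>
    (hk m hm).symm.trans (hk n hn)
  constructor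
  · refine le_antisymm (le_iSup (fun m => puigSeq G (2 * m)) n) (iSup_le fun m => ?_)
    rw [← hk' (max m k) (le_max_right m k)]
    exact puigSeq_even_mono (le_max_left m k)
  · refine le_antisymm (le_iInf fun m => ?_) (iInf_le (fun m => puigSeq G (2 * m + 1)) n)
    refine le_trans (le_of_eq ?_) (puigSeq_odd_anti (le_max_left m k))
    show puigStep (puigSeq G (2 * n)) = puigStep (puigSeq G (2 * max m k))
    rw [hk' _ (le_max_right m k)]

theorem puigLower_le_puigSubgroup : puigLower G ≤ puigSubgroup G :=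
  iSup_le fun n => le_iInf fun m => puigSeq_even_le_odd n m

theorem puigStep_puigLower [Finite G] : puigStep (puigLower G) = puigSubgroup G := by
  obtain ⟨k, hk⟩ := puigSeq_stabilizes (G := G)
  rw [← (hk k le_rfl).1, ← (hk k le_rfl).2]
  rfl

theorem puigStep_puigSubgroup [Finite G] : puigStep (puigSubgroup G) = puigLower G := by
  obtain ⟨k, hk⟩ := puigSeq_stabilizes (G := G)
  rw [← (hk k le_rfl).2, ← (hk (k + 1) (Nat.le_succ k)).1]
  rfl

/-- A finite `p`-group has an abelian normal subgroup equal to its own centralizer. -/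
theorem exists_self_centralizing_normal_abelian [Finite G] {p : ℕ} [Fact p.Prime]
    (hG : IsPGroup p G) :
    ∃ A : Subgroup G, A.Normal ∧ IsMulCommutative A ∧ centralizer (A : Set G) = A := by
  obtain ⟨A, ⟨hAn, hAc⟩, hmax⟩ := Set.Finite.exists_maximal
    (s := {A : Subgroup G | A.Normal ∧ IsMulCommutative A}) (Set.toFinite _)
    ⟨⊥, inferInstance, inferInstance⟩
  refine ⟨A, hAn, hAc, ?_⟩
  haveI := hAn
  set C := centralizer (A : Set G) with hC
  have hAC : A ≤ C := le_centralizer A
  by_contra hne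
  haveI : (C.map (QuotientGroup.mk' A)).Normal :=
    Subgroup.Normal.map inferInstance _ (QuotientGroup.mk'_surjective A)
  haveI hnt : Nontrivial (C.map (QuotientGroup.mk' A)) := by
    rw [nontrivial_iff_ne_bot]
    intro h
    rw [Subgroup.map_eq_bot_iff, QuotientGroup.ker_mk'] at h
    exact hne (le_antisymm h hAC)
  set N := C.map (QuotientGroup.mk' A) with hN
  have hQ : IsPGroup p (ConjAct (G ⧸ A)) := fun x => hG.to_quotient A (ConjAct.ofConjAct x)
  obtain ⟨k, hk, hk'⟩ : ∃ k, 0 < k ∧ Nat.card N = p ^ k := by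
    obtain ⟨k, hk⟩ := IsPGroup.iff_card.1 ((hG.to_quotient A).to_subgroup N)
    refine ⟨k, Nat.pos_of_ne_zero fun h => ?_, hk⟩
    rw [h, pow_zero, Nat.card_eq_one_iff_unique] at hk
    exact not_subsingleton N hk.1
  obtain ⟨z, hz, hz1⟩ := hQ.exists_fixed_point_of_prime_dvd_card_of_fixed_point (α := N)
    (hk' ▸ dvd_pow_self p hk.ne') (a := 1) (fun g => smul_one g)
  obtain ⟨x, hxC, hxz⟩ := z.2
  have hxA : x ∉ A := fun h => hz1 (Subtype.ext (by
    rw [← hxz, QuotientGroup.mk'_apply, (QuotientGroup.eq_one_iff x).2 h]; rfl))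
  let B : Subgroup G := closure ((A : Set G) ∪ {x})
  have hAB : A ≤ B := fun a ha => subset_closure (Or.inl ha)
  have hxB : x ∈ B := subset_closure (Or.inr rfl)
  have hBc : IsMulCommutative B := by
    refine isMulCommutative_closure ?_
    rintro a (ha | ha) b (hb | hb)
    · exact hAc.is_comm.comm ⟨a, ha⟩ ⟨b, hb⟩ |> congrArg Subtype.val
    · exact Set.mem_singleton_iff.1 hb ▸ mem_centralizer_iff.1 hxC a ha
    · exact Set.mem_singleton_iff.1 ha ▸ (mem_centralizer_iff.1 hxC b hb).symm
    · rw [Set.mem_singleton_iff.1 ha, Set.mem_singleton_iff.1 hb]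
  have hBn : B.Normal := by
    refine ⟨fun b hb g => ?_⟩
    induction hb using closure_induction with
    | mem y hy =>
      rcases hy with hy | hy
      · exact hAB (hAn.conj_mem y hy g)
      · rw [Set.mem_singleton_iff.1 hy]
        have h1 := congrArg Subtype.val (hz (ConjAct.toConjAct (QuotientGroup.mk' A g)))
        rw [ConjAct.Subgroup.val_conj_smul, ConjAct.toConjAct_smul, ← hxz, ← map_inv,
          ← map_mul, ← map_mul, QuotientGroup.mk'_eq_mk'] at h1
        obtain ⟨a, ha, he⟩ := h1
        have : g * x * g⁻¹ = x * a⁻¹ := eq_mul_inv_iff_mul_eq.2 he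
        rw [this]
        exact B.mul_mem hxB (B.inv_mem (hAB ha))
    | one => simpa using B.one_mem
    | mul y z _ _ hy hz =>
      have : g * (y * z) * g⁻¹ = (g * y * g⁻¹) * (g * z * g⁻¹) := by group
      rw [this]; exact B.mul_mem hy hz
    | inv y _ hy =>
      have : g * y⁻¹ * g⁻¹ = (g * y * g⁻¹)⁻¹ := by group
      rw [this]; exact B.inv_mem hy
  exact hxA (hmax ⟨hBn, hBc⟩ hAB hxB)

section PGroup

variable [Finite G] {p : ℕ} [Fact p.Prime]

/-- In a `p`-group every positive term of the Puig series contains its centralizer. -/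
theorem centralizer_puigStep_le (hG : IsPGroup p G) (X : Subgroup G) :
    centralizer ((puigStep X : Subgroup G) : Set G) ≤ puigStep X := by
  obtain ⟨A, hAn, hAc, hA⟩ := exists_self_centralizing_normal_abelian hG
  haveI := hAn
  have h := le_puigStep_of_normal hAc X
  exact ((centralizer_le h).trans hA.le).trans h

theorem centralizer_puigSubgroup_le (hG : IsPGroup p G) :
    centralizer ((puigSubgroup G : Subgroup G) : Set G) ≤ puigSubgroup G := by
  rw [← puigStep_puigLower]; exact centralizer_puigStep_le hG _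

theorem centralizer_puigLower_le (hG : IsPGroup p G) :
    centralizer ((puigLower G : Subgroup G) : Set G) ≤ puigLower G := by
  rw [← puigStep_puigSubgroup]; exact centralizer_puigStep_le hG _

theorem puigLower_ne_bot [Nontrivial G] (hG : IsPGroup p G) : puigLower G ≠ ⊥ := fun h => by
  have h1 := centralizer_puigLower_le hG
  rw [h, le_bot_iff] at h1
  have h2 : (⊤ : Subgroup G) ≤ centralizer ((⊥ : Subgroup G) : Set G) := by
    intro g _
    rw [mem_centralizer_iff]
    intro y hy
    rw [SetLike.mem_coe, mem_bot] at hy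
    simp [hy]
  rw [h1, top_le_iff] at h2
  exact bot_ne_top h2

theorem puigSubgroup_ne_bot [Nontrivial G] (hG : IsPGroup p G) : puigSubgroup G ≠ ⊥ :=
  ne_bot_of_le_ne_bot (puigLower_ne_bot hG) puigLower_le_puigSubgroup

end PGroup

end CfsgLib.OddOrder
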