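import Cfsg.Prelude.Def_OddOrderLocal
import Cfsg.Agent.OddOrder.AppBPuig

/-!
# The Puig series of a subgroup, inside the ambient group
-/

set_option autoImplicit false

namespace CfsgLib.OddOrder

open Cfsg Subgroup

variable {G H : Type*} [Group G] [Group H]

/-- The subgroup generated by the abelian subgroups of `S` normalized by `X`. -/
def puigStepIn (S X : Subgroup G) : Subgroup G :=
  sSup {A : Subgroup G | A ≤ S ∧ IsMulCommutative A ∧ X ≤ normalizer (A : Set G)}

/-- The Puig series of `S` inside `G`. -/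
def puigSeqIn (S : Subgroup G) : ℕ → Subgroup G
  | 0 => ⊥
  | n + 1 => puigStepIn S (puigSeqIn S n)

/-- `L(S)` inside `G`. -/
def puigIn (S : Subgroup G) : Subgroup G := (puigSubgroup S).map S.subtype

/-- `L_*(S)` inside `G`. -/
def puigLowerIn (S : Subgroup G) : Subgroup G := (puigLower S).map S.subtype

/-- The centre of `L(S)` inside `G`. -/
def puigCenterIn (S : Subgroup G) : Subgroup G :=
  puigIn S ⊓ centralizer (puigIn S : Set G)

theorem puigStepIn_le (S X : Subgroup G) : puigStepIn S X ≤ S := sSup_le fun _ hA => hA.1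

theorem puigStepIn_anti {S X Y : Subgroup G} (h : X ≤ Y) : puigStepIn S Y ≤ puigStepIn S X :=
  sSup_le_sSup fun _ hA => ⟨hA.1, hA.2.1, h.trans hA.2.2⟩

theorem puigStepIn_mono {R S : Subgroup G} (h : R ≤ S) (X : Subgroup G) :
    puigStepIn R X ≤ puigStepIn S X :=
  sSup_le_sSup fun _ hA => ⟨hA.1.trans h, hA.2⟩

theorem le_puigStepIn {S X A : Subgroup G} (hAS : A ≤ S) (hA : IsMulCommutative A)
    (hX : X ≤ normalizer (A : Set G)) : A ≤ puigStepIn S X :=
  le_sSup ⟨hAS, hA, hX⟩

/-- Shrinking `S` to a subgroup containing the step does not change it. -/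
theorem puigStepIn_eq_of_le {R S X : Subgroup G} (hRS : R ≤ S) (h : puigStepIn S X ≤ R) :
    puigStepIn R X = puigStepIn S X :=
  le_antisymm (puigStepIn_mono hRS X)
    (sSup_le fun _ hA => le_puigStepIn ((le_sSup hA).trans h) hA.2.1 hA.2.2)

theorem map_puigStep {f : G →* H} (hf : Function.Injective f) (X : Subgroup G) :
    (puigStep X).map f = puigStepIn f.range (X.map f) := by
  rw [puigStep, (Subgroup.gc_map_comap f).l_sSup]
  refine le_antisymm (iSup₂_le fun A hA => ?_) (sSup_le fun B hB => ?_)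
  · haveI := hA.1
    exact le_puigStepIn (Subgroup.map_le_range f A) (Subgroup.map_isMulCommutative A f)
      ((Subgroup.map_mono hA.2).trans (le_normalizer_map f))
  · obtain ⟨hBr, hBc, hBn⟩ := hB
    have hB' : (B.comap f).map f = B := map_comap_eq_self hBr
    refine le_of_eq_of_le hB'.symm ?_
    refine le_iSup₂ (f := fun (A : Subgroup G) _ => A.map f) (B.comap f) ⟨?_, ?_⟩
    · exact ⟨⟨fun a b => Subtype.ext (hf (by
        rw [coe_mul, coe_mul, map_mul, map_mul]
        exact congrArg Subtype.val (hBc.is_comm.comm ⟨f a, a.2⟩ ⟨f b, b.2⟩)))⟩⟩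
    · intro x hx
      rw [mem_normalizer_iff]
      intro a
      simp only [mem_comap, map_mul, map_inv]
      exact mem_normalizer_iff.1 (hBn (mem_map_of_mem f hx)) (f a)

theorem map_puigSeq {f : G →* H} (hf : Function.Injective f) (n : ℕ) :
    (puigSeq G n).map f = puigSeqIn f.range n := by
  induction n with
  | zero => exact Subgroup.map_bot f
  | succ n ih => rw [puigSeq_succ, map_puigStep hf, ih]; rfl

theorem puigSeqIn_eq (S : Subgroup G) (n : ℕ) :
    puigSeqIn S n = (puigSeq S n).map S.subtype := by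
  rw [map_puigSeq S.subtype_injective, range_subtype]

theorem puigSeqIn_stabilizes [Finite G] (S : Subgroup G) : ∃ k : ℕ, ∀ n : ℕ, k ≤ n →
    puigSeqIn S (2 * n) = puigLowerIn S ∧ puigSeqIn S (2 * n + 1) = puigIn S := by
  obtain ⟨k, hk⟩ := puigSeq_stabilizes (G := S)
  exact ⟨k, fun n hn => by
    rw [puigSeqIn_eq, puigSeqIn_eq, (hk n hn).1, (hk n hn).2]; exact ⟨rfl, rfl⟩⟩

theorem map_puigSubgroup [Finite G] [Finite H] {f : G →* H} (hf : Function.Injective f) :
    (puigSubgroup G).map f = puigIn f.range := by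
  obtain ⟨k, hk⟩ := puigSeq_stabilizes (G := G)
  obtain ⟨l, hl⟩ := puigSeqIn_stabilizes f.range
  rw [← (hk _ (le_max_left k l)).2, ← (hl _ (le_max_right k l)).2, map_puigSeq hf]

theorem map_puigIn [Finite G] [Finite H] {f : G →* H} {S : Subgroup G}
    (hf : Set.InjOn f S) : (puigIn S).map f = puigIn (S.map f) := by
  have hinj : Function.Injective (f.comp S.subtype) := fun a b h => Subtype.ext (hf a.2 b.2 h)
  rw [puigIn, Subgroup.map_map, map_puigSubgroup hinj, MonoidHom.range_comp, range_subtype]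

theorem puigIn_le (S : Subgroup G) : puigIn S ≤ S := map_subtype_le _

theorem puigLowerIn_le (S : Subgroup G) : puigLowerIn S ≤ S := map_subtype_le _

theorem puigLowerIn_le_puigIn (S : Subgroup G) : puigLowerIn S ≤ puigIn S :=
  Subgroup.map_mono puigLower_le_puigSubgroup

theorem puigStepIn_puigLowerIn [Finite G] (S : Subgroup G) :
    puigStepIn S (puigLowerIn S) = puigIn S := by
  rw [puigIn, ← puigStep_puigLower, map_puigStep S.subtype_injective, range_subtype]; rfl

theorem puigStepIn_puigIn [Finite G] (S : Subgroup G) :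
    puigStepIn S (puigIn S) = puigLowerIn S := by
  rw [puigLowerIn, ← puigStep_puigSubgroup, map_puigStep S.subtype_injective, range_subtype]; rfl

theorem normalizer_le_normalizer_puigIn [Finite G] (S : Subgroup G) :
    normalizer (S : Set G) ≤ normalizer (puigIn S : Set G) := by
  intro g hg
  rw [mem_normalizer_iff]
  intro a
  have hS : S.map (MulAut.conj g).toMonoidHom = S := by
    ext x
    simp only [mem_map, MulEquiv.coe_toMonoidHom, MulAut.conj_apply]
    constructor
    · rintro ⟨y, hy, rfl⟩; exact (mem_normalizer_iff.1 hg y).1 hy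
    · exact fun hx => ⟨g⁻¹ * x * g, (mem_normalizer_iff''.1 hg x).1 hx, by group⟩
  have h := map_puigIn (f := (MulAut.conj g).toMonoidHom) (S := S) (MulEquiv.injective _).injOn
  rw [hS] at h
  constructor
  · intro ha; rw [← h]; exact ⟨a, ha, rfl⟩
  · intro ha
    rw [← h] at ha
    obtain ⟨b, hb, hba⟩ := ha
    obtain rfl : b = a := (MulAut.conj g).injective hba
    exact hb

theorem normalizer_le_normalizer_puigCenterIn [Finite G] (S : Subgroup G) :
    normalizer (S : Set G) ≤ normalizer (puigCenterIn S : Set G) := by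
  intro g hg
  have hL := normalizer_le_normalizer_puigIn S hg
  rw [mem_normalizer_iff] at hL ⊢
  intro a
  simp only [puigCenterIn, mem_inf, mem_centralizer_iff, SetLike.mem_coe]
  refine and_congr (hL a) ⟨fun h x hx => ?_, fun h x hx => ?_⟩
  · have hx' : g⁻¹ * x * g ∈ puigIn S := (hL _).2 (by simpa [mul_assoc] using hx)
    have := congrArg (fun t => g * t * g⁻¹) (h _ hx')
    simpa [mul_assoc] using this
  · have := congrArg (fun t => g⁻¹ * t * g) (h _ ((hL x).1 hx))
    simpa [mul_assoc] using this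

/-- If `L(S) ≤ R ≤ S` then `L(R) = L(S)`. -/
theorem puigIn_eq_of_le [Finite G] {R S : Subgroup G} (hLR : puigIn S ≤ R) (hRS : R ≤ S) :
    puigIn R = puigIn S := by
  obtain ⟨k, hk⟩ := puigSeqIn_stabilizes S
  obtain ⟨l, hl⟩ := puigSeqIn_stabilizes R
  have hsub : puigLowerIn S ≤ R := (puigLowerIn_le_puigIn S).trans hLR
  have h1 : ∀ n, puigSeqIn R (2 * n) ≤ puigLowerIn S := by
    intro n
    induction n with
    | zero => exact bot_le
    | succ n ih =>
      have h : puigIn S ≤ puigSeqIn R (2 * n + 1) := by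
        refine le_trans ?_ (puigStepIn_anti ih)
        rw [puigStepIn_eq_of_le hRS (by rw [puigStepIn_puigLowerIn]; exact hLR),
          puigStepIn_puigLowerIn]
      exact (puigStepIn_anti h).trans ((puigStepIn_mono hRS _).trans (puigStepIn_puigIn S).le)
  have h2 : ∀ n, puigSeqIn R (2 * n + 1) ≤ puigSeqIn S (2 * n + 1) := by
    intro n
    induction n with
    | zero => exact puigStepIn_mono hRS _
    | succ n ih =>
      have hle : puigSeqIn S (2 * n + 2) ≤ R := by
        refine le_trans ?_ hsub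
        rw [← (hk (max k (n + 1)) (le_max_left _ _)).1, puigSeqIn_eq, puigSeqIn_eq]
        exact Subgroup.map_mono (puigSeq_even_mono (le_max_right k (n + 1)))
      have h3 : puigSeqIn S (2 * n + 2) ≤ puigSeqIn R (2 * n + 2) := by
        show puigStepIn S (puigSeqIn S (2 * n + 1)) ≤ puigStepIn R (puigSeqIn R (2 * n + 1))
        rw [← puigStepIn_eq_of_le hRS hle]
        exact puigStepIn_anti ih
      exact (puigStepIn_anti h3).trans (puigStepIn_mono hRS _)
  refine le_antisymm ?_ ?_
  · rw [← (hl _ (le_max_left l k)).2, ← (hk _ (le_max_right l k)).2]; exact h2 _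
  · rw [← (hl l le_rfl).2]
    refine le_trans ?_ (puigStepIn_anti (h1 l))
    rw [puigStepIn_eq_of_le hRS (by rw [puigStepIn_puigLowerIn]; exact hLR), puigStepIn_puigLowerIn]

/-- Every abelian normal subgroup of `S` lies in `L_*(S)`. -/
theorem le_puigLowerIn [Finite G] {S A : Subgroup G} (hAS : A ≤ S) (hA : IsMulCommutative A)
    (hn : S ≤ normalizer (A : Set G)) : A ≤ puigLowerIn S := by
  rw [← puigStepIn_puigIn]
  exact le_puigStepIn hAS hA ((puigIn_le S).trans hn)

theorem puigCenterIn_le (S : Subgroup G) : puigCenterIn S ≤ S := inf_le_left.trans (puigIn_le S)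

theorem puigCenterIn_isMulCommutative (S : Subgroup G) : IsMulCommutative (puigCenterIn S) :=
  ⟨⟨fun a b => Subtype.ext (mem_centralizer_iff.1 b.2.2 (a : G) a.2.1)⟩⟩

theorem puigCenterIn_le_puigLowerIn [Finite G] (S : Subgroup G) :
    puigCenterIn S ≤ puigLowerIn S :=
  le_puigLowerIn (puigCenterIn_le S) (puigCenterIn_isMulCommutative S)
    (le_normalizer.trans (normalizer_le_normalizer_puigCenterIn S))

theorem map_puigCenterIn [Finite G] [Finite H] {f : G →* H} {S : Subgroup G}
    (hf : Set.InjOn f S) : (puigCenterIn S).map f = puigCenterIn (S.map f) := by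
  have hL := map_puigIn hf
  refine le_antisymm ?_ ?_
  · rintro _ ⟨x, hx, rfl⟩
    refine mem_inf.2 ⟨hL ▸ mem_map_of_mem f hx.1, mem_centralizer_iff.2 ?_⟩
    rw [← hL]
    rintro _ ⟨y, hy, rfl⟩
    rw [← map_mul, ← map_mul, mem_centralizer_iff.1 hx.2 y hy]
  · intro z hz
    obtain ⟨hzL, hzC⟩ := mem_inf.1 hz
    rw [← hL] at hzL hzC
    obtain ⟨x, hx, rfl⟩ := hzL
    refine mem_map_of_mem f (mem_inf.2 ⟨hx, mem_centralizer_iff.2 fun y hy => ?_⟩)
    exact hf (mul_mem (puigIn_le S hy) (puigIn_le S hx))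
      (mul_mem (puigIn_le S hx) (puigIn_le S hy))
      (by rw [map_mul, map_mul]; exact mem_centralizer_iff.1 hzC _ (mem_map_of_mem f hy))

theorem puigCenterIn_eq (S : Subgroup G) :
    puigCenterIn S = ((center ↥(puigSubgroup S)).map (puigSubgroup S).subtype).map S.subtype := by
  ext x
  constructor
  · rintro ⟨hxL, hxC⟩
    obtain ⟨y, hy, rfl⟩ := hxL
    refine mem_map_of_mem _ ⟨⟨y, hy⟩, mem_center_iff.2 fun z => ?_, rfl⟩
    exact Subtype.ext (Subtype.ext (mem_centralizer_iff.1 hxC _ (mem_map_of_mem S.subtype z.2)))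
  · rintro ⟨_, ⟨z, hz, rfl⟩, rfl⟩
    refine ⟨mem_map_of_mem S.subtype z.2, mem_centralizer_iff.2 ?_⟩
    rintro _ ⟨w, hw, rfl⟩
    exact congrArg (fun t : ↥(puigSubgroup S) => ((t : S) : G)) (mem_center_iff.1 hz ⟨w, hw⟩)

end CfsgLib.OddOrder
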