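import Cfsg.Agent.OddOrder.AppBPuigIn
import Cfsg.Agent.OddOrder.AppA.AbelianGenerated
import Cfsg.Agent.PLocal.Quadratic
import Cfsg.Agent.UniqueMaximal.Basic

/-!
# The Puig subgroups in solvable groups of odd order (Bender–Glauberman, Appendix B)
-/

set_option autoImplicit false

namespace CfsgLib.OddOrder

open Cfsg Subgroup

variable {G : Type*} [Group G]

theorem puigStepIn_bot (S : Subgroup G) : puigStepIn S ⊥ = S :=
  le_antisymm (puigStepIn_le S ⊥) fun g hg =>
    le_puigStepIn (A := zpowers g) (zpowers_le.2 hg) inferInstance bot_le (mem_zpowers g)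

theorem puigSeqIn_normal {T : Subgroup G} [T.Normal] (n : ℕ) : (puigSeqIn T n).Normal := by
  refine ⟨fun x hx g => ?_⟩
  have hT : T.map (MulAut.conj g).toMonoidHom = T := by
    simpa using Subgroup.Normal.map_conj_eq T g
  have h := map_puigSeq (f := (MulAut.conj g).toMonoidHom.comp T.subtype)
    ((MulAut.conj g).injective.comp T.subtype_injective) n
  rw [MonoidHom.range_comp, range_subtype, hT, ← Subgroup.map_map, ← puigSeqIn_eq] at h
  rw [← h]
  exact mem_map_of_mem _ hx

variable [Finite G] {p : ℕ} [Fact p.Prime] [Group.IsSolvable G]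

omit [Group.IsSolvable G] in
theorem inf_centralizer_puigSeqIn_le (n : ℕ) :
    pCore p G ⊓ centralizer (puigSeqIn (pCore p G) (n + 1) : Set G)
      ≤ puigSeqIn (pCore p G) (n + 1) := by
  rintro x ⟨hxT, hxC⟩
  rw [puigSeqIn_eq] at hxC ⊢
  refine ⟨⟨x, hxT⟩, centralizer_puigStep_le (p := p) (PLocal.isPGroup_pCore p G) _
    (mem_centralizer_iff.2 fun y hy => Subtype.ext ?_), rfl⟩
  exact mem_centralizer_iff.1 hxC y (mem_map_of_mem _ hy)

/-- Abelian subgroups of `S` normalised by a positive term of the Puig series of `O_p(G)` lie in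
`O_p(G)`. -/
theorem puigStepIn_puigSeqIn_pCore (hp2 : p ≠ 2) (hodd : Odd (Nat.card G))
    (hO : pPrimeCore p G = ⊥) (S : Sylow p G) (n : ℕ) :
    puigStepIn S (puigSeqIn (pCore p G) (n + 1)) = puigSeqIn (pCore p G) (n + 2) := by
  refine (puigStepIn_eq_of_le (PLocal.pCore_le_sylow S) (sSup_le ?_)).symm
  rintro A ⟨-, hAc, hAn⟩ a ha
  haveI := puigSeqIn_normal (T := pCore p G) (n + 1)
  have hP : IsPGroup p (puigSeqIn (pCore p G) (n + 1)) :=
    (PLocal.isPGroup_pCore p G).to_le (puigStepIn_le _ _)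
  exact Quad.mem_pCore_of_map_mem
    (Quad.isPGroup_centralizer hP hO (inf_centralizer_puigSeqIn_le n))
    (Quad.quadratic_mem_pCore_of_normal hp2 hP hodd fun w hw =>
      Quad.commute_commutator_of_abelian hAc hAn ha hw)

theorem puigSeqIn_compare (hp2 : p ≠ 2) (hodd : Odd (Nat.card G))
    (hO : pPrimeCore p G = ⊥) (S : Sylow p G) (n : ℕ) :
    puigSeqIn (S : Subgroup G) (2 * n) ≤ puigSeqIn (pCore p G) (2 * n) ∧
      puigSeqIn (pCore p G) (2 * n + 1) ≤ puigSeqIn (S : Subgroup G) (2 * n + 1) := by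
  induction n with
  | zero => exact ⟨le_rfl, puigStepIn_mono (PLocal.pCore_le_sylow S) _⟩
  | succ n ih =>
    have h1 : puigSeqIn (S : Subgroup G) (2 * n + 2) ≤ puigSeqIn (pCore p G) (2 * n + 2) :=
      (puigStepIn_anti ih.2).trans (puigStepIn_puigSeqIn_pCore hp2 hodd hO S (2 * n)).le
    exact ⟨h1, (puigStepIn_puigSeqIn_pCore hp2 hodd hO S (2 * n + 1)).symm.le.trans
      (puigStepIn_anti h1)⟩

/-- **BG B.4 (a)**. -/
theorem puigLowerIn_le_puigLowerIn_pCore (hp2 : p ≠ 2) (hodd : Odd (Nat.card G))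
    (hO : pPrimeCore p G = ⊥) (S : Sylow p G) :
    puigLowerIn (S : Subgroup G) ≤ puigLowerIn (pCore p G) ∧
      puigIn (pCore p G) ≤ puigIn (S : Subgroup G) := by
  obtain ⟨k, hk⟩ := puigSeqIn_stabilizes (S : Subgroup G)
  obtain ⟨l, hl⟩ := puigSeqIn_stabilizes (pCore p G)
  rw [← (hk _ (le_max_left k l)).1, ← (hk _ (le_max_left k l)).2,
    ← (hl _ (le_max_right k l)).1, ← (hl _ (le_max_right k l)).2]
  exact puigSeqIn_compare hp2 hodd hO S _

/-- **BG B.4 (b)**: `Z(L(S))` is normal. -/
theorem puigCenterIn_normal (hp2 : p ≠ 2) (hodd : Odd (Nat.card G))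
    (hO : pPrimeCore p G = ⊥) (S : Sylow p G) : (puigCenterIn (S : Subgroup G)).Normal := by
  set T := pCore p G with hT
  obtain ⟨hlow, hhigh⟩ := puigLowerIn_le_puigLowerIn_pCore hp2 hodd hO S
  have hYT : puigCenterIn (S : Subgroup G) ≤ puigLowerIn T :=
    (puigCenterIn_le_puigLowerIn _).trans hlow
  have hYW : puigCenterIn (S : Subgroup G) ≤ puigCenterIn T := le_inf
    (hYT.trans (puigLowerIn_le_puigIn T)) (inf_le_right.trans (centralizer_le hhigh))
  set W := puigCenterIn T with hW
  haveI hWn : W.Normal := by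
    rw [← normalizer_eq_top_iff, eq_top_iff]
    refine le_trans ?_ (normalizer_le_normalizer_puigCenterIn T)
    rw [normalizer_eq_top]
  have hWS : W ≤ puigLowerIn (S : Subgroup G) :=
    le_puigLowerIn ((puigCenterIn_le T).trans (PLocal.pCore_le_sylow S))
      (puigCenterIn_isMulCommutative T) le_normalizer_of_normal
  have hWp : IsPGroup p W := (PLocal.isPGroup_pCore p G).to_le (puigCenterIn_le T)
  set C := centralizer (W : Set G) with hC
  set K := (pCore p (G ⧸ C)).comap (QuotientGroup.mk' C) with hK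
  haveI : K.Normal := Subgroup.Normal.comap inferInstance _
  have hLK : puigIn (S : Subgroup G) ≤ K := by
    rw [← puigStepIn_puigLowerIn]
    refine sSup_le ?_
    rintro A ⟨-, hAc, hAn⟩ a ha
    exact Quad.quadratic_mem_pCore_of_normal hp2 hWp hodd fun w hw =>
      Quad.commute_commutator_of_abelian hAc (hWS.trans hAn) ha hw
  set R := (S : Subgroup G) ⊓ K with hR
  have hLR : puigIn (S : Subgroup G) ≤ R := le_inf (puigIn_le _) hLK
  have hN : normalizer (R : Set G) ≤ normalizer (puigCenterIn (S : Subgroup G) : Set G) := by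
    have h : puigCenterIn R = puigCenterIn (S : Subgroup G) := by
      rw [puigCenterIn, puigCenterIn, puigIn_eq_of_le hLR inf_le_left]
    rw [← h]
    exact normalizer_le_normalizer_puigCenterIn R
  have hCN : C ≤ normalizer (puigCenterIn (S : Subgroup G) : Set G) := by
    intro c hc
    rw [mem_normalizer_iff]
    have key : ∀ x ∈ puigCenterIn (S : Subgroup G), c * x * c⁻¹ = x := fun x hx => by
      rw [← mem_centralizer_iff.1 hc x (hYW hx), mul_inv_cancel_right]
    intro a
    refine ⟨fun ha => (key a ha).symm ▸ ha, fun ha => ?_⟩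
    have h2 := key _ ha
    have h3 : c * a * c⁻¹ = a := mul_left_cancel (a := c) (mul_right_cancel (b := c⁻¹) h2)
    rwa [h3] at ha
  -- the Frattini argument
  obtain ⟨Q, hQ⟩ := CfsgLib.UniqueMaximal.exists_sylow_map_eq_inf K S
  have hKC : K ≤ C ⊔ R := by
    have hCK : C ≤ K := fun c hc => by
      rw [hK, mem_comap, QuotientGroup.mk'_apply, (QuotientGroup.eq_one_iff c).2 hc]
      exact one_mem _
    obtain ⟨k, hk⟩ := IsPGroup.iff_card.1 (PLocal.isPGroup_pCore p (G ⧸ C))
    have hrel : C.relIndex K = p ^ k := by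
      have h := relIndex_ker (K := K) (QuotientGroup.mk' C)
      rw [QuotientGroup.ker_mk', hK,
        map_comap_eq_self_of_surjective (QuotientGroup.mk'_surjective C)] at h
      exact h.trans hk
    refine (PLocal.le_inf_sylow_sup S hCK hrel).trans (le_of_eq ?_)
    rw [sup_comm, hR, inf_comm]
  have htop : K ⊔ normalizer (R : Set G) = ⊤ := by
    rw [hR, ← hQ, sup_comm]
    exact Sylow.normalizer_sup_eq_top Q
  rw [← normalizer_eq_top_iff, eq_top_iff, ← htop]
  exact sup_le (hKC.trans (sup_le hCN (le_normalizer.trans hN))) hN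

end CfsgLib.OddOrder
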