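import Cfsg.Agent.OddOrder.AppCSums
import Mathlib.GroupTheory.PGroup
import Mathlib.Algebra.Algebra.Subalgebra.Basic
import Mathlib.FieldTheory.IntermediateField.Adjoin.Basic
import Mathlib.RingTheory.IntegralDomain
import Mathlib.Tactic.FieldSimp
import Mathlib.Algebra.CharP.CharAndCard

/-!
# The final configuration of the odd order theorem (Bender–Glauberman, Appendix C)

In the configuration `P ≅ GF(p^q)⁺`, `U` the norm-one group, `Q` abelian of order prime to `p`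
normalised by `P₀ = ⟨s⟩`, and `t = s ^ y` normalising `U`, we derive `p ≤ q`.

Write `σ_k` for the conjugation of `U` by `t ^ k` and `P_k = P ^ (t ^ -k)`.  The point `pnt d c` is the
conjugate of `P` by `t ^ d s ^ c t ^ -d`; it is symmetric in `c, d`.  The additive relations in `P_c`
rewritten in `P_d P` give translations between such points under the action of `P`.  The stabilizers
are shown to be trivial, so each point gets a potential in `GF(p)`, and four of these relations are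
incompatible.
-/

set_option autoImplicit false

namespace CfsgLib.OddOrder.AppC

open Subgroup

/-- The hypotheses of the final configuration, with `p ≥ 5`, `q` odd, `q ≠ p`. -/
structure Config (G : Type*) [Group G] (F : Type*) [Field F] [Fintype F] (p q : ℕ) where
  hp5 : 5 ≤ p
  hq2 : q ≠ 2
  hqp : q < p
  hcop : Nat.Coprime ((p ^ q - 1) / (p - 1)) (p - 1)
  hF : Fintype.card F = p ^ q
  P : Subgroup G
  U : Subgroup G
  Q : Subgroup G
  f : G → F
  ψ : G → F
  hf : Set.BijOn f (P : Set G) Set.univ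
  hfadd : ∀ x ∈ P, ∀ z ∈ P, f (x * z) = f x + f z
  hUP : U ≤ normalizer (P : Set G)
  hψ : ∀ u ∈ U, ψ u ≠ 0 ∧ ∀ x ∈ P, f (u * x * u⁻¹) = ψ u * f x
  hψmul : ∀ u ∈ U, ∀ v ∈ U, ψ (u * v) = ψ u * ψ v
  hψinj : Set.InjOn ψ (U : Set G)
  hUcard : Nat.card U = (p ^ q - 1) / (p - 1)
  hQ : IsMulCommutative Q
  hQp : (Nat.card Q).Coprime p
  hP0Q : ∀ x ∈ P, f x ^ p = f x → x ∈ normalizer (Q : Set G)
  y : G
  hy : y ∈ Q
  hP0U : ∀ x ∈ P, f x ^ p = f x → y * x * y⁻¹ ∈ normalizer (U : Set G)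

namespace Config

variable {G : Type*} [Group G] [Finite G] {F : Type*} [Field F] [Fintype F] {p q : ℕ}
  [hp : Fact p.Prime] [hq : Fact q.Prime] [CharP F p] (C : Config G F p q)

/-- The number of norm-one elements. -/
def n (_C : Config G F p q) : ℕ := (p ^ q - 1) / (p - 1)

/-- Membership of the prime field. -/
def Sc (a : F) : Prop := a ^ p = a

omit [Fintype F] hq [CharP F p] in
theorem sc_zero : Sc (p := p) (0 : F) := zero_pow hp.out.ne_zero

omit [Fintype F] hq [CharP F p] hp in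
theorem sc_one : Sc (p := p) (1 : F) := one_pow p

omit [Fintype F] hq in
theorem sc_intCast (m : ℤ) : Sc (p := p) (m : F) := by
  show frobenius F p (m : F) = m
  exact map_intCast _ m

omit [Fintype F] hq in
theorem Sc.add {a b : F} (ha : Sc (p := p) a) (hb : Sc (p := p) b) : Sc (p := p) (a + b) := by
  show (a + b) ^ p = a + b
  rw [add_pow_char, ha, hb]

omit [Fintype F] hq in
theorem Sc.sub {a b : F} (ha : Sc (p := p) a) (hb : Sc (p := p) b) : Sc (p := p) (a - b) := by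
  show (a - b) ^ p = a - b
  rw [sub_pow_char, ha, hb]

omit [Fintype F] hq [CharP F p] hp in
theorem Sc.mul {a b : F} (ha : Sc (p := p) a) (hb : Sc (p := p) b) : Sc (p := p) (a * b) := by
  show (a * b) ^ p = a * b
  rw [mul_pow, ha, hb]

omit [Fintype F] hq [CharP F p] hp in
theorem Sc.div {a b : F} (ha : Sc (p := p) a) (hb : Sc (p := p) b) : Sc (p := p) (a / b) := by
  show (a / b) ^ p = a / b
  rw [div_pow, ha, hb]

omit [Fintype F] hq [CharP F p] hp in
theorem Sc.pow_pow {a : F} (ha : Sc (p := p) a) (k : ℕ) : a ^ (p ^ k) = a := by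
  induction k with
  | zero => rw [pow_zero, pow_one]
  | succ k ih => rw [pow_succ, pow_mul, ih, ha]

omit [Fintype F] hq in
theorem exists_intCast {a : F} (ha : Sc (p := p) a) : ∃ m : ℤ, (m : F) = a := by
  have hx' := (Subfield.mem_bot_iff_pow_eq_self (F := F) (p := p)).2 ha
  rwa [mem_bot_iff_intCast p] at hx'

omit [Finite G] in
include C in
theorem q_odd : Odd q := hq.out.odd_of_ne_two C.hq2

omit [Finite G] in
include C in
theorem n_coprime : Nat.Coprime C.n (p - 1) := C.hcop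

omit [Finite G] in
include C in
theorem n_gt_one : 1 < C.n := by
  have h : (p ^ q - 1) / (p - 1) = ∑ i ∈ Finset.range q, p ^ i :=
    (Nat.geomSum_eq (by have := C.hp5; omega) q).symm
  rw [n, h]
  calc 1 < p ^ 0 + p ^ 1 := by have := C.hp5; simp; omega
    _ = ∑ i ∈ ({0, 1} : Finset ℕ), p ^ i := by simp
    _ ≤ _ := Finset.sum_le_sum_of_subset (by
      intro i hi
      have := hq.out.two_le
      simp at hi ⊢
      omega)

omit [Finite G] in
/-- A norm-one element of the prime field is `1`. -/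
theorem eq_one_of_sc {a : F} (ha : Sc (p := p) a) (hn : a ^ C.n = 1) : a = 1 := by
  have h0 : a ≠ 0 := fun h => by
    rw [h, zero_pow (by have := C.n_gt_one; omega)] at hn
    exact zero_ne_one hn
  have h1 : a ^ (p - 1) = 1 := by
    refine mul_right_cancel₀ h0 ?_
    rw [← pow_succ, Nat.sub_add_cancel hp.out.one_le, one_mul]; exact ha
  have := pow_gcd_eq_one.mpr ⟨hn, h1⟩
  rwa [C.n_coprime, pow_one] at this

theorem psi_one : C.ψ 1 = 1 := by
  have h := C.hψmul 1 C.U.one_mem 1 C.U.one_mem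
  rw [mul_one] at h
  exact (mul_eq_left₀ (C.hψ 1 C.U.one_mem).1).1 h.symm

theorem psi_pow {u : G} (hu : u ∈ C.U) (k : ℕ) : C.ψ (u ^ k) = C.ψ u ^ k := by
  induction k with
  | zero => rw [pow_zero, pow_zero, C.psi_one]
  | succ k ih => rw [pow_succ, pow_succ, C.hψmul _ (pow_mem hu k) _ hu, ih]

theorem psi_inv {u : G} (hu : u ∈ C.U) : C.ψ u⁻¹ = (C.ψ u)⁻¹ := by
  refine eq_inv_of_mul_eq_one_left ?_
  rw [← C.hψmul _ (inv_mem hu) _ hu, inv_mul_cancel, C.psi_one]

theorem psi_pow_n {u : G} (hu : u ∈ C.U) : C.ψ u ^ C.n = 1 := by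
  have h : (⟨u, hu⟩ : C.U) ^ Nat.card C.U = 1 := pow_card_eq_one'
  rw [← C.psi_pow hu, n, ← C.hUcard]
  rw [show u ^ Nat.card C.U = 1 from congrArg Subtype.val h]
  exact C.psi_one

theorem psi_sc {u : G} (hu : u ∈ C.U) (h : Sc (p := p) (C.ψ u)) : u = 1 :=
  C.hψinj hu C.U.one_mem (by rw [C.eq_one_of_sc h (C.psi_pow_n hu), C.psi_one])

theorem U_comm {u v : G} (hu : u ∈ C.U) (hv : v ∈ C.U) : u * v = v * u :=
  C.hψinj (mul_mem hu hv) (mul_mem hv hu) (by
    rw [C.hψmul _ hu _ hv, C.hψmul _ hv _ hu, mul_comm])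

/-- The image of `U` is the group of norm-one elements. -/
theorem exists_unit {a : F} (ha : a ^ C.n = 1) : ∃ u ∈ C.U, C.ψ u = a := by
  classical
  have hn : 0 < C.n := lt_trans Nat.zero_lt_one C.n_gt_one
  let S : Finset F := (Set.toFinite (C.ψ '' (C.U : Set G))).toFinset
  have hS : S.card = C.n := by
    rw [← Set.ncard_eq_toFinset_card _ _, C.hψinj.ncard_image, ← Nat.card_coe_set_eq]
    exact C.hUcard
  have hsub : S ⊆ (Polynomial.nthRoots C.n (1 : F)).toFinset := by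
    intro x hx
    obtain ⟨u, hu, rfl⟩ := (Set.Finite.mem_toFinset _).1 hx
    rw [Multiset.mem_toFinset, Polynomial.mem_nthRoots hn]
    exact C.psi_pow_n hu
  have heq := Finset.eq_of_subset_of_card_le hsub (by
    rw [hS]
    exact (Multiset.toFinset_card_le _).trans (Polynomial.card_nthRoots C.n (1 : F)))
  have hmem : a ∈ S := by rw [heq, Multiset.mem_toFinset, Polynomial.mem_nthRoots hn]; exact ha
  obtain ⟨u, hu, h⟩ := (Set.Finite.mem_toFinset _).1 hmem
  exact ⟨u, hu, h⟩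

/-! ### The parametrisation of `P` -/

/-- The element of `P` with coordinate `a`. -/
noncomputable def pt (a : F) : G := Function.invFunOn C.f (C.P : Set G) a

theorem pt_mem (a : F) : C.pt a ∈ C.P :=
  Function.invFunOn_mem (C.hf.surjOn (Set.mem_univ a))

theorem f_pt (a : F) : C.f (C.pt a) = a :=
  Function.invFunOn_eq (C.hf.surjOn (Set.mem_univ a))

theorem pt_eq {x : G} (hx : x ∈ C.P) {a : F} (h : C.f x = a) : C.pt a = x :=
  C.hf.injOn (C.pt_mem a) hx (by rw [C.f_pt, h])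

theorem pt_add (a b : F) : C.pt (a + b) = C.pt a * C.pt b :=
  C.pt_eq (mul_mem (C.pt_mem a) (C.pt_mem b))
    (by rw [C.hfadd _ (C.pt_mem a) _ (C.pt_mem b), C.f_pt, C.f_pt])

theorem pt_zero : C.pt 0 = 1 := by
  have h := C.pt_add 0 0
  rw [add_zero] at h
  exact mul_eq_left.1 h.symm

/-- `pt` as a homomorphism. -/
noncomputable def ptHom : Multiplicative F →* G where
  toFun a := C.pt a.toAdd
  map_one' := C.pt_zero
  map_mul' a b := C.pt_add a.toAdd b.toAdd

theorem pt_neg (a : F) : C.pt (-a) = (C.pt a)⁻¹ :=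
  map_inv C.ptHom (Multiplicative.ofAdd a)

theorem pt_conj {u : G} (hu : u ∈ C.U) (a : F) : u * C.pt a * u⁻¹ = C.pt (C.ψ u * a) :=
  (C.pt_eq ((mem_normalizer_iff.1 (C.hUP hu) _).1 (C.pt_mem a))
    (by rw [(C.hψ u hu).2 _ (C.pt_mem a), C.f_pt])).symm

/-- The generator of `P₀`. -/
noncomputable def s : G := C.pt 1

/-- `s ^ y`. -/
noncomputable def t : G := C.y * C.s * C.y⁻¹

theorem pt_intCast (m : ℤ) : C.pt (m : F) = C.s ^ m := by
  have h := map_zpow C.ptHom (Multiplicative.ofAdd (1 : F)) m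
  rw [← ofAdd_zsmul, zsmul_one] at h
  exact h

theorem s_zpow_mem (m : ℤ) : C.s ^ m ∈ C.P := zpow_mem (C.pt_mem 1) m

theorem s_mem_normalizer : C.s ∈ normalizer (C.P : Set G) := le_normalizer (C.pt_mem 1)

theorem s_zpow_normalizer (m : ℤ) : C.s ^ m ∈ normalizer (C.P : Set G) :=
  le_normalizer (C.s_zpow_mem m)

theorem s_nQ (m : ℤ) : C.s ^ m ∈ normalizer (C.Q : Set G) :=
  zpow_mem (C.hP0Q _ (C.pt_mem 1) (by rw [C.f_pt, one_pow])) m

theorem t_nU (k : ℤ) : C.t ^ k ∈ normalizer (C.U : Set G) :=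
  zpow_mem (C.hP0U _ (C.pt_mem 1) (by rw [C.f_pt, one_pow])) k

theorem s_pow_p : C.s ^ p = 1 := by
  have h := C.pt_intCast (p : ℤ)
  rw [zpow_natCast, Int.cast_natCast, CharP.cast_eq_zero, C.pt_zero] at h
  exact h.symm

theorem t_zpow (k : ℤ) : C.t ^ k = C.y * C.s ^ k * C.y⁻¹ := conj_zpow

theorem isPGroup_P : IsPGroup p C.P := by
  refine IsPGroup.of_card (n := q) ?_
  rw [← C.hF, ← Nat.card_eq_fintype_card]
  exact Nat.card_congr (Equiv.ofBijective (fun x : C.P => C.f x)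
    ⟨fun a b h => Subtype.ext (C.hf.injOn a.2 b.2 h),
      fun a => ⟨⟨C.pt a, C.pt_mem a⟩, C.f_pt a⟩⟩)

theorem Q_comm {a b : G} (ha : a ∈ C.Q) (hb : b ∈ C.Q) : a * b = b * a :=
  congrArg Subtype.val (C.hQ.is_comm.comm ⟨a, ha⟩ ⟨b, hb⟩)

theorem eq_one_of_mem_Q_of_pow {e : G} (he : e ∈ C.Q) {k : ℕ} (h : e ^ p ^ k = 1) : e = 1 :=
  orderOf_eq_one_iff.1 (Nat.eq_one_of_dvd_coprimes (C.hQp.pow_right k)
    (Subgroup.orderOf_dvd_natCard C.Q he) (orderOf_dvd_of_pow_eq_one h))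

theorem eq_one_of_mem_Q_of_mem_pGroup {R : Subgroup G} (hR : IsPGroup p R) {e : G} (he : e ∈ C.Q)
    (heR : e ∈ R) : e = 1 := by
  obtain ⟨k, hk⟩ := hR ⟨e, heR⟩
  exact C.eq_one_of_mem_Q_of_pow he (congrArg Subtype.val hk)

/-! ### The commutators `[t ^ k, s ^ m]` -/

/-- Conjugation by `s ^ j`. -/
noncomputable def φ (j : ℤ) (w : G) : G := C.s ^ j * w * (C.s ^ j)⁻¹

theorem φ_mem (j : ℤ) {w : G} (hw : w ∈ C.Q) : C.φ j w ∈ C.Q :=
  (mem_normalizer_iff.1 (C.s_nQ j) w).1 hw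

theorem φ_φ (i j : ℤ) (w : G) : C.φ i (C.φ j w) = C.φ (i + j) w := by
  simp only [φ, zpow_add]; group

theorem φ_zero (w : G) : C.φ 0 w = w := by simp [φ]

theorem φ_mul (j : ℤ) (v w : G) : C.φ j (v * w) = C.φ j v * C.φ j w := by
  simp only [φ]; group

theorem φ_inv (j : ℤ) (w : G) : C.φ j w⁻¹ = (C.φ j w)⁻¹ := by
  simp only [φ]; group

/-- `[t ^ k, s ^ m]`. -/
noncomputable def K (k m : ℤ) : G := C.t ^ k * C.s ^ m * (C.t ^ k)⁻¹ * (C.s ^ m)⁻¹

theorem K_eq (k m : ℤ) :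
    C.K k m = C.y * (C.φ k C.y)⁻¹ * C.φ (k + m) C.y * (C.φ m C.y)⁻¹ := by
  simp only [K, C.t_zpow, φ, zpow_add]; group

theorem K_eq_pair (k m : ℤ) :
    C.K k m = (C.y * (C.φ k C.y)⁻¹) * (C.φ m (C.y * (C.φ k C.y)⁻¹))⁻¹ := by
  rw [C.K_eq, C.φ_mul, C.φ_inv, mul_inv_rev, inv_inv, C.φ_φ, add_comm m k]
  group

theorem K_mem (k m : ℤ) : C.K k m ∈ C.Q := by
  rw [C.K_eq]
  exact mul_mem (mul_mem (mul_mem C.hy (inv_mem (C.φ_mem k C.hy))) (C.φ_mem _ C.hy))
    (inv_mem (C.φ_mem m C.hy))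

theorem Q_rotate {a b c d : G} (ha : a ∈ C.Q) (hb : b ∈ C.Q) (hc : c ∈ C.Q) (hd : d ∈ C.Q) :
    a * b * c * d = a * d * c * b ∧ a * b * c * d = c * d * a * b := by
  constructor
  · rw [mul_assoc (a * b) c d, mul_assoc a b (c * d), mul_assoc a d c, mul_assoc a (d * c) b,
      C.Q_comm hb (mul_mem hc hd), C.Q_comm hc hd]
  · rw [mul_assoc (a * b) c d, mul_assoc (c * d) a b, C.Q_comm (mul_mem ha hb) (mul_mem hc hd)]

theorem K_symm (k m : ℤ) : C.K k m = C.K m k := by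
  rw [C.K_eq, C.K_eq, add_comm m k]
  exact (C.Q_rotate C.hy (inv_mem (C.φ_mem k C.hy)) (C.φ_mem _ C.hy)
    (inv_mem (C.φ_mem m C.hy))).1

theorem K_neg (k m : ℤ) : C.K (-k) (-m) = C.φ (-(k + m)) (C.K k m) := by
  rw [C.K_eq, C.K_eq, C.φ_mul, C.φ_mul, C.φ_mul, C.φ_inv, C.φ_inv, C.φ_φ, C.φ_φ, C.φ_φ,
    show -(k + m) + k = -m by ring, show -(k + m) + (k + m) = 0 by ring,
    show -(k + m) + m = -k by ring, show -k + -m = -(k + m) by ring, C.φ_zero]
  have h1 := C.φ_mem (-k) C.hy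
  have h2 := C.φ_mem (-m) C.hy
  have h3 := C.φ_mem (-(k + m)) C.hy
  rw [← (C.Q_rotate C.hy (inv_mem h1) h3 (inv_mem h2)).2.symm]

/-- Fixed elements of commutator form are trivial. -/
theorem eq_one_of_commute_pair {r : G} (hr : r ∈ C.Q) (m : ℤ)
    (hc : Commute (C.s ^ m) (r * (C.φ m r)⁻¹)) : r * (C.φ m r)⁻¹ = 1 := by
  set e := r * (C.φ m r)⁻¹ with he
  have hfix : ∀ j : ℕ, C.φ (j * m) e = e := by
    intro j
    have hh : Commute (C.s ^ ((j : ℤ) * m)) e := by
      rw [mul_comm, zpow_mul]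
      exact hc.zpow_left j
    rw [φ, hh.eq, mul_inv_cancel_right]
  have key : ∀ j : ℕ, r * (C.φ (j * m) r)⁻¹ = e ^ j := by
    intro j
    induction j with
    | zero => simp [C.φ_zero]
    | succ j ih =>
      rw [pow_succ, ← ih]
      conv_rhs => rw [← hfix j, he, C.φ_mul, C.φ_inv, C.φ_φ]
      rw [show ((j + 1 : ℕ) : ℤ) * m = (j : ℤ) * m + m by push_cast; ring]
      group
  refine C.eq_one_of_mem_Q_of_pow (mul_mem hr (inv_mem (C.φ_mem m hr))) (k := 1) ?_
  rw [pow_one, ← key p, φ, zpow_mul, zpow_natCast, C.s_pow_p, one_zpow]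
  group

theorem exists_inv {k : ℤ} (hk : (k : F) ≠ 0) : ∃ i j : ℤ, i * k + j * p = 1 := by
  have hcop : IsCoprime (p : ℤ) k := by
    refine (Nat.prime_iff_prime_int.1 hp.out).coprime_iff_not_dvd.2 fun h => hk ?_
    exact (CharP.intCast_eq_zero_iff F p k).2 h
  obtain ⟨i, j, h⟩ := hcop
  exact ⟨j, i, by linarith⟩

theorem zpow_recover {g : G} (hg : g ^ p = 1) {k : ℤ} (hk : (k : F) ≠ 0) :
    ∃ i : ℤ, g = (g ^ k) ^ i := by
  obtain ⟨i, j, h⟩ := exists_inv (p := p) hk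
  refine ⟨i, ?_⟩
  conv_lhs => rw [← zpow_one g, ← h, zpow_add, mul_comm j, zpow_mul g (p : ℤ), zpow_natCast, hg,
    one_zpow, mul_one, mul_comm, zpow_mul]

theorem t_pow_p : C.t ^ p = 1 := by
  rw [t, conj_pow, C.s_pow_p, mul_one, mul_inv_cancel]

theorem K_ne_one {k m : ℤ} (hk : (k : F) ≠ 0) (hm : (m : F) ≠ 0) : C.K k m ≠ 1 := by
  intro h
  have hc : Commute (C.t ^ k) (C.s ^ m) := by
    rw [K] at h
    exact mul_inv_eq_iff_eq_mul.1 (mul_inv_eq_one.1 h)
  obtain ⟨i, hi⟩ := zpow_recover (F := F) C.t_pow_p hk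
  obtain ⟨j, hj⟩ := zpow_recover (F := F) C.s_pow_p hm
  have hts : Commute C.t C.s := by
    rw [hi, hj]
    exact (hc.zpow_left i).zpow_right j
  have h11 : C.K 1 1 = 1 := by simp [K, hts.eq]
  rw [C.K_eq_pair] at h11
  set r := C.y * (C.φ 1 C.y)⁻¹ with hr
  have hrfix : Commute (C.s ^ (1 : ℤ)) r := by
    have h1 : r = C.φ 1 r := mul_inv_eq_one.1 h11
    have := congrArg (· * C.s ^ (1 : ℤ)) h1
    simp only [φ, inv_mul_cancel_right] at this
    exact this.symm
  have hr1 : r = 1 := C.eq_one_of_commute_pair C.hy 1 hrfix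
  have hy1 : C.y = C.s * C.y * C.s⁻¹ := by
    have := mul_inv_eq_one.1 (hr ▸ hr1)
    simpa [φ] using this
  have hts' : C.t = C.s := by
    have e : C.y * C.s = C.s * C.y := by
      nth_rewrite 1 [hy1]
      group
    rw [t, e, mul_inv_cancel_right]
  -- so `s` normalises `U`, which forces `U = 1`
  have hU : ∀ u ∈ C.U, u = 1 := by
    intro u hu
    have hn : C.s ∈ normalizer (C.U : Set G) := by
      have := C.t_nU 1
      rwa [zpow_one, hts'] at this
    have h1 : C.s * u * C.s⁻¹ * u⁻¹ ∈ C.U :=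
      mul_mem ((mem_normalizer_iff.1 hn u).1 hu) (inv_mem hu)
    have e : C.s * u * C.s⁻¹ * u⁻¹ = C.pt (1 + C.ψ u * -1) := by
      rw [C.pt_add, ← C.pt_conj hu, C.pt_neg]
      show C.pt 1 * u * (C.pt 1)⁻¹ * u⁻¹ = C.pt 1 * (u * (C.pt 1)⁻¹ * u⁻¹)
      group
    have h2 : ∀ a : F, C.ψ (C.s * u * C.s⁻¹ * u⁻¹) * a = a := by
      intro a
      have h3 := C.pt_conj h1 a
      rw [e, ← C.pt_add, ← C.pt_neg, ← C.pt_add, ← e] at h3
      have h4 := congrArg C.f h3
      rw [C.f_pt, C.f_pt] at h4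
      linear_combination -h4
    have h5 : C.s * u * C.s⁻¹ * u⁻¹ = 1 :=
      C.hψinj h1 C.U.one_mem (by rw [C.psi_one]; simpa using h2 1)
    have h6 : (1 : F) + C.ψ u * -1 = 0 := by
      have := congrArg C.f (e.symm.trans h5)
      rwa [C.f_pt, ← C.pt_zero, C.f_pt] at this
    exact C.hψinj hu C.U.one_mem (by rw [C.psi_one]; linear_combination -h6)
  have : Nat.card C.U = 1 := by
    rw [Subgroup.card_eq_one, eq_bot_iff]
    intro u hu
    rw [hU u hu]; exact one_mem _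
  have h1 := C.n_gt_one
  rw [n, ← C.hUcard, this] at h1
  omega

/-! ### Layers and points -/

/-- The element with coordinate `a` of `P` conjugated by `t ^ k`. -/
noncomputable def L (k : ℤ) (a : F) : G := C.t ^ k * C.pt a * (C.t ^ k)⁻¹

/-- Conjugation of `U` by `t ^ -k`. -/
noncomputable def σ (k : ℤ) (u : G) : G := (C.t ^ k)⁻¹ * u * C.t ^ k

theorem L_add (k : ℤ) (a b : F) : C.L k (a + b) = C.L k a * C.L k b := by
  simp only [L, C.pt_add]; group

theorem L_zero (k : ℤ) : C.L k 0 = 1 := by simp [L, C.pt_zero]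

theorem L_neg (k : ℤ) (a : F) : C.L k (-a) = (C.L k a)⁻¹ := by
  simp only [L, C.pt_neg]; group

theorem σ_mem {k : ℤ} {u : G} (hu : u ∈ C.U) : C.σ k u ∈ C.U :=
  (mem_normalizer_iff''.1 (C.t_nU k) u).1 hu

theorem σ_mul (k : ℤ) (u v : G) : C.σ k (u * v) = C.σ k u * C.σ k v := by
  simp only [σ]; group

theorem σ_pow (k : ℤ) (u : G) (j : ℕ) : C.σ k (u ^ j) = C.σ k u ^ j := by
  induction j with
  | zero => simp [σ]
  | succ j ih => rw [pow_succ, pow_succ, C.σ_mul, ih]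

theorem σ_one (k : ℤ) : C.σ k 1 = 1 := by simp [σ]

theorem σ_inv (k : ℤ) (u : G) : C.σ k u⁻¹ = (C.σ k u)⁻¹ := by
  simp only [σ]; group

theorem exists_σ_eq {k : ℤ} {a : F} (ha : a ^ C.n = 1) : ∃ u ∈ C.U, C.ψ (C.σ k u) = a := by
  obtain ⟨u, hu, h⟩ := C.exists_unit ha
  refine ⟨C.t ^ k * u * (C.t ^ k)⁻¹, (mem_normalizer_iff.1 (C.t_nU k) u).1 hu, ?_⟩
  rw [σ, show (C.t ^ k)⁻¹ * (C.t ^ k * u * (C.t ^ k)⁻¹) * C.t ^ k = u by group, h]

theorem L_conj {u : G} (hu : u ∈ C.U) (k : ℤ) (a : F) :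
    u * C.L k a * u⁻¹ = C.L k (C.ψ (C.σ k u) * a) := by
  rw [L, L, ← C.pt_conj (C.σ_mem hu)]
  simp only [σ]; group

/-- Decomposition of a non-zero element as prime field times norm one. -/
theorem exists_sc_mul_unit {a : F} (ha : a ≠ 0) :
    ∃ (m : ℤ) (r : F), (m : F) ≠ 0 ∧ r ^ C.n = 1 ∧ a = m * r := by
  letI : Algebra (ZMod p) F := ZMod.algebra F p
  have hpq : a ^ (p ^ q - 1) = 1 := by
    rw [← C.hF]; exact FiniteField.pow_card_sub_one_eq_one a ha
  have hdiv : (p - 1) ∣ p ^ q - 1 := by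
    simpa using Nat.sub_dvd_pow_sub_pow p 1 q
  have h1 : (a ^ C.n) ^ (p - 1) = 1 := by
    rw [← pow_mul, n, Nat.div_mul_cancel hdiv, hpq]
  have h2 : (a ^ C.n) ^ p = a ^ C.n := by
    calc (a ^ C.n) ^ p = (a ^ C.n) ^ (p - 1 + 1) := by rw [Nat.sub_add_cancel hp.out.one_le]
      _ = a ^ C.n := by rw [pow_succ, h1, one_mul]
  obtain ⟨b, hb⟩ := exists_algebraMap_eq (F := F) h2
  have hb0 : b ≠ 0 := fun h => by rw [h, map_zero] at hb; exact pow_ne_zero _ ha hb.symm
  have hcard : (Nat.card (ZMod p)ˣ).Coprime C.n := by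
    rw [Nat.card_units, Nat.card_zmod]; exact C.n_coprime.symm
  obtain ⟨z, hz⟩ := (powCoprime hcard).surjective (Units.mk0 b hb0)
  have hz' : (z : ZMod p) ^ C.n = b := congrArg Units.val hz
  set m : ℤ := ((z : ZMod p).val : ℤ) with hm
  have hmz : (m : F) = algebraMap (ZMod p) F z := by
    rw [hm, Int.cast_natCast, ← map_natCast (algebraMap (ZMod p) F), ZMod.natCast_zmod_val]
  have hm0 : (m : F) ≠ 0 := by rw [hmz, map_ne_zero]; exact z.ne_zero
  refine ⟨m, a / m, hm0, ?_, (mul_div_cancel₀ a hm0).symm⟩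
  rw [div_pow, hmz, ← map_pow, hz', hb, div_self (pow_ne_zero _ ha)]

theorem L_mem_normalizer_iff {k : ℤ} (hk : (k : F) ≠ 0) (a : F) :
    C.L k a ∈ normalizer (C.P : Set G) ↔ a = 0 := by
  refine ⟨fun ha => ?_, fun h => by rw [h, C.L_zero]; exact one_mem _⟩
  by_contra ha0
  obtain ⟨m, r, hm, hr, rfl⟩ := C.exists_sc_mul_unit ha0
  obtain ⟨u, hu, hur⟩ := C.exists_σ_eq (k := k) (show r⁻¹ ^ C.n = 1 by rw [inv_pow, hr, inv_one])
  have h1 : C.L k (m : F) ∈ normalizer (C.P : Set G) := by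
    have h := mul_mem (mul_mem (C.hUP hu) ha) (inv_mem (C.hUP hu))
    rw [C.L_conj hu, hur] at h
    have hr0 : r ≠ 0 := fun h0 => by
      rw [h0, zero_pow (by have := C.n_gt_one; omega)] at hr
      exact zero_ne_one hr
    rwa [show r⁻¹ * ((m : F) * r) = m by field_simp] at h
  have hK : C.K k m ∈ normalizer (C.P : Set G) := by
    rw [K, ← C.pt_intCast]
    refine mul_mem h1 (inv_mem (le_normalizer (C.pt_mem _)))
  refine C.K_ne_one hk hm ?_
  have hcomm : C.K k m * C.s ^ m * (C.K k m)⁻¹ * (C.s ^ m)⁻¹ = 1 := by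
    refine C.eq_one_of_mem_Q_of_mem_pGroup C.isPGroup_P ?_ ?_
    · have e : C.K k m * C.s ^ m * (C.K k m)⁻¹ * (C.s ^ m)⁻¹
          = C.K k m * C.φ m (C.K k m)⁻¹ := by simp only [φ]; group
      rw [e]
      exact mul_mem (C.K_mem k m) (C.φ_mem m (inv_mem (C.K_mem k m)))
    · exact mul_mem ((mem_normalizer_iff.1 hK _).1 (C.s_zpow_mem m)) (inv_mem (C.s_zpow_mem m))
  rw [C.K_eq_pair] at hcomm ⊢
  refine C.eq_one_of_commute_pair (mul_mem C.hy (inv_mem (C.φ_mem k C.hy))) m ?_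
  exact (mul_inv_eq_iff_eq_mul.1 (mul_inv_eq_one.1 hcomm)).symm

/-- The base point. -/
noncomputable def o : G ⧸ normalizer (C.P : Set G) := QuotientGroup.mk 1

/-- The conjugate of `P` by `t ^ k s ^ m t ^ -k`. -/
noncomputable def pnt (k m : ℤ) : G ⧸ normalizer (C.P : Set G) :=
  C.L k (m : F) • C.o

theorem smul_o (g : G) :
    g • C.o = (QuotientGroup.mk g : G ⧸ normalizer (C.P : Set G)) := by
  rw [o, MulAction.Quotient.smul_mk, smul_eq_mul, mul_one]

theorem smul_o_eq_iff (g h : G) : g • C.o = h • C.o ↔ g⁻¹ * h ∈ normalizer (C.P : Set G) := by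
  rw [C.smul_o, C.smul_o, QuotientGroup.eq]

theorem smul_o_of_mem {g : G} (hg : g ∈ normalizer (C.P : Set G)) : g • C.o = C.o := by
  rw [← one_smul G C.o, ← mul_smul, C.smul_o_eq_iff, mul_one, mul_one]
  exact inv_mem hg

theorem pnt_eq_K (k m : ℤ) : C.pnt k m = C.K k m • C.o := by
  rw [pnt, K, ← C.pt_intCast, mul_smul _ (C.pt m)⁻¹,
    C.smul_o_of_mem (inv_mem (le_normalizer (C.pt_mem _))), L]

theorem pnt_symm (k m : ℤ) : C.pnt k m = C.pnt m k := by
  rw [C.pnt_eq_K, C.pnt_eq_K, C.K_symm]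

theorem pnt_neg (k m : ℤ) : C.pnt (-k) (-m) = C.pt ((-(k + m) : ℤ) : F) • C.pnt k m := by
  rw [C.pnt_eq_K, C.pnt_eq_K, C.K_neg, φ, mul_smul,
    C.smul_o_of_mem (inv_mem (C.s_zpow_normalizer _)), mul_smul, C.pt_intCast]

theorem smul_pt {u : G} (hu : u ∈ C.U) (a : F) (x : G ⧸ normalizer (C.P : Set G)) :
    u • C.pt a • x = C.pt (C.ψ u * a) • u • x := by
  rw [← C.pt_conj hu, ← mul_smul, ← mul_smul, inv_mul_cancel_right]

theorem pt_pt (a b : F) (x : G ⧸ normalizer (C.P : Set G)) :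
    C.pt a • C.pt b • x = C.pt (a + b) • x := by
  rw [C.pt_add, mul_smul]

theorem smul_L_o {u : G} (hu : u ∈ C.U) (k : ℤ) (a : F) :
    u • C.L k a • C.o = C.L k (C.ψ (C.σ k u) * a) • C.o := by
  rw [← C.L_conj hu, mul_smul, mul_smul, C.smul_o_of_mem (inv_mem (C.hUP hu))]

theorem L_smul_o_inj {k : ℤ} (hk : (k : F) ≠ 0) {a b : F} (h : C.L k a • C.o = C.L k b • C.o) :
    a = b := by
  rw [C.smul_o_eq_iff, ← C.L_neg, ← C.L_add, C.L_mem_normalizer_iff hk] at h
  linear_combination -h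

/-- The basic expansion of an element of a layer. -/
theorem expand {u : G} (hu : u ∈ C.U) (c d : ℤ) :
    C.L c (C.ψ (C.σ c u) * d)
      = C.L d (C.ψ (C.σ d u) * c) * C.pt (C.ψ u * ((d : F) - c)) := by
  rw [← C.L_conj hu, ← C.L_conj hu, ← C.pt_conj hu, ← Int.cast_sub]
  have h : C.L c (d : F) = C.L d (c : F) * C.pt ((d - c : ℤ) : F) := by
    have h1 := C.K_symm c d
    simp only [K] at h1
    simp only [L, C.pt_intCast]
    rw [zpow_sub]
    calc C.t ^ c * C.s ^ d * (C.t ^ c)⁻¹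
        = C.t ^ c * C.s ^ d * (C.t ^ c)⁻¹ * (C.s ^ d)⁻¹ * C.s ^ d := by group
      _ = C.t ^ d * C.s ^ c * (C.t ^ d)⁻¹ * (C.s ^ c)⁻¹ * C.s ^ d := by rw [h1]
      _ = C.t ^ d * C.s ^ c * (C.t ^ d)⁻¹ * ((C.s ^ c)⁻¹ * C.s ^ d) := by group
      _ = C.t ^ d * C.s ^ c * (C.t ^ d)⁻¹ * (C.s ^ d * (C.s ^ c)⁻¹) := by
          rw [((Commute.refl C.s).zpow_zpow c d).inv_left.eq]
  rw [h]; group

/-! ### Stabilizers of points -/

/-- A pair of elements of a layer commutes; seen from the base point. -/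
theorem fix_swap {c d : ℤ} {u v : G} (hu : u ∈ C.U) (hv : v ∈ C.U)
    (h : C.pt (C.ψ u * ((d : F) - c)) • v • C.pnt d c = v • C.pnt d c) :
    C.pt (C.ψ v * ((d : F) - c)) • u • C.pnt d c = u • C.pnt d c := by
  set X := C.L d (C.ψ (C.σ d u) * c) with hX
  set x := C.pt (C.ψ u * ((d : F) - c)) with hx
  set Y := C.L d (C.ψ (C.σ d v) * c) with hY
  set z := C.pt (C.ψ v * ((d : F) - c)) with hz
  have hxo : x • C.o = C.o := C.smul_o_of_mem (le_normalizer (C.pt_mem _))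
  have hzo : z • C.o = C.o := C.smul_o_of_mem (le_normalizer (C.pt_mem _))
  have hYo : v • C.pnt d c = Y • C.o := by rw [pnt, C.smul_L_o hv]
  have hXo : u • C.pnt d c = X • C.o := by rw [pnt, C.smul_L_o hu]
  rw [hYo] at h
  rw [hXo]
  have hXY : X * Y = Y * X := by rw [hX, hY, ← C.L_add, ← C.L_add, add_comm]
  have hcomm : X * x * (Y * z) = Y * z * (X * x) := by
    rw [hX, hx, hY, hz, ← C.expand hu, ← C.expand hv, ← C.L_add, ← C.L_add, add_comm]
  have h2 := congrArg (· • C.o) hcomm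
  simp only [mul_smul, hxo, hzo, h] at h2
  rw [← mul_smul, hXY, mul_smul] at h2
  exact (MulAction.injective Y h2).symm

include C in
theorem exists_intCast_div {a b : ℤ} : ∃ j : ℤ, (j : F) = (a : F) / b :=
  exists_intCast (p := p) ((sc_intCast a).div (sc_intCast b))

/-- The stabilizer in `F` of a point, as an additive subgroup. -/
noncomputable def stab (x : G ⧸ normalizer (C.P : Set G)) : AddSubgroup F where
  carrier := {a | C.pt a • x = x}
  zero_mem' := by simp [C.pt_zero]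
  add_mem' {a b} ha hb := by
    show C.pt (a + b) • x = x
    rw [← C.pt_pt, hb, ha]
  neg_mem' {a} ha := by
    show C.pt (-a) • x = x
    rw [C.pt_neg, inv_smul_eq_iff]
    exact (ha : C.pt a • x = x).symm

theorem mem_stab {a : F} {x : G ⧸ normalizer (C.P : Set G)} :
    a ∈ C.stab x ↔ C.pt a • x = x := Iff.rfl

theorem intCast_mul_mem {a : F} {x : G ⧸ normalizer (C.P : Set G)} (h : a ∈ C.stab x) (j : ℤ) :
    (j : F) * a ∈ C.stab x := by
  rw [← zsmul_eq_mul]; exact (C.stab x).zsmul_mem h j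

theorem inv_mem_stab {c d : ℤ} (hα : ((d : F) - c) ≠ 0) {a : F} (ha : a ∈ C.stab (C.pnt d c)) :
    a⁻¹ ∈ C.stab (C.pnt d c) := by
  rcases eq_or_ne a 0 with rfl | ha0
  · simp
  obtain ⟨m, r, hm, hr, hmr⟩ := C.exists_sc_mul_unit ha0
  obtain ⟨u, hu, hur⟩ := C.exists_unit hr
  obtain ⟨j, hj⟩ := C.exists_intCast_div (a := d - c) (b := m)
  have h1 : ((d : F) - c) * r ∈ C.stab (C.pnt d c) := by
    have := C.intCast_mul_mem ha j
    rw [hj, hmr, Int.cast_sub] at this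
    rwa [show ((d : F) - c) / m * (m * r) = ((d : F) - c) * r by field_simp] at this
  have h2 := C.fix_swap (c := c) (d := d) hu C.U.one_mem (by
    rw [one_smul, hur, mul_comm]; exact h1)
  rw [C.psi_one, one_mul] at h2
  have hr0 : r ≠ 0 := by rintro rfl; exact ha0 (by rw [hmr, mul_zero])
  have h3 : ((d : F) - c) / r ∈ C.stab (C.pnt d c) := by
    have h4 := congrArg (u⁻¹ • ·) h2
    simp only [C.smul_pt (inv_mem hu), inv_smul_smul, C.psi_inv hu, hur] at h4
    rw [mem_stab, div_eq_inv_mul]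
    exact h4
  obtain ⟨i, hi⟩ := C.exists_intCast_div (a := 1) (b := m * (d - c))
  have := C.intCast_mul_mem h3 i
  rw [hi] at this
  convert this using 1
  rw [hmr]
  push_cast
  field_simp

/-- The stabilizer of a point contains only elements of the prime field. -/
theorem stab_sc {c d : ℤ} (hc : (c : F) ≠ 0) (hd : (d : F) ≠ 0) (hα : ((d : F) - c) ≠ 0)
    {a : F} (ha : a ∈ C.stab (C.pnt d c)) : Sc (p := p) a := by
  by_contra hns
  letI : Algebra (ZMod p) F := ZMod.algebra F p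
  set D := C.stab (C.pnt d c) with hD
  let M : Subalgebra (ZMod p) F :=
    { carrier := {x | ∀ b ∈ D, x * b ∈ D}
      mul_mem' := fun {x y} hx hy b hb => by rw [mul_assoc]; exact hx _ (hy b hb)
      one_mem' := fun b hb => by rwa [one_mul]
      add_mem' := fun {x y} hx hy b hb => by rw [add_mul]; exact D.add_mem (hx b hb) (hy b hb)
      zero_mem' := fun b _ => by rw [zero_mul]; exact D.zero_mem
      algebraMap_mem' := fun r b hb => by
        obtain ⟨i, rfl⟩ := ZMod.intCast_surjective r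
        rw [map_intCast]
        exact C.intCast_mul_mem hb i }
  have hsq : a * a ∈ M := by
    intro b hb
    rcases eq_or_ne b 0 with rfl | hb0
    · rw [mul_zero]; exact D.zero_mem
    rcases eq_or_ne (a * b) 1 with hab | hab
    · rw [mul_assoc, hab, mul_one]; exact ha
    have ha0 : a ≠ 0 := fun h => hns (h ▸ sc_zero)
    have hne : b⁻¹ - a ≠ 0 := by
      rw [sub_ne_zero]
      intro h
      exact hab (by rw [← h, inv_mul_cancel₀ hb0])
    have h1 : (b⁻¹ - a)⁻¹ ∈ D := C.inv_mem_stab hα (D.sub_mem (C.inv_mem_stab hα hb) ha)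
    have h2 : a - (a⁻¹ + (b⁻¹ - a)⁻¹)⁻¹ ∈ D :=
      D.sub_mem ha (C.inv_mem_stab hα (D.add_mem (C.inv_mem_stab hα ha) h1))
    convert h2 using 1
    have hne' : (1 : F) - b * a ≠ 0 := by
      rw [sub_ne_zero]; intro h; exact hab (by rw [mul_comm]; exact h.symm)
    have e : a⁻¹ + (b⁻¹ - a)⁻¹ = (a * (1 - b * a))⁻¹ := by
      field_simp
      ring
    rw [e, inv_inv]
    ring
  have hrank : Module.finrank (ZMod p) F = q := by
    have h := Module.natCard_eq_pow_finrank (K := ZMod p) (V := F)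
    rw [Nat.card_eq_fintype_card, C.hF, Nat.card_zmod] at h
    exact (Nat.pow_right_injective hp.out.two_le h).symm
  have htop : M = ⊤ := by
    haveI := Subalgebra.isSimpleOrder_of_finrank_prime (ZMod p) F (hrank ▸ hq.out)
    rcases eq_bot_or_eq_top M with h | h
    · exfalso
      rw [h, Algebra.mem_bot] at hsq
      obtain ⟨r, hr⟩ := hsq
      have h1 : (a * a) ^ p = a * a := by rw [← hr, ← map_pow, ZMod.pow_card]
      have h2 : a ^ p = -a := by
        rw [mul_pow] at h1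
        have : (a ^ p - a) * (a ^ p + a) = 0 := by linear_combination h1
        rcases mul_eq_zero.1 this with h' | h'
        · exact absurd (sub_eq_zero.1 h') hns
        · linear_combination h'
      have h3 : ∀ k : ℕ, a ^ p ^ k = (-1) ^ k * a := by
        intro k
        induction k with
        | zero => simp
        | succ k ih =>
          have hneg : ((-1 : F) ^ k) ^ p = (-1) ^ k := by
            rw [← pow_mul, mul_comm, pow_mul, (hp.out.odd_of_ne_two
              (by have := C.hp5; omega)).neg_one_pow]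
          rw [pow_succ, pow_mul, ih, mul_pow, hneg, h2]
          ring
      have h4 := h3 q
      rw [← C.hF, FiniteField.pow_card, C.q_odd.neg_one_pow] at h4
      have h20 : (2 : F) ≠ 0 := by
        intro h
        have := (CharP.cast_eq_zero_iff F p 2).1 (by exact_mod_cast h)
        have := Nat.le_of_dvd (by norm_num) this
        have := C.hp5
        omega
      have : (2 : F) * a = 0 := by linear_combination h4
      exact hns ((mul_eq_zero.1 this).resolve_left h20 ▸ sc_zero)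
    · exact h
  have hall : ∀ x : F, x ∈ D := by
    intro x
    have ha0 : a ≠ 0 := fun h => hns (h ▸ sc_zero)
    have hm : x / a ∈ M := htop ▸ Algebra.mem_top
    have := hm a ha
    rwa [div_mul_cancel₀ x ha0] at this
  -- now `P` and a conjugate generate a `p`-group
  set g := C.L d (c : F) with hg
  set P' := C.P.map (MulAut.conj g⁻¹).toMonoidHom with hP'
  have hle : P' ≤ normalizer (C.P : Set G) := by
    rintro _ ⟨x, hx, rfl⟩
    have h := hall (C.f x)
    rw [hD, mem_stab, C.pt_eq hx rfl, pnt, ← hg, ← mul_smul, C.smul_o_eq_iff] at h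
    have h' := inv_mem h
    simpa [mul_assoc] using h'
  have hR : IsPGroup p ↥(C.P ⊔ P') :=
    C.isPGroup_P.to_sup_of_normal_left' (C.isPGroup_P.map _) hle
  have hsR : ∀ i : ℤ, C.s ^ i ∈ C.P ⊔ P' := fun i => mem_sup_left (C.s_zpow_mem i)
  have hgK : g = C.K d c * C.s ^ c := by
    rw [hg, L, C.pt_intCast, K]; group
  have he : (C.K d c)⁻¹ * C.φ c (C.K d c) = 1 := by
    refine C.eq_one_of_mem_Q_of_mem_pGroup hR
      (mul_mem (inv_mem (C.K_mem d c)) (C.φ_mem c (C.K_mem d c))) ?_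
    have hconj : g⁻¹ * C.s ^ c * g⁻¹⁻¹ ∈ C.P ⊔ P' :=
      mem_sup_right (mem_map_of_mem _ (C.s_zpow_mem c))
    have e : (C.K d c)⁻¹ * C.φ c (C.K d c)
        = C.s ^ c * (g⁻¹ * C.s ^ c * g⁻¹⁻¹) * (C.s ^ c)⁻¹ * (C.s ^ c)⁻¹ := by
      rw [hgK]; simp only [φ]; group
    rw [e]
    exact mul_mem (mul_mem (mul_mem (hsR c) hconj) (inv_mem (hsR c))) (inv_mem (hsR c))
  refine C.K_ne_one hd hc ?_
  have hfix : C.φ c (C.K d c) = C.K d c := (inv_mul_eq_one.1 he).symm
  rw [C.K_eq_pair] at hfix ⊢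
  refine C.eq_one_of_commute_pair (mul_mem C.hy (inv_mem (C.φ_mem d C.hy))) c ?_
  exact mul_inv_eq_iff_eq_mul.1 hfix

/-! ### Potentials -/

/-- `v` is the potential of the point `x`: `U` acts on the `P`-orbit of `x` with fixed point `-v`. -/
def Pot (x : G ⧸ normalizer (C.P : Set G)) (v : F) : Prop :=
  ∀ g ∈ C.U, ∀ a : F, C.pt a • x = g • x → a = v * (C.ψ g - 1)

/-- The potential of `x` is determined. -/
def Det (x : G ⧸ normalizer (C.P : Set G)) : Prop :=
  ∃ g ∈ C.U, ∃ a : F, C.ψ g ≠ 1 ∧ C.pt a • x = g • x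

theorem Pot.unique {x : G ⧸ normalizer (C.P : Set G)} {v v' : F} (hx : C.Det x)
    (h : C.Pot x v) (h' : C.Pot x v') : v = v' := by
  obtain ⟨g, hg, a, hg1, ha⟩ := hx
  have := (h g hg a ha).symm.trans (h' g hg a ha)
  exact mul_right_cancel₀ (sub_ne_zero.2 hg1) this

theorem Pot.translate {x : G ⧸ normalizer (C.P : Set G)} {v : F} (h : C.Pot x v) (b : F) :
    C.Pot (C.pt b • x) (v + b) := by
  intro g hg a ha
  rw [C.smul_pt hg, C.pt_pt] at ha
  have h2 : C.pt (a + b - C.ψ g * b) • x = g • x := by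
    have := congrArg (C.pt (-(C.ψ g * b)) • ·) ha
    simp only [C.pt_pt] at this
    rw [show a + b - C.ψ g * b = -(C.ψ g * b) + (a + b) by ring, this, neg_add_cancel, C.pt_zero,
      one_smul]
  have := h g hg _ h2
  linear_combination this

/-- A translation between two points, with its Frobenius twists, determines the potential. -/
theorem edge {c d : ℤ} (hc : (c : F) ≠ 0) (hd : (d : F) ≠ 0) (hα : ((d : F) - c) ≠ 0)
    {x : G ⧸ normalizer (C.P : Set G)} {T : G} (hT : T ∈ C.U) {a : F} (ha : ¬ Sc (p := p) a)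
    (h : ∀ k : ℕ, C.pt (a ^ p ^ k) • C.pnt d c = T ^ p ^ k • x) :
    ∃ v V : F, C.Pot (C.pnt d c) v ∧ C.Det (C.pnt d c) ∧ Sc (p := p) v ∧ Sc (p := p) V ∧
      a + v = V * C.ψ T := by
  set x₀ := C.pnt d c with hx₀
  have hTk : ∀ k, T ^ p ^ k ∈ C.U := fun k => pow_mem hT _
  -- the loops
  have hloop : ∀ k : ℕ,
      C.pt (a - C.ψ T / C.ψ T ^ p ^ k * a ^ p ^ k) • x₀ = (T * (T ^ p ^ k)⁻¹) • x₀ := by
    intro k
    have h0 := h 0
    simp only [pow_zero, pow_one] at h0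
    have h1 : (T * (T ^ p ^ k)⁻¹) • C.pt (a ^ p ^ k) • x₀ = C.pt a • x₀ := by
      rw [h k, mul_smul, inv_smul_smul, h0]
    rw [C.smul_pt (mul_mem hT (inv_mem (hTk k))), C.hψmul _ hT _ (inv_mem (hTk k)),
      C.psi_inv (hTk k), C.psi_pow hT, ← div_eq_mul_inv] at h1
    have h2 := congrArg (C.pt (-(C.ψ T / C.ψ T ^ p ^ k * a ^ p ^ k)) • ·) h1
    simp only [C.pt_pt, neg_add_cancel, C.pt_zero, one_smul] at h2
    rw [h2, neg_add_eq_sub]
  have hT0 : C.ψ T ≠ 0 := (C.hψ T hT).1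
  have hsc_of : ∀ z : F, z ∈ C.stab x₀ → Sc (p := p) z := fun z hz => C.stab_sc hc hd hα hz
  have hne : ¬ Sc (p := p) (C.ψ T) := by
    intro hsc
    have hT1 := C.psi_sc hT hsc
    have h1 := hloop 1
    rw [hT1, C.psi_one, one_pow, div_one, one_mul, one_pow, inv_one, mul_one, one_smul,
      pow_one] at h1
    have hsd : Sc (p := p) (a - a ^ p) := hsc_of _ h1
    -- then `a ^ p = a + l` with `l` in the prime field
    have key : ∀ k : ℕ, a ^ p ^ k = a - (k : F) * (a - a ^ p) := by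
      intro k
      induction k with
      | zero => simp
      | succ k ih =>
        have hk' : Sc (p := p) ((k : F) * (a - a ^ p)) :=
          Sc.mul (by exact_mod_cast (sc_intCast (F := F) (k : ℤ))) hsd
        rw [pow_succ, pow_mul, ih, sub_pow_char, hk']
        push_cast
        ring
    have h2 := key q
    rw [← C.hF, FiniteField.pow_card] at h2
    have h3 : (q : F) * (a - a ^ p) = 0 := by linear_combination h2
    have hq0 : (q : F) ≠ 0 := by
      rw [Ne, CharP.cast_eq_zero_iff F p q]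
      intro hdvd
      have := Nat.le_of_dvd hq.out.pos hdvd
      have := C.hqp
      omega
    exact ha (sub_eq_zero.1 ((mul_eq_zero.1 h3).resolve_left hq0)).symm
  have hT01 : C.ψ T / C.ψ T ^ p ≠ 1 := by
    intro h1
    rw [div_eq_one_iff_eq (pow_ne_zero _ hT0)] at h1
    exact hne h1.symm
  set h₁ := T * (T ^ p)⁻¹ with hh₁
  have hh₁m : h₁ ∈ C.U := mul_mem hT (inv_mem (pow_mem hT p))
  have hψh₁ : C.ψ h₁ = C.ψ T / C.ψ T ^ p := by
    rw [hh₁, C.hψmul _ hT _ (inv_mem (pow_mem hT p)), C.psi_inv (pow_mem hT p), C.psi_pow hT,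
      div_eq_mul_inv]
  set b₁ := a - C.ψ T / C.ψ T ^ p * a ^ p with hb₁
  have hl1 : C.pt b₁ • x₀ = h₁ • x₀ := by simpa only [pow_one] using hloop 1
  -- the stabilizer is trivial
  have hzero : ∀ z : F, z ∈ C.stab x₀ → z = 0 := by
    intro z hz
    have h2 : C.ψ h₁ * z ∈ C.stab x₀ := by
      have hz' := congrArg (h₁ • ·) (C.mem_stab.1 hz)
      simp only [C.smul_pt hh₁m, ← hl1, C.pt_pt] at hz'
      have := congrArg (C.pt (-b₁) • ·) hz'
      simp only [C.pt_pt, neg_add_cancel, C.pt_zero, one_smul] at this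
      rw [mem_stab]
      rwa [show -b₁ + (C.ψ h₁ * z + b₁) = C.ψ h₁ * z by ring] at this
    by_contra hz0
    have hs : Sc (p := p) (C.ψ h₁) := by
      have := (hsc_of _ h2).div (hsc_of _ hz)
      rwa [mul_div_cancel_right₀ _ hz0] at this
    exact hT01 (hψh₁ ▸ C.eq_one_of_sc hs (C.psi_pow_n hh₁m))
  -- the potential
  set v := b₁ / (C.ψ h₁ - 1) with hv
  have hh1ne : C.ψ h₁ - 1 ≠ 0 := sub_ne_zero.2 (hψh₁ ▸ hT01)
  have hvb : b₁ = v * (C.ψ h₁ - 1) := (div_mul_cancel₀ b₁ hh1ne).symm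
  have hpot : C.Pot x₀ v := by
    intro g hg z hz
    have e1 : (g * h₁) • x₀ = C.pt (C.ψ g * b₁ + z) • x₀ := by
      rw [mul_smul, ← hl1, C.smul_pt hg, ← hz, C.pt_pt]
    have e2 : (h₁ * g) • x₀ = C.pt (C.ψ h₁ * z + b₁) • x₀ := by
      rw [mul_smul, ← hz, C.smul_pt hh₁m, ← hl1, C.pt_pt]
    rw [C.U_comm hg hh₁m] at e1
    have e3 := congrArg (C.pt (-(C.ψ h₁ * z + b₁)) • ·) (e1.symm.trans e2)
    simp only [C.pt_pt, neg_add_cancel, C.pt_zero, one_smul] at e3
    have e4 := hzero _ e3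
    refine mul_right_cancel₀ hh1ne ?_
    linear_combination -e4 + (C.ψ g - 1) * hvb
  have hdet : C.Det x₀ := ⟨h₁, hh₁m, b₁, hψh₁ ▸ hT01, hl1⟩
  set V := (a + v) / C.ψ T with hV
  have hk : ∀ k : ℕ, a ^ p ^ k + v = V * C.ψ T ^ p ^ k := by
    intro k
    have hTk0 : C.ψ T ^ p ^ k ≠ 0 := pow_ne_zero _ hT0
    have := hpot _ (mul_mem hT (inv_mem (hTk k))) _ (hloop k)
    rw [C.hψmul _ hT _ (inv_mem (hTk k)), C.psi_inv (hTk k), C.psi_pow hT] at this
    rw [hV]
    field_simp at this ⊢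
    linear_combination -this
  -- `v` and `V` lie in the prime field
  have hpow : ∀ k : ℕ, a ^ p ^ (k + 1) + v ^ p = V ^ p * C.ψ T ^ p ^ (k + 1) := by
    intro k
    have := congrArg (· ^ p) (hk k)
    simp only [add_pow_char, mul_pow, ← pow_mul, ← pow_succ] at this
    exact this
  have e1 : v ^ p - v = (V ^ p - V) * C.ψ T ^ p := by
    have h1 := hk 1
    have h2 := hpow 0
    rw [pow_one] at h1
    rw [zero_add, pow_one] at h2
    linear_combination h2 - h1
  have e2 : v ^ p - v = (V ^ p - V) * C.ψ T ^ p ^ 2 := by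
    linear_combination hpow 1 - hk 2
  have hne2 : C.ψ T ^ p ≠ C.ψ T ^ p ^ 2 := by
    intro h2
    rw [sq, pow_mul] at h2
    exact hne (frobenius_inj F p h2).symm
  have hVs : V ^ p - V = 0 := by
    by_contra hV0
    exact hne2 (mul_left_cancel₀ hV0 (e1.symm.trans e2))
  refine ⟨v, V, hpot, hdet, ?_, sub_eq_zero.1 hVs, ?_⟩
  · rw [hVs, zero_mul, sub_eq_zero] at e1
    exact e1
  · simpa using hk 0

/-! ### The relations -/

/-- A triple for the layer `c`. -/
structure Triple (c : ℤ) (v w : G) : Prop where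
  hv : v ∈ C.U
  hw : w ∈ C.U
  sum : 1 + C.ψ (C.σ c v) = C.ψ (C.σ c w)

theorem Triple.pow {c : ℤ} {v w : G} (h : C.Triple c v w) (k : ℕ) :
    C.Triple c (v ^ p ^ k) (w ^ p ^ k) where
  hv := pow_mem h.hv _
  hw := pow_mem h.hw _
  sum := by
    rw [C.σ_pow, C.σ_pow, C.psi_pow (C.σ_mem h.hv), C.psi_pow (C.σ_mem h.hw), ← h.sum,
      add_pow_char_pow, one_pow]

theorem Triple.inv {c : ℤ} {v w : G} (h : C.Triple c v w) : C.Triple c v⁻¹ (w * v⁻¹) where
  hv := inv_mem h.hv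
  hw := mul_mem h.hw (inv_mem h.hv)
  sum := by
    have h0 := (C.hψ _ (C.σ_mem (k := c) h.hv)).1
    rw [C.σ_mul, C.σ_inv, C.hψmul _ (C.σ_mem h.hw) _ (inv_mem (C.σ_mem h.hv)),
      C.psi_inv (C.σ_mem h.hv), ← h.sum]
    field_simp
    ring

theorem Triple.v_ne_one {c : ℤ} {v w : G} (h : C.Triple c v w) : v ≠ 1 := by
  rintro rfl
  have h1 := h.sum
  rw [C.σ_one, C.psi_one] at h1
  have h3 : Sc (p := p) (C.ψ (C.σ c w)) := by
    rw [← h1]; exact sc_one.add sc_one
  have h4 := C.eq_one_of_sc h3 (C.psi_pow_n (C.σ_mem h.hw))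
  rw [← h1] at h4
  exact one_ne_zero (add_eq_left.1 h4)

theorem Triple.v_not_sc {c : ℤ} {v w : G} (h : C.Triple c v w) : ¬ Sc (p := p) (C.ψ v) :=
  fun hs => Triple.v_ne_one C h (C.psi_sc h.hv hs)

theorem Triple.w_ne_v {c : ℤ} {v w : G} (h : C.Triple c v w) : w ≠ v := by
  rintro rfl
  exact one_ne_zero (add_eq_right.1 h.sum)

theorem Triple.w_ne_one {c : ℤ} {v w : G} (h : C.Triple c v w) : w ≠ 1 := by
  rintro rfl
  have h1 := h.sum
  rw [C.σ_one, C.psi_one] at h1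
  exact (C.hψ _ (C.σ_mem (k := c) h.hv)).1 (add_eq_left.1 h1)

/-- A relation of the layer `c`, rewritten in `P_d P`. -/
theorem Triple.swap {c d : ℤ} {v w : G} (h : C.Triple c v w) :
    C.pt ((d : F) - c) * C.L d (C.ψ (C.σ d v) * c)
      = C.L d ((C.ψ (C.σ d w) - 1) * c) * C.pt ((C.ψ w - C.ψ v) * ((d : F) - c)) := by
  have hsum := congrArg (fun z => C.L c (z * (d : F))) h.sum
  simp only [add_mul, C.L_add] at hsum
  have e1 := C.expand C.U.one_mem c d
  rw [C.σ_one, C.σ_one, C.psi_one] at e1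
  rw [e1, C.expand h.hv, C.expand h.hw] at hsum
  rw [show (C.ψ (C.σ d w) - 1) * (c : F) = -(1 * (c : F)) + C.ψ (C.σ d w) * c by ring,
    show (C.ψ w - C.ψ v) * ((d : F) - c)
      = C.ψ w * ((d : F) - c) + -(C.ψ v * ((d : F) - c)) by ring,
    C.L_add, C.L_neg, C.pt_add, C.pt_neg]
  simp only [one_mul] at hsum ⊢
  calc C.pt ((d : F) - c) * C.L d (C.ψ (C.σ d v) * c)
      = (C.L d c)⁻¹ * (C.L d c * C.pt ((d : F) - c) *
          (C.L d (C.ψ (C.σ d v) * c) * C.pt (C.ψ v * ((d : F) - c)))) *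
          (C.pt (C.ψ v * ((d : F) - c)))⁻¹ := by group
    _ = _ := by
      rw [hsum]; group

/-- The translations coming from a triple. -/
theorem Triple.edges {c d : ℤ} {v w : G} (h : C.Triple c v w) (hc : (c : F) ≠ 0) :
    ∃ (m : ℤ) (z : G), z ∈ C.U ∧ ∀ k : ℕ,
      C.pt (((d : F) - c) / C.ψ v ^ p ^ k) • C.pnt d c = (v⁻¹ * z) ^ p ^ k • C.pnt d m ∧
      C.pt ((C.ψ w ^ p ^ k - C.ψ v ^ p ^ k) * ((d : F) - c) / C.ψ v ^ p ^ k) • C.pnt d (-c)
        = (v⁻¹ * z) ^ p ^ k • C.pnt d (-m) := by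
  set A := (C.ψ (C.σ d w) - 1) * (c : F) with hA
  have hA0 : A ≠ 0 := by
    refine mul_ne_zero (sub_ne_zero.2 fun h1 => Triple.w_ne_one C h ?_) hc
    have h2 : C.σ d w = 1 := C.hψinj (C.σ_mem h.hw) C.U.one_mem (by rw [h1, C.psi_one])
    have := congrArg (fun x => C.t ^ d * x * (C.t ^ d)⁻¹) h2
    simpa [σ, mul_assoc] using this
  obtain ⟨m, r, hm, hr, hmr⟩ := C.exists_sc_mul_unit hA0
  obtain ⟨z, hz, hzr⟩ := C.exists_σ_eq (k := d) hr
  refine ⟨m, z, hz, fun k => ?_⟩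
  have hk := Triple.pow C h k
  have hsw := Triple.swap C (d := d) hk
  have hvk := hk.hv
  have hzk : z ^ p ^ k ∈ C.U := pow_mem hz _
  have hAk : (C.ψ (C.σ d (w ^ p ^ k)) - 1) * (c : F) = C.ψ (C.σ d (z ^ p ^ k)) * m := by
    rw [C.σ_pow, C.σ_pow, C.psi_pow (C.σ_mem h.hw), C.psi_pow (C.σ_mem hz), hzr]
    have h2 := congrArg (· ^ p ^ k) hmr
    simp only [hA, mul_pow, sub_pow_char_pow, one_pow, (sc_intCast (F := F) (p := p) c).pow_pow,
      (sc_intCast (F := F) (p := p) m).pow_pow] at h2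
    rw [h2]; ring
  rw [hAk] at hsw
  have hcomm : (v⁻¹ * z) ^ p ^ k = (v ^ p ^ k)⁻¹ * z ^ p ^ k := by
    rw [(show Commute v⁻¹ z from C.U_comm (inv_mem h.hv) hz).mul_pow, inv_pow]
  constructor
  · have h1 := congrArg (· • C.o) hsw
    simp only [mul_smul, C.smul_o_of_mem (le_normalizer (C.pt_mem _))] at h1
    rw [← C.smul_L_o hvk, ← C.smul_L_o hzk] at h1
    have h2 := congrArg ((v ^ p ^ k)⁻¹ • ·) h1
    simp only [C.smul_pt (inv_mem hvk), inv_smul_smul, C.psi_inv hvk, C.psi_pow h.hv] at h2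
    rw [hcomm, mul_smul, div_eq_inv_mul]
    exact h2
  · have hsw' : C.pt ((C.ψ (w ^ p ^ k) - C.ψ (v ^ p ^ k)) * ((d : F) - c))
        * (C.L d (C.ψ (C.σ d (v ^ p ^ k)) * c))⁻¹
        = (C.L d (C.ψ (C.σ d (z ^ p ^ k)) * m))⁻¹ * C.pt ((d : F) - c) := by
      calc C.pt ((C.ψ (w ^ p ^ k) - C.ψ (v ^ p ^ k)) * ((d : F) - c))
            * (C.L d (C.ψ (C.σ d (v ^ p ^ k)) * c))⁻¹
          = (C.L d (C.ψ (C.σ d (z ^ p ^ k)) * m))⁻¹ *
              (C.L d (C.ψ (C.σ d (z ^ p ^ k)) * m) *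
                C.pt ((C.ψ (w ^ p ^ k) - C.ψ (v ^ p ^ k)) * ((d : F) - c))) *
              (C.L d (C.ψ (C.σ d (v ^ p ^ k)) * c))⁻¹ := by group
        _ = _ := by rw [← hsw]; group
    rw [← C.L_neg, ← C.L_neg, ← mul_neg, ← mul_neg, ← Int.cast_neg, ← Int.cast_neg] at hsw'
    have h1 := congrArg (· • C.o) hsw'
    simp only [mul_smul, C.smul_o_of_mem (le_normalizer (C.pt_mem _))] at h1
    rw [← C.smul_L_o hvk, ← C.smul_L_o hzk] at h1
    have h2 := congrArg ((v ^ p ^ k)⁻¹ • ·) h1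
    simp only [C.smul_pt (inv_mem hvk), inv_smul_smul, C.psi_inv hvk, C.psi_pow h.hv,
      C.psi_pow h.hw] at h2
    rw [hcomm, mul_smul, div_eq_inv_mul]
    exact h2

/-- `ψ w` is an affine combination of `1` and `ψ v` whose coefficients are given by potentials. -/
theorem Triple.relation {c d : ℤ} {v w : G} (h : C.Triple c v w) (hc : (c : F) ≠ 0)
    (hd : (d : F) ≠ 0) (hα : ((d : F) - c) ≠ 0) (hα' : ((d : F) + c) ≠ 0) :
    ∃ a b k l : F, C.Pot (C.pnt d c) a ∧ C.Det (C.pnt d c) ∧ C.Pot (C.pnt d (-c)) b ∧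
      C.Det (C.pnt d (-c)) ∧ Sc (p := p) a ∧ Sc (p := p) b ∧ Sc (p := p) k ∧ Sc (p := p) l ∧
      C.ψ w = k + l * C.ψ v ∧ l * ((d : F) - c) = (d : F) - c - b + k * a := by
  obtain ⟨m, z, hz, he⟩ := Triple.edges C (d := d) h hc
  have hv0 := (C.hψ v h.hv).1
  have hT : v⁻¹ * z ∈ C.U := mul_mem (inv_mem h.hv) hz
  have hαs : Sc (p := p) ((d : F) - c) := (sc_intCast d).sub (sc_intCast c)
  set α := (d : F) - c with hαdef
  have ha1 : ¬ Sc (p := p) (α / C.ψ v) := fun hs => Triple.v_not_sc C h (by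
    have := hαs.div hs
    rwa [div_div_cancel₀ hα] at this)
  set e := (C.ψ w - C.ψ v) * α / C.ψ v with he'
  have ha2 : ¬ Sc (p := p) e := by
    intro hs
    have h1 : Sc (p := p) (C.ψ w / C.ψ v) := by
      have := (hs.div hαs).add sc_one
      rwa [show e / α + 1 = C.ψ w / C.ψ v by rw [he']; field_simp; ring] at this
    have h2 : C.ψ (w * v⁻¹) = C.ψ w / C.ψ v := by
      rw [C.hψmul _ h.hw _ (inv_mem h.hv), C.psi_inv h.hv, div_eq_mul_inv]
    exact Triple.w_ne_v C h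
      (mul_inv_eq_one.1 (C.psi_sc (mul_mem h.hw (inv_mem h.hv)) (h2 ▸ h1)))
  obtain ⟨a, V, hPa, hDa, hsa, hsV, hVa⟩ := C.edge hc hd hα (x := C.pnt d m) hT ha1 fun k => by
    rw [div_pow, hαs.pow_pow k]
    exact (he k).1
  obtain ⟨b, W, hPb, hDb, hsb, hsW, hWb⟩ := C.edge (c := -c) (by push_cast; simpa using hc) hd
    (by push_cast; simpa using hα') (x := C.pnt d (-m)) hT ha2 fun k => by
    rw [he', div_pow, mul_pow, sub_pow_char_pow, hαs.pow_pow k]
    exact (he k).2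
  have hV0 : V ≠ 0 := by
    intro h0
    rw [h0, zero_mul] at hVa
    exact ha1 (by
      rw [show α / C.ψ v = 0 - a by linear_combination hVa]
      exact sc_zero.sub hsa)
  refine ⟨a, b, W / V, (α - b + W / V * a) / α, hPa, hDa, hPb, hDb, hsa, hsb, hsW.div hsV,
    ((hαs.sub hsb).add ((hsW.div hsV).mul hsa)).div hαs, ?_, by field_simp⟩
  have key : e + b = W / V * (α / C.ψ v + a) := by
    rw [hVa, hWb]; field_simp
  rw [he'] at key
  field_simp at key ⊢
  linear_combination key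

theorem affine_unique {v : F} (hv : ¬ Sc (p := p) v) {k l k' l' : F} (hk : Sc (p := p) k)
    (hl : Sc (p := p) l) (hk' : Sc (p := p) k') (hl' : Sc (p := p) l')
    (h : k + l * v = k' + l' * v) : k = k' ∧ l = l' := by
  have hll : l = l' := by
    by_contra hne
    refine hv ?_
    have hne' : l - l' ≠ 0 := sub_ne_zero.2 hne
    have e : v = (k' - k) / (l - l') := by rw [eq_div_iff hne']; linear_combination h
    rw [e]
    exact (hk'.sub hk).div (hl.sub hl')
  subst hll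
  exact ⟨add_right_cancel h, rfl⟩

/-- The symmetrised relation. -/
theorem Triple.sum_relation {c d : ℤ} {v w : G} (h : C.Triple c v w) (hc : (c : F) ≠ 0)
    (hd : (d : F) ≠ 0) (hα : ((d : F) - c) ≠ 0) (hα' : ((d : F) + c) ≠ 0) :
    ∃ a b k l : F, C.Pot (C.pnt d c) a ∧ C.Det (C.pnt d c) ∧ C.Pot (C.pnt d (-c)) b ∧
      C.Det (C.pnt d (-c)) ∧ Sc (p := p) k ∧ Sc (p := p) l ∧
      C.ψ w = k + l * C.ψ v ∧ (k + l) * ((d : F) - c - a) = 2 * ((d : F) - c - b) := by
  obtain ⟨a, b, k, l, hPa, hDa, hPb, hDb, -, -, hk, hl, hR, hrel⟩ :=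
    Triple.relation C h hc hd hα hα'
  obtain ⟨a', b', k', l', hPa', -, hPb', -, -, -, hk', hl', hR', hrel'⟩ :=
    Triple.relation C (Triple.inv C h) hc hd hα hα'
  obtain rfl := Pot.unique C hDa hPa hPa'
  obtain rfl := Pot.unique C hDb hPb hPb'
  have hv0 := (C.hψ v h.hv).1
  have hR2 : C.ψ w = l' + k' * C.ψ v := by
    rw [C.hψmul _ h.hw _ (inv_mem h.hv), C.psi_inv h.hv] at hR'
    field_simp at hR'
    linear_combination hR'
  obtain ⟨rfl, rfl⟩ := affine_unique (Triple.v_not_sc C h) hk hl hl' hk' (hR.symm.trans hR2)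
  exact ⟨a, b, k, l, hPa, hDa, hPb, hDb, hk, hl, hR, by linear_combination hrel + hrel'⟩

theorem exists_triple (c : ℤ) : ∃ v w, C.Triple c v w := by
  classical
  have hn : 0 < C.n := lt_trans Nat.zero_lt_one C.n_gt_one
  let S : Finset F := Finset.univ.filter fun x : F => x ^ C.n = 1
  have hcard : S.card = C.n := by
    refine le_antisymm ?_ ?_
    · refine le_trans (Finset.card_le_card (t := (Polynomial.nthRoots C.n (1 : F)).toFinset) ?_)
        ((Multiset.toFinset_card_le _).trans (Polynomial.card_nthRoots C.n (1 : F)))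
      intro x hx
      rw [Multiset.mem_toFinset, Polynomial.mem_nthRoots hn]
      exact (Finset.mem_filter.1 hx).2
    · rw [← show Nat.card C.U = C.n from C.hUcard, ← SetLike.coe_sort_coe, Nat.card_coe_set_eq,
        ← C.hψinj.ncard_image, ← Set.ncard_coe_finset]
      refine Set.ncard_le_ncard ?_
      rintro _ ⟨u, hu, rfl⟩
      exact Finset.mem_filter.2 ⟨Finset.mem_univ _, C.psi_pow_n hu⟩
  obtain ⟨a, ha, ha'⟩ := exists_norm_one_sum (F := F) C.hp5 C.hq2 C.hF S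
    (fun x => by rw [Finset.mem_filter, and_iff_right (Finset.mem_univ x)]; rfl) hcard
  rw [Finset.mem_filter] at ha ha'
  have ha0 : a ≠ 0 := fun h => by
    rw [h, zero_pow hn.ne'] at ha
    exact zero_ne_one ha.2
  obtain ⟨v, hv, hve⟩ := C.exists_σ_eq (k := c) (show ((1 - a) / a) ^ C.n = 1 by
    rw [div_pow, ha'.2, ha.2, div_one])
  obtain ⟨w, hw, hwe⟩ := C.exists_σ_eq (k := c) (show a⁻¹ ^ C.n = 1 by
    rw [inv_pow, ha.2, inv_one])
  exact ⟨v, w, hv, hw, by rw [hve, hwe]; field_simp; ring⟩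

include C in
/-- **The configuration is impossible.** -/
theorem false_of_config : False := by
  obtain ⟨v₂, w₂, h₂⟩ := C.exists_triple 2
  obtain ⟨v₁, w₁, h₁⟩ := C.exists_triple 1
  have hnz : ∀ j : ℤ, j ≠ 0 → j.natAbs < p → (j : F) ≠ 0 := by
    intro j hj hlt h0
    have hd := (CharP.intCast_eq_zero_iff F p j).1 h0
    have := Int.natAbs_dvd_natAbs.2 hd
    have := Nat.le_of_dvd (Int.natAbs_pos.2 hj) this
    simp at this
    omega
  have hp5 := C.hp5
  have n1 : ((1 : ℤ) : F) ≠ 0 := hnz 1 (by norm_num) (by simp; omega)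
  have nm1 : ((-1 : ℤ) : F) ≠ 0 := hnz _ (by norm_num) (by simp; omega)
  have n2 : ((2 : ℤ) : F) ≠ 0 := hnz 2 (by norm_num) (by simp; omega)
  have nm2 : ((-2 : ℤ) : F) ≠ 0 := hnz _ (by norm_num) (by simp; omega)
  have n3 : ((3 : ℤ) : F) ≠ 0 := hnz 3 (by norm_num) (by simp; omega)
  have nm3 : ((-3 : ℤ) : F) ≠ 0 := hnz _ (by norm_num) (by simp; omega)
  push_cast at n1 nm1 n2 nm2 n3 nm3
  -- four relations
  obtain ⟨P₀, N₀, k, l, hP, hPd, hN, hNd, hk, hl, hR, r1⟩ :=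
    Triple.sum_relation C (d := 1) h₂ (by push_cast; exact n2) (by push_cast; exact n1)
      (by push_cast; norm_num) (by push_cast; norm_num; exact n3)
  obtain ⟨N₁, P₁, k', l', hN1, hN1d, hP1, hP1d, hk', hl', hR', r2⟩ :=
    Triple.sum_relation C (d := -1) h₂ (by push_cast; exact n2) (by push_cast; exact nm1)
      (by push_cast; norm_num; exact n3) (by push_cast; norm_num)
  obtain ⟨P₂, N₂, m, o', hP2, hP2d, hN2, hN2d, hm, ho, hS, r3⟩ :=
    Triple.sum_relation C (d := 2) h₁ (by push_cast; exact n1) (by push_cast; exact n2)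
      (by push_cast; norm_num) (by push_cast; norm_num; exact n3)
  obtain ⟨N₃, P₃, m', o'', hN3, hN3d, hP3, hP3d, hm', ho', hS', r4⟩ :=
    Triple.sum_relation C (d := -2) h₁ (by push_cast; exact n1) (by push_cast; exact nm2)
      (by push_cast; norm_num; exact n3) (by push_cast; norm_num)
  obtain ⟨rfl, rfl⟩ := affine_unique (Triple.v_not_sc C h₂) hk hl hk' hl' (hR.symm.trans hR')
  obtain ⟨rfl, rfl⟩ := affine_unique (Triple.v_not_sc C h₁) hm ho hm' ho' (hS.symm.trans hS')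
  -- identify the potentials
  have hN1' : N₁ = N₀ + 1 := by
    have e : C.pnt (-1) 2 = C.pt ((-((1 : ℤ) + -2) : ℤ) : F) • C.pnt 1 (-2) := by
      rw [← C.pnt_neg]; rfl
    have := Pot.translate C hN ((-((1 : ℤ) + -2) : ℤ) : F)
    rw [← e] at this
    rw [Pot.unique C hN1d hN1 this]
    push_cast; ring
  have hP1' : P₁ = P₀ - 3 := by
    have e : C.pnt (-1) (-2) = C.pt ((-((1 : ℤ) + 2) : ℤ) : F) • C.pnt 1 2 := C.pnt_neg 1 2
    have := Pot.translate C hP ((-((1 : ℤ) + 2) : ℤ) : F)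
    rw [← e] at this
    rw [Pot.unique C hP1d hP1 this]
    push_cast; ring
  have hP2' : P₂ = P₀ := by
    rw [C.pnt_symm] at hP2 hP2d
    exact Pot.unique C hP2d hP2 hP
  have hN2' : N₂ = N₁ := by
    rw [C.pnt_symm] at hN2 hN2d
    exact Pot.unique C hN2d hN2 hN1
  have hN3' : N₃ = N₀ := by
    rw [C.pnt_symm] at hN3 hN3d
    exact Pot.unique C hN3d hN3 hN
  have hP3' : P₃ = P₁ := by
    rw [C.pnt_symm] at hP3 hP3d
    exact Pot.unique C hP3d hP3 hP1
  rw [hN2', hP2', hN1'] at r3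
  rw [hN3', hP3', hP1'] at r4
  rw [hN1', hP1'] at r2
  push_cast at r1 r2 r3 r4
  have h20 : (2 : F) ≠ 0 := n2
  set S := k + l with hSdef
  set T := m + o' with hTdef
  have c1 : (1 + N₀) * (4 + N₀) = (1 + P₀) * P₀ := by
    rcases eq_or_ne S 0 with h0 | h0
    · rw [h0, zero_mul] at r1 r2
      have a1 : (1 : F) + N₀ = 0 :=
        (mul_eq_zero.1 (show (2 : F) * (1 + N₀) = 0 by linear_combination r1)).resolve_left h20
      have a2 : P₀ = 0 :=
        (mul_eq_zero.1 (show (2 : F) * P₀ = 0 by linear_combination r2)).resolve_left h20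
      rw [a1, a2, zero_mul, mul_zero]
    · refine mul_left_cancel₀ h0 ?_
      linear_combination (P₀ : F) * r1 - (1 + N₀) * r2
  have c2 : N₀ * (3 + N₀) = P₀ * (P₀ - 1) := by
    rcases eq_or_ne T 0 with h0 | h0
    · rw [h0, zero_mul] at r3 r4
      have a1 : N₀ = 0 :=
        (mul_eq_zero.1 (show (2 : F) * N₀ = 0 by linear_combination r3)).resolve_left h20
      have a2 : P₀ = 0 :=
        (mul_eq_zero.1 (show (2 : F) * P₀ = 0 by linear_combination r4)).resolve_left h20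
      rw [a1, a2, zero_mul, zero_mul]
    · refine mul_left_cancel₀ h0 ?_
      linear_combination (P₀ : F) * r3 - N₀ * r4
  have h3 : P₀ = N₀ + 2 := by
    refine sub_eq_zero.1 ((mul_eq_zero.1 ?_).resolve_left h20)
    linear_combination c2 - c1
  rw [h3] at c2
  exact h20 (by linear_combination -c2)

end Config

/-- **BG Appendix C**: in the final configuration `p ≤ q`. -/
theorem le_of_final_configuration {G : Type*} [Group G] [Finite G] (p q : ℕ) [Fact p.Prime]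
    [Fact q.Prime] (hA : Nat.Coprime ((p ^ q - 1) / (p - 1)) (p - 1)) {F : Type*} [Field F]
    [Fintype F] (hF : Fintype.card F = p ^ q) (P U Q : Subgroup G) (f ψ : G → F)
    (hf : Set.BijOn f (P : Set G) Set.univ)
    (hfadd : ∀ x ∈ P, ∀ z ∈ P, f (x * z) = f x + f z)
    (hUP : U ≤ normalizer (P : Set G))
    (hψ : ∀ u ∈ U, ψ u ≠ 0 ∧ ∀ x ∈ P, f (u * x * u⁻¹) = ψ u * f x)
    (hψmul : ∀ u ∈ U, ∀ v ∈ U, ψ (u * v) = ψ u * ψ v) (hψinj : Set.InjOn ψ (U : Set G))
    (hUcard : Nat.card U * (p - 1) = p ^ q - 1)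
    (hQ : IsMulCommutative Q) (hQp : (Nat.card Q).Coprime p)
    (hP0Q : ∀ x ∈ P, f x ^ p = f x → x ∈ normalizer (Q : Set G))
    (y : G) (hy : y ∈ Q)
    (hP0U : ∀ x ∈ P, f x ^ p = f x → y * x * y⁻¹ ∈ normalizer (U : Set G)) : p ≤ q := by
  have hp : p.Prime := Fact.out
  have hq : q.Prime := Fact.out
  by_contra hlt
  push_neg at hlt
  have hp1 : 0 < p - 1 := by have := hp.two_le; omega
  have hq2 : q ≠ 2 := by
    rintro rfl
    have hpodd : Odd p := hp.odd_of_ne_two (by omega)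
    have e : (p ^ 2 - 1) / (p - 1) = p + 1 := by
      rw [show p ^ 2 - 1 = (p + 1) * (p - 1) by
        simpa using Nat.sq_sub_sq p 1, Nat.mul_div_cancel _ hp1]
    rw [e] at hA
    have h2 : 2 ∣ Nat.gcd (p + 1) (p - 1) := by
      obtain ⟨j, hj⟩ := hpodd
      exact Nat.dvd_gcd ⟨j + 1, by omega⟩ ⟨j, by omega⟩
    rw [hA] at h2
    norm_num at h2
  have hp5 : 5 ≤ p := by
    have h1 := hq.two_le
    by_contra h
    interval_cases p <;> simp_all (config := { decide := true }) <;> omega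
  haveI : CharP F p := charP_of_card_eq_prime_pow (f := q) hF
  exact Config.false_of_config (p := p) (q := q)
    { hp5 := hp5, hq2 := hq2, hqp := hlt, hcop := hA, hF := hF, P := P, U := U, Q := Q, f := f,
      ψ := ψ, hf := hf, hfadd := hfadd, hUP := hUP, hψ := hψ, hψmul := hψmul, hψinj := hψinj,
      hUcard := by rw [← hUcard, Nat.mul_div_cancel _ hp1]
      hQ := hQ, hQp := hQp, hP0Q := hP0Q, y := y, hy := hy, hP0U := hP0U }

end CfsgLib.OddOrder.AppC
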