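import Mathlib.FieldTheory.Finite.GaloisField
import Mathlib.FieldTheory.Finite.Trace
import Mathlib.RingTheory.Norm.Basic
import Mathlib.RingTheory.AdjoinRoot
import Mathlib.Algebra.Polynomial.SpecificDegree
import Mathlib.Analysis.Fourier.FiniteAbelian.PontryaginDuality
import Mathlib.NumberTheory.LegendreSymbol.AddCharacter

/-!
# Norm-one pairs in finite fields (Bender–Glauberman, Appendix C)

For odd primes `p`, `q` there are at least two elements `a` of `GF(p^q)` such that `a` and `2 - a`
both have norm one to `GF(p)`.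
-/

namespace CfsgLib.OddOrder

open Finset

section CharSum

variable {F : Type*} [Field F] [Fintype F]

/-- The exponential sum of a finite set `U` at `b`. -/
noncomputable def addSum (ψ : AddChar F ℂ) (U : Finset F) (b : F) : ℂ := ∑ u ∈ U, ψ (b * u)

/-- Lower bound for the number of ways to write `c` as a sum of two members of a finite set `U` of
non-zero elements closed under multiplication. -/
lemma two_sum_count_lower [DecidableEq F] (U : Finset F) (hU0 : (0 : F) ∉ U) (hUne : U.Nonempty)
    (hmul : ∀ u ∈ U, ∀ v ∈ U, u * v ∈ U) {c : F} (hc : c ≠ 0) :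
    (U.card : ℝ) ^ 2 - Real.sqrt (Fintype.card F) * Fintype.card F
      ≤ ((U.filter (fun u => c - u ∈ U)).card : ℝ) * Fintype.card F := by
  obtain ⟨ψ, hψ1⟩ := AddChar.exists_apply_ne_zero.2 (one_ne_zero (α := F))
  have hψne : ψ ≠ 1 := fun h => hψ1 (by rw [h, AddChar.one_apply])
  have hψ : AddChar.IsPrimitive ψ := AddChar.IsPrimitive.of_ne_one hψne
  set S := addSum ψ U with hS
  set Q : ℕ := Fintype.card F with hQ
  -- multiplying by a member of `U` permutes `U`
  have himg : ∀ u ∈ U, U.image (u * ·) = U := by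
    intro u hu
    apply Finset.eq_of_subset_of_card_le
    · intro x hx
      obtain ⟨v, hv, rfl⟩ := Finset.mem_image.1 hx
      exact hmul u hu v hv
    · rw [Finset.card_image_of_injective _ (mul_right_injective₀ (fun h => hU0 (h ▸ hu)))]
  have hinv : ∀ u ∈ U, ∀ b, S (b * u) = S b := by
    intro u hu b
    calc S (b * u) = ∑ v ∈ U, ψ (b * (u * v)) := by
          simp [hS, addSum, mul_assoc]
      _ = ∑ v ∈ U.image (u * ·), ψ (b * v) := by
          rw [Finset.sum_image (fun x _ y _ h => mul_right_injective₀ (fun h => hU0 (h ▸ hu)) h)]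
      _ = S b := by rw [himg u hu]; rfl
  -- the fundamental identity
  have hid : ((U.filter (fun u => c - u ∈ U)).card : ℂ) * Q
      = ∑ b, S b ^ 2 * ψ (-(b * c)) := by
    calc ((U.filter (fun u => c - u ∈ U)).card : ℂ) * Q
        = ∑ u ∈ U, ∑ v ∈ U, (if u + v - c = 0 then (Q : ℂ) else 0) := by
          rw [Finset.card_filter, Nat.cast_sum, Finset.sum_mul]
          refine Finset.sum_congr rfl (fun u _ => ?_)
          have hiff : ∀ v : F, u + v - c = 0 ↔ v = c - u := fun v =>
            ⟨fun h => by linear_combination h, fun h => by linear_combination h⟩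
          simp only [hiff, Finset.sum_ite_eq']
          split_ifs <;> simp
      _ = ∑ u ∈ U, ∑ v ∈ U, ∑ b : F, ψ (b * (u + v - c)) := by
          refine Finset.sum_congr rfl (fun u _ => Finset.sum_congr rfl (fun v _ => ?_))
          rw [AddChar.sum_mulShift _ hψ]
          split_ifs <;> simp [hQ]
      _ = ∑ b : F, ∑ u ∈ U, ∑ v ∈ U, ψ (b * (u + v - c)) := by
          rw [Finset.sum_congr rfl (fun u _ => Finset.sum_comm)]
          exact Finset.sum_comm
      _ = _ := by
          refine Finset.sum_congr rfl (fun b _ => ?_)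
          simp only [hS, addSum, sq, Finset.sum_mul, Finset.mul_sum]
          rw [Finset.sum_comm]
          refine Finset.sum_congr rfl (fun u _ => Finset.sum_congr rfl (fun v _ => ?_))
          rw [← AddChar.map_add_eq_mul, ← AddChar.map_add_eq_mul]
          congr 1; ring
  -- Parseval
  have hpars : ∑ b, ‖S b‖ ^ 2 = (U.card : ℝ) * Q := by
    apply Complex.ofReal_injective
    push_cast
    calc ∑ b : F, ((‖S b‖ : ℂ)) ^ 2 = ∑ b : F, ∑ u ∈ U, ∑ v ∈ U, ψ (b * (u - v)) := by
          refine Finset.sum_congr rfl (fun b _ => ?_)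
          rw [← Complex.mul_conj']
          simp only [hS, addSum, map_sum, Finset.sum_mul, Finset.mul_sum]
          rw [Finset.sum_comm]
          refine Finset.sum_congr rfl (fun v _ => Finset.sum_congr rfl (fun u _ => ?_))
          rw [← AddChar.map_neg_eq_conj, ← AddChar.map_add_eq_mul]
          congr 1; ring
      _ = ∑ u ∈ U, ∑ v ∈ U, ∑ b : F, ψ (b * (u - v)) := by
          rw [Finset.sum_comm]
          exact Finset.sum_congr rfl (fun u _ => Finset.sum_comm)
      _ = ∑ u ∈ U, ∑ v ∈ U, (if v = u then (Q : ℂ) else 0) := by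
          refine Finset.sum_congr rfl (fun u _ => Finset.sum_congr rfl (fun v _ => ?_))
          rw [AddChar.sum_mulShift _ hψ]
          by_cases h : v = u
          · simp [h, hQ]
          · simp [h, sub_ne_zero.2 (Ne.symm h)]
      _ = _ := by
          rw [Finset.sum_congr rfl (fun u hu => by rw [Finset.sum_ite_eq', if_pos hu])]
          simp
  have hupos : (0 : ℝ) < U.card := by exact_mod_cast hUne.card_pos
  have hbound : ∀ b ≠ 0, ‖S b‖ ≤ Real.sqrt Q := by
    intro b hb
    apply Real.le_sqrt_of_sq_le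
    have h1 : (U.card : ℝ) * ‖S b‖ ^ 2 ≤ ∑ x : F, ‖S x‖ ^ 2 := by
      calc (U.card : ℝ) * ‖S b‖ ^ 2 = ∑ u ∈ U, ‖S (b * u)‖ ^ 2 := by
            rw [Finset.sum_congr rfl (fun u hu => by rw [hinv u hu b]), Finset.sum_const,
              nsmul_eq_mul]
        _ = ∑ x ∈ U.image (b * ·), ‖S x‖ ^ 2 :=
            (Finset.sum_image (f := fun x => ‖S x‖ ^ 2) (g := (b * ·))
              (fun x _ y _ h => mul_right_injective₀ hb h)).symm
        _ ≤ _ := Finset.sum_le_sum_of_subset_of_nonneg (Finset.subset_univ _)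
            (fun x _ _ => sq_nonneg _)
    rw [hpars] at h1
    exact le_of_mul_le_mul_left h1 hupos
  -- the error term
  set T : ℂ := ∑ b ∈ Finset.univ.erase (0 : F), S b ^ 2 * ψ (-(b * c)) with hT
  have hTU : (U.card : ℂ) * T = ∑ b ∈ Finset.univ.erase (0 : F), S b ^ 2 * S (-c * b) := by
    calc (U.card : ℂ) * T
        = ∑ u ∈ U, ∑ b ∈ Finset.univ.erase (0 : F), S (b * u) ^ 2 * ψ (-(b * u * c)) := by
          rw [hT, ← nsmul_eq_mul, ← Finset.sum_const]
          refine Finset.sum_congr rfl (fun u hu => ?_)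
          have hu0 : u ≠ 0 := fun h => hU0 (h ▸ hu)
          exact (Finset.sum_nbij' (· * u⁻¹) (· * u) (by simp [hu0]) (by simp [hu0])
            (by simp [mul_assoc, hu0]) (by simp [mul_assoc, hu0]) (by simp [mul_assoc, hu0]))
      _ = ∑ b ∈ Finset.univ.erase (0 : F), ∑ u ∈ U, S b ^ 2 * ψ (-c * b * u) := by
          rw [Finset.sum_comm]
          refine Finset.sum_congr rfl (fun b _ => Finset.sum_congr rfl (fun u hu => ?_))
          rw [hinv u hu b]
          congr 2; ring
      _ = _ := by simp [Finset.mul_sum, hS, addSum]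
  have hS0 : S 0 = (U.card : ℂ) := by simp [hS, addSum]
  have hsum : ((U.filter (fun u => c - u ∈ U)).card : ℂ) * Q = (U.card : ℂ) ^ 2 + T := by
    rw [hid, hT, ← Finset.add_sum_erase _ _ (Finset.mem_univ (0 : F)), hS0]
    simp
  have hTbd : ‖T‖ ≤ Real.sqrt Q * Q := by
    refine le_of_mul_le_mul_left ?_ hupos
    calc (U.card : ℝ) * ‖T‖ = ‖(U.card : ℂ) * T‖ := by simp
      _ ≤ ∑ b ∈ Finset.univ.erase (0 : F), ‖S b‖ ^ 2 * Real.sqrt Q := by
          rw [hTU]
          refine (norm_sum_le _ _).trans (Finset.sum_le_sum (fun b hb => ?_))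
          rw [norm_mul, norm_pow]
          exact mul_le_mul_of_nonneg_left
            (hbound _ (mul_ne_zero (neg_ne_zero.2 hc) (Finset.ne_of_mem_erase hb))) (sq_nonneg _)
      _ ≤ ∑ b : F, ‖S b‖ ^ 2 * Real.sqrt Q :=
          Finset.sum_le_sum_of_subset_of_nonneg (Finset.subset_univ _)
            (fun x _ _ => by positivity)
      _ = _ := by rw [← Finset.sum_mul, hpars]; ring
  have hre := congrArg Complex.re hsum
  simp only [Complex.mul_re, Complex.natCast_re, Complex.natCast_im, mul_zero, sub_zero,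
    Complex.add_re, sq] at hre
  have := (abs_le.1 ((Complex.abs_re_le_norm T).trans hTbd)).1
  rw [sq]
  linarith

end CharSum

section Galois

variable (p q : ℕ) [Fact p.Prime] [Fact q.Prime]

/-- The norm of `GF(p^q)` over `GF(p)` as the product of the Frobenius conjugates. -/
lemma algebraMap_norm_galois (x : GaloisField p q) :
    algebraMap (ZMod p) (GaloisField p q) (Algebra.norm (ZMod p) x)
      = ∏ i ∈ Finset.range q, x ^ (p ^ i) := by
  rw [FiniteField.algebraMap_norm_eq_prod_pow, GaloisField.finrank p (Fact.out : q.Prime).ne_zero,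
    Nat.card_zmod]

/-- At least `p^(q-1)` elements of `GF(p^q)` have norm one. -/
lemma norm_one_card_lower [Fintype (GaloisField p q)] [DecidableEq (GaloisField p q)] :
    p ^ (q - 1) ≤ (Finset.univ.filter
      (fun x : GaloisField p q => Algebra.norm (ZMod p) x = 1)).card := by
  classical
  have hp : p.Prime := Fact.out
  have hq : q.Prime := Fact.out
  let f : (GaloisField p q)ˣ →* (ZMod p)ˣ := Units.map (Algebra.norm (ZMod p) (S := GaloisField p q))
  have h1 : Nat.card f.ker * Nat.card f.range = p ^ q - 1 := by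
    rw [← Subgroup.index_ker f, Subgroup.card_mul_index, Nat.card_units,
      GaloisField.card p q hq.ne_zero]
  have h2 : Nat.card f.range ≤ p - 1 := by
    refine (Subgroup.card_le_card_group _).trans ?_
    rw [Nat.card_units, Nat.card_zmod]
  have h3 : Nat.card f.ker ≤ (Finset.univ.filter
      (fun x : GaloisField p q => Algebra.norm (ZMod p) x = 1)).card := by
    rw [← Nat.card_eq_finsetCard]
    refine Nat.card_le_card_of_injective (fun u => ⟨((u : (GaloisField p q)ˣ) : GaloisField p q), ?_⟩) ?_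
    · have := congrArg Units.val (MonoidHom.mem_ker.1 u.2)
      simpa [f] using this
    · intro a b hab
      have := congrArg Subtype.val hab
      exact Subtype.ext (Units.ext this)
  have h4 : p ^ q - 1 ≤ Nat.card f.ker * (p - 1) := h1 ▸ Nat.mul_le_mul_left _ h2
  by_contra hlt
  have h5 : Nat.card f.ker + 1 ≤ p ^ (q - 1) := by omega
  have h6 : (Nat.card f.ker + 1) * (p - 1) ≤ p ^ (q - 1) * (p - 1) := Nat.mul_le_mul_right _ h5
  have h7 : p ^ (q - 1) * (p - 1) + p ^ (q - 1) = p ^ q := by
    rw [← Nat.mul_succ, Nat.succ_eq_add_one, Nat.sub_add_cancel hp.one_le, ← pow_succ,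
      Nat.sub_add_cancel hq.one_le]
  have h8 : 2 ≤ p ^ (q - 1) :=
    (Nat.le_self_pow (by have := hq.two_le; omega) p).trans' hp.two_le
  rw [add_mul, one_mul] at h6
  have h9 := hp.two_le
  omega

/-- A monic cubic over `GF(p)` with constant term `-1` and value `1` at `2` without roots. -/
lemma exists_cubic_no_root (hp : p ≠ 2) :
    ∃ c : ZMod p, ∀ x : ZMod p, x ^ 3 + c * x ^ 2 - (3 + 2 * c) * x - 1 ≠ 0 := by
  classical
  have h20 : (2 : ZMod p) ≠ 0 := by
    intro h
    have : ((2 : ℕ) : ZMod p) = 0 := by simpa using h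
    rw [ZMod.natCast_eq_zero_iff] at this
    exact hp ((Nat.prime_dvd_prime_iff_eq Fact.out Nat.prime_two).1 this)
  let D : Finset (ZMod p) := Finset.univ.filter (fun x => x ≠ 0 ∧ x ≠ 2)
  let g : ZMod p → ZMod p := fun x => (-x ^ 3 + 3 * x + 1) / (x ^ 2 - 2 * x)
  have hlt : (D.image g).card < Fintype.card (ZMod p) := by
    refine lt_of_le_of_lt Finset.card_image_le ?_
    refine Finset.card_lt_univ_of_notMem (x := (0 : ZMod p)) ?_
    simp [D]
  obtain ⟨c, hc⟩ : ∃ c, c ∉ D.image g := by
    by_contra hall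
    push_neg at hall
    rw [← Finset.card_univ, Finset.eq_univ_of_forall hall] at hlt
    exact lt_irrefl _ hlt
  refine ⟨c, fun x hx => ?_⟩
  rcases eq_or_ne x 0 with rfl | hx0
  · simp at hx
  rcases eq_or_ne x 2 with rfl | hx2
  · have : (1 : ZMod p) = 0 := by linear_combination hx
    exact one_ne_zero this
  refine hc (Finset.mem_image.2 ⟨x, by simp [D, hx0, hx2], ?_⟩)
  have hden : x ^ 2 - 2 * x ≠ 0 := by
    rw [show x ^ 2 - 2 * x = x * (x - 2) by ring]
    exact mul_ne_zero hx0 (sub_ne_zero.2 hx2)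
  rw [div_eq_iff hden]
  linear_combination -hx

/-- **BG, Appendix C**: `GF(p^q)` has two elements `a` with `a` and `2 - a` both of norm one. -/
theorem two_le_norm_pairs (hp : p ≠ 2) (hq : q ≠ 2) :
    2 ≤ Set.ncard {a : GaloisField p q |
      Algebra.norm (ZMod p) a = 1 ∧ Algebra.norm (ZMod p) (2 - a) = 1} := by
  classical
  have hpp : p.Prime := Fact.out
  have hqq : q.Prime := Fact.out
  have hp3 : 3 ≤ p := by have := hpp.two_le; omega
  haveI : Finite (GaloisField p q) := inferInstance
  haveI := Fintype.ofFinite (GaloisField p q)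
  by_cases hq3 : q = 3
  · subst hq3
    obtain ⟨c, hc⟩ := exists_cubic_no_root p hp
    let f : Polynomial (ZMod p) := Polynomial.X ^ 3 + Polynomial.C c * Polynomial.X ^ 2
      - Polynomial.C (3 + 2 * c) * Polynomial.X - 1
    have hmon : f.Monic := by
      simp only [f]
      monicity!
    have hdeg : f.natDegree = 3 := by
      simp only [f]
      compute_degree!
    have hirr : Irreducible f := by
      rw [hmon.irreducible_iff_roots_eq_zero_of_degree_le_three (by omega) (by omega),
        Multiset.eq_zero_iff_forall_notMem]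
      intro x hx
      rw [Polynomial.mem_roots hmon.ne_zero, Polynomial.IsRoot.def] at hx
      exact hc x (by simpa [f] using hx)
    haveI : Fact (Irreducible f) := ⟨hirr⟩
    haveI : Module.Finite (ZMod p) (AdjoinRoot f) := hmon.finite_adjoinRoot
    haveI : Finite (AdjoinRoot f) := Module.finite_of_finite (ZMod p)
    have hcard : Nat.card (AdjoinRoot f) = p ^ 3 := by
      rw [Module.natCard_eq_pow_finrank (K := ZMod p), (AdjoinRoot.powerBasis hmon.ne_zero).finrank,
        AdjoinRoot.powerBasis_dim, hdeg, Nat.card_zmod]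
    let e := GaloisField.algEquivGaloisField p 3 hcard
    let a : GaloisField p 3 := e (AdjoinRoot.root f)
    have ha : Polynomial.aeval a f = 0 := by
      show Polynomial.aeval (e (AdjoinRoot.root f)) f = 0
      rw [Polynomial.aeval_algHom_apply, AdjoinRoot.aeval_eq, AdjoinRoot.mk_self, map_zero]
    have hfix : ∀ x : GaloisField p 3, x ^ p = x → ∃ y : ZMod p, algebraMap _ _ y = x := by
      intro x hx
      have hx' := (Subfield.mem_bot_iff_pow_eq_self (F := GaloisField p 3) (p := p)).2 hx
      rw [mem_bot_iff_intCast p] at hx'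
      obtain ⟨n, rfl⟩ := hx'
      exact ⟨n, map_intCast _ n⟩
    have hP : ∀ (x : GaloisField p 3) (k : ℕ), (x ^ p ^ k) ^ p = x ^ p ^ (k + 1) := by
      intro x k; rw [← pow_mul, ← pow_succ]
    have hnot : a ^ p ≠ a := by
      intro hx
      obtain ⟨y, hy⟩ := hfix a hx
      rw [← hy, Polynomial.aeval_algebraMap_apply, map_eq_zero] at ha
      exact hc y (by simpa [f] using ha)
    have h3 : a ^ p ^ 3 = a := by
      rw [← GaloisField.card p 3 (by norm_num), ← Fintype.card_eq_nat_card]
      exact FiniteField.pow_card a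
    set r1 := a with hr1
    set r2 := a ^ p with hr2
    set r3 := a ^ p ^ 2 with hr3
    have h12 : r1 ≠ r2 := hnot.symm
    have hinj : Function.Injective (frobenius (GaloisField p 3) p) := frobenius_inj _ p
    have h23 : r2 ≠ r3 := by
      intro h
      refine h12 (hinj ?_)
      simpa [frobenius_def, hr1, hr2, hr3, ← pow_mul, sq] using h
    have h13 : r1 ≠ r3 := by
      intro h
      refine h12.symm ?_
      calc r2 = r3 ^ p := by rw [← h]
        _ = r1 := by rw [hr3, hP]; exact h3
    set C := algebraMap (ZMod p) (GaloisField p 3) c with hC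
    have e1 : r1 ^ 3 + C * r1 ^ 2 - (3 + 2 * C) * r1 - 1 = 0 := by
      simpa [f, hC, hr1, map_add, map_mul, map_ofNat] using ha
    have hCp : C ^ p = C := by rw [hC, ← map_pow, ZMod.pow_card]
    have hstep : ∀ x : GaloisField p 3, x ^ 3 + C * x ^ 2 - (3 + 2 * C) * x - 1 = 0 →
        (x ^ p) ^ 3 + C * (x ^ p) ^ 2 - (3 + 2 * C) * x ^ p - 1 = 0 := by
      intro x hx
      have := congrArg (frobenius (GaloisField p 3) p) hx
      simp only [map_sub, map_add, map_mul, map_pow, map_one, map_zero, map_ofNat] at this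
      simp only [frobenius_def, hCp] at this
      exact this
    have e2 := hstep r1 e1
    have e3 : r3 ^ 3 + C * r3 ^ 2 - (3 + 2 * C) * r3 - 1 = 0 := by
      rw [hr3, sq, pow_mul]
      exact hstep _ e2
    have g12 : r1 ^ 2 + r1 * r2 + r2 ^ 2 + C * (r1 + r2) - (3 + 2 * C) = 0 := by
      refine (mul_eq_zero.1 ?_).resolve_left (sub_ne_zero.2 h12)
      linear_combination e1 - e2
    have g13 : r1 ^ 2 + r1 * r3 + r3 ^ 2 + C * (r1 + r3) - (3 + 2 * C) = 0 := by
      refine (mul_eq_zero.1 ?_).resolve_left (sub_ne_zero.2 h13)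
      linear_combination e1 - e3
    have gsum : r1 + r2 + r3 + C = 0 := by
      refine (mul_eq_zero.1 ?_).resolve_left (sub_ne_zero.2 h23)
      linear_combination g12 - g13
    have gC : C = -(r1 + r2 + r3) := by linear_combination gsum
    have gprod : r1 * r2 * r3 = 1 := by
      linear_combination e1 - r1 * g12 + r1 * r2 * gsum
    have gval : (2 - r1) * (2 - r2) * (2 - r3) = 1 := by
      linear_combination (-1 : GaloisField p 3) * gprod + (-2 : GaloisField p 3) * g12
        + (2 * r1 + 2 * r2 - 4) * gsum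
    have hN : ∀ x : GaloisField p 3, x * x ^ p * x ^ p ^ 2 = 1 → Algebra.norm (ZMod p) x = 1 := by
      intro x hx
      apply (algebraMap (ZMod p) (GaloisField p 3)).injective
      rw [algebraMap_norm_galois, map_one, Finset.prod_range_succ, Finset.prod_range_succ,
        Finset.prod_range_succ, Finset.prod_range_zero, one_mul, pow_zero, pow_one, pow_one]
      exact hx
    have htwo : (2 : GaloisField p 3) ^ p = 2 := by
      rw [← frobenius_def, map_ofNat]
    have htwo2 : (2 : GaloisField p 3) ^ p ^ 2 = 2 := by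
      rw [pow_two, pow_mul, htwo, htwo]
    have m1 : r1 ∈ {x : GaloisField p 3 | Algebra.norm (ZMod p) x = 1 ∧
        Algebra.norm (ZMod p) (2 - x) = 1} := by
      refine ⟨hN _ gprod, hN _ ?_⟩
      rw [sub_pow_char, sub_pow_char_pow, htwo, htwo2]
      exact gval
    have m2 : r2 ∈ {x : GaloisField p 3 | Algebra.norm (ZMod p) x = 1 ∧
        Algebra.norm (ZMod p) (2 - x) = 1} := by
      have hr2p : r2 ^ p = r3 := by rw [hr2, hr3, ← pow_mul, sq]
      have hr3p : r2 ^ p ^ 2 = r1 := by
        rw [hr2, ← pow_mul, ← pow_succ']; exact h3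
      refine ⟨hN _ ?_, hN _ ?_⟩
      · rw [hr2p, hr3p, ← gprod]; ring
      · rw [sub_pow_char, sub_pow_char_pow, htwo, htwo2, hr2p, hr3p, ← gval]; ring
    exact (Set.one_lt_ncard (Set.toFinite _)).2 ⟨r1, m1, r2, m2, h12⟩
  · have hq5 : 5 ≤ q := by
      have := hqq.two_le
      by_contra h
      interval_cases q <;> simp_all (config := { decide := true })
    set U := Finset.univ.filter (fun x : GaloisField p q => Algebra.norm (ZMod p) x = 1) with hU
    have hcard : p ^ (q - 1) ≤ U.card := norm_one_card_lower p q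
    have hU0 : (0 : GaloisField p q) ∉ U := by simp [hU]
    have hUne : U.Nonempty := ⟨1, by simp [hU]⟩
    have h2 : (2 : GaloisField p q) ≠ 0 := by
      intro h
      have : ((2 : ℕ) : GaloisField p q) = 0 := by simpa using h
      rw [CharP.cast_eq_zero_iff (GaloisField p q) p] at this
      have := Nat.le_of_dvd (by norm_num) this
      omega
    have hmain := two_sum_count_lower U hU0 hUne (by intro u hu v hv; simp_all) h2
    have hQ : Fintype.card (GaloisField p q) = p ^ q := by
      rw [Fintype.card_eq_nat_card, GaloisField.card p q hqq.ne_zero]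
    have hN : U.filter (fun u => 2 - u ∈ U) = ({a : GaloisField p q |
        Algebra.norm (ZMod p) a = 1 ∧ Algebra.norm (ZMod p) (2 - a) = 1} : Set _).toFinset := by
      ext x; simp [hU]
    rw [hN, hQ, ← Set.ncard_eq_toFinset_card'] at hmain
    by_contra hlt
    have hle : (Set.ncard {a : GaloisField p q | Algebra.norm (ZMod p) a = 1 ∧
        Algebra.norm (ZMod p) (2 - a) = 1} : ℝ) ≤ 1 := by
      exact_mod_cast (show Set.ncard _ ≤ 1 by omega)
    set s := Real.sqrt ((p ^ q : ℕ) : ℝ) with hs
    set Qr : ℝ := ((p ^ q : ℕ) : ℝ) with hQr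
    have hs2 : s ^ 2 = Qr := Real.sq_sqrt (Nat.cast_nonneg _)
    have hQ4 : (4 : ℝ) ≤ Qr := by
      have : 4 ≤ p ^ q := by
        calc 4 ≤ 3 ^ 2 := by norm_num
          _ ≤ p ^ 2 := Nat.pow_le_pow_left hp3 2
          _ ≤ p ^ q := Nat.pow_le_pow_right hpp.pos (by omega)
      rw [hQr]; exact_mod_cast this
    have hspos : 0 ≤ s := Real.sqrt_nonneg _
    have hsge : 2 ≤ s := by nlinarith
    have hUc : (3 : ℝ) * Qr ^ 3 ≤ (U.card : ℝ) ^ 4 := by
      have h1 : 3 * (p ^ q) ^ 3 ≤ U.card ^ 4 := by
        calc 3 * (p ^ q) ^ 3 ≤ p * (p ^ q) ^ 3 := Nat.mul_le_mul_right _ hp3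
          _ = p ^ (q * 3 + 1) := by ring
          _ ≤ p ^ ((q - 1) * 4) := Nat.pow_le_pow_right hpp.pos (by omega)
          _ = (p ^ (q - 1)) ^ 4 := by ring
          _ ≤ U.card ^ 4 := Nat.pow_le_pow_left hcard 4
      rw [hQr]; exact_mod_cast h1
    have hkey : (U.card : ℝ) ^ 2 ≤ Qr * (s + 1) := by nlinarith
    have hlt' : (s + 1) ^ 2 < 3 * Qr := by nlinarith
    have h1 : (U.card : ℝ) ^ 4 ≤ Qr ^ 2 * (s + 1) ^ 2 := by
      calc (U.card : ℝ) ^ 4 = ((U.card : ℝ) ^ 2) ^ 2 := by ring
        _ ≤ (Qr * (s + 1)) ^ 2 := pow_le_pow_left₀ (sq_nonneg _) hkey 2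
        _ = _ := by ring
    have h2' : Qr ^ 2 * (s + 1) ^ 2 < Qr ^ 2 * (3 * Qr) :=
      mul_lt_mul_of_pos_left hlt' (pow_pos (by linarith) 2)
    linarith [h1, h2', hUc]

end Galois

end CfsgLib.OddOrder
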