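import Cfsg.Agent.OddOrder.AppCNormPairs

/-!
# Two norm-one elements with sum one (for Bender–Glauberman, Appendix C)

In a field with `p ^ q` elements, `p ≥ 5`, `q` an odd prime, some `a` has both `a ^ n = 1` and
`(1 - a) ^ n = 1`, `n = (p ^ q - 1) / (p - 1)`.
-/

set_option autoImplicit false

namespace CfsgLib.OddOrder.AppC

open Finset

variable {F : Type*} [Field F] [Fintype F] {p q : ℕ} [Fact p.Prime]

theorem exists_cubic_value_one (hp : 3 ≤ p) :
    ∃ c : ZMod p, ∀ x : ZMod p, x ^ 3 + c * x ^ 2 + (1 - c) * x - 1 ≠ 0 := by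
  classical
  let D : Finset (ZMod p) := Finset.univ.filter (fun x => x ≠ 0 ∧ x ≠ 1)
  let g : ZMod p → ZMod p := fun x => (-x ^ 3 - x + 1) / (x ^ 2 - x)
  have hlt : (D.image g).card < Fintype.card (ZMod p) :=
    lt_of_le_of_lt Finset.card_image_le
      (Finset.card_lt_univ_of_notMem (x := (0 : ZMod p)) (by simp [D]))
  obtain ⟨c, hc⟩ : ∃ c, c ∉ D.image g := by
    by_contra hall
    push_neg at hall
    rw [← Finset.card_univ, Finset.eq_univ_of_forall hall] at hlt
    exact lt_irrefl _ hlt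
  refine ⟨c, fun x hx => ?_⟩
  rcases eq_or_ne x 0 with rfl | hx0
  · simp at hx
  rcases eq_or_ne x 1 with rfl | hx1
  · have : (1 : ZMod p) = 0 := by linear_combination hx
    exact one_ne_zero this
  refine hc (Finset.mem_image.2 ⟨x, by simp [D, hx0, hx1], ?_⟩)
  have hden : x ^ 2 - x ≠ 0 := by
    rw [show x ^ 2 - x = x * (x - 1) by ring]
    exact mul_ne_zero hx0 (sub_ne_zero.2 hx1)
  rw [div_eq_iff hden]
  linear_combination -hx

/-- An element fixed by the Frobenius comes from the prime field. -/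
theorem exists_algebraMap_eq [CharP F p] [Algebra (ZMod p) F] {x : F} (hx : x ^ p = x) :
    ∃ y : ZMod p, algebraMap (ZMod p) F y = x := by
  have hx' := (Subfield.mem_bot_iff_pow_eq_self (F := F) (p := p)).2 hx
  rw [mem_bot_iff_intCast p] at hx'
  obtain ⟨m, rfl⟩ := hx'
  exact ⟨m, map_intCast _ m⟩

theorem exists_norm_one_sum_three [CharP F p] (hp : 3 ≤ p) (hF : Fintype.card F = p ^ 3) :
    ∃ a : F, a ^ (1 + p + p ^ 2) = 1 ∧ (1 - a) ^ (1 + p + p ^ 2) = 1 := by
  classical
  letI : Algebra (ZMod p) F := ZMod.algebra F p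
  obtain ⟨c, hc⟩ := exists_cubic_value_one (p := p) hp
  let f : Polynomial (ZMod p) := Polynomial.X ^ 3 + Polynomial.C c * Polynomial.X ^ 2
    + Polynomial.C (1 - c) * Polynomial.X - 1
  have hmon : f.Monic := by simp only [f]; monicity!
  have hdeg : f.natDegree = 3 := by simp only [f]; compute_degree!
  have hirr : Irreducible f := by
    rw [hmon.irreducible_iff_roots_eq_zero_of_degree_le_three (by omega) (by omega),
      Multiset.eq_zero_iff_forall_notMem]
    intro x hx
    rw [Polynomial.mem_roots hmon.ne_zero, Polynomial.IsRoot.def] at hx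
    exact hc x (by simpa [f] using hx)
  haveI : Fact (Irreducible f) := ⟨hirr⟩
  haveI : Module.Finite (ZMod p) (AdjoinRoot f) := hmon.finite_adjoinRoot
  haveI : Finite (AdjoinRoot f) := Module.finite_of_finite (ZMod p)
  have hcard : Nat.card (AdjoinRoot f) = p ^ 3 := by
    rw [Module.natCard_eq_pow_finrank (K := ZMod p), (AdjoinRoot.powerBasis hmon.ne_zero).finrank,
      AdjoinRoot.powerBasis_dim, hdeg, Nat.card_zmod]
  let e : AdjoinRoot f ≃ₐ[ZMod p] F := (GaloisField.algEquivGaloisField p 3 hcard).trans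
    (GaloisField.algEquivGaloisField p 3 (by rw [Nat.card_eq_fintype_card, hF])).symm
  set a : F := e (AdjoinRoot.root f) with hadef
  have ha : Polynomial.aeval a f = 0 := by
    rw [hadef, Polynomial.aeval_algHom_apply, AdjoinRoot.aeval_eq, AdjoinRoot.mk_self, map_zero]
  refine ⟨a, ?_⟩
  have hnot : a ^ p ≠ a := by
    intro hx
    obtain ⟨y, hy⟩ := exists_algebraMap_eq (F := F) hx
    rw [← hy, Polynomial.aeval_algebraMap_apply, map_eq_zero] at ha
    exact hc y (by simpa [f] using ha)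
  have h3 : a ^ p ^ 3 = a := hF ▸ FiniteField.pow_card a
  have hP : ∀ (x : F) (k : ℕ), (x ^ p ^ k) ^ p = x ^ p ^ (k + 1) := fun x k => by
    rw [← pow_mul, ← pow_succ]
  set r1 := a with hr1
  set r2 := a ^ p with hr2
  set r3 := a ^ p ^ 2 with hr3
  have h12 : r1 ≠ r2 := hnot.symm
  have h23 : r2 ≠ r3 := by
    intro h
    refine h12 (frobenius_inj F p ?_)
    simpa [frobenius_def, hr1, hr2, hr3, ← pow_mul, sq] using h
  have h13 : r1 ≠ r3 := by
    intro h
    refine h12.symm ?_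
    calc r2 = r3 ^ p := by rw [← h]
      _ = r1 := by rw [hr3, hP]; exact h3
  set C := algebraMap (ZMod p) F c with hC
  have e1 : r1 ^ 3 + C * r1 ^ 2 + (1 - C) * r1 - 1 = 0 := by
    simpa [f, hC, hr1, map_add, map_mul, map_ofNat] using ha
  have hCp : C ^ p = C := by rw [hC, ← map_pow, ZMod.pow_card]
  have hstep : ∀ x : F, x ^ 3 + C * x ^ 2 + (1 - C) * x - 1 = 0 →
      (x ^ p) ^ 3 + C * (x ^ p) ^ 2 + (1 - C) * x ^ p - 1 = 0 := by
    intro x hx
    have := congrArg (frobenius F p) hx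
    simp only [map_sub, map_add, map_mul, map_pow, map_one, map_zero] at this
    simp only [frobenius_def, hCp] at this
    exact this
  have e2 := hstep r1 e1
  have e3 : r3 ^ 3 + C * r3 ^ 2 + (1 - C) * r3 - 1 = 0 := by
    rw [hr3, sq, pow_mul]
    exact hstep _ e2
  have g12 : r1 ^ 2 + r1 * r2 + r2 ^ 2 + C * (r1 + r2) + (1 - C) = 0 := by
    refine (mul_eq_zero.1 ?_).resolve_left (sub_ne_zero.2 h12)
    linear_combination e1 - e2
  have g13 : r1 ^ 2 + r1 * r3 + r3 ^ 2 + C * (r1 + r3) + (1 - C) = 0 := by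
    refine (mul_eq_zero.1 ?_).resolve_left (sub_ne_zero.2 h13)
    linear_combination e1 - e3
  have gsum : r1 + r2 + r3 + C = 0 := by
    refine (mul_eq_zero.1 ?_).resolve_left (sub_ne_zero.2 h23)
    linear_combination g12 - g13
  have gprod : r1 * r2 * r3 = 1 := by
    linear_combination e1 - r1 * g12 + r1 * r2 * gsum
  have gval : (1 - r1) * (1 - r2) * (1 - r3) = 1 := by
    linear_combination (-1 : F) * gprod - g12 + (r1 + r2 - 1) * gsum
  constructor
  · rw [pow_add, pow_add, pow_one]; exact gprod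
  · rw [pow_add, pow_add, pow_one, sub_pow_char, sub_pow_char_pow, one_pow, one_pow]
    exact gval

theorem exists_norm_one_sum [CharP F p] (hp : 5 ≤ p) [Fact q.Prime] (hq : q ≠ 2)
    (hF : Fintype.card F = p ^ q) (U : Finset F)
    (hU : ∀ x, x ∈ U ↔ x ^ ((p ^ q - 1) / (p - 1)) = 1)
    (hcard : U.card = (p ^ q - 1) / (p - 1)) :
    ∃ a : F, a ∈ U ∧ 1 - a ∈ U := by
  classical
  have hq' : q.Prime := Fact.out
  have hsum : (p ^ q - 1) / (p - 1) = ∑ i ∈ range q, p ^ i :=
    (Nat.geomSum_eq (by omega) q).symm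
  by_cases hq3 : q = 3
  · subst hq3
    obtain ⟨a, h1, h2⟩ := exists_norm_one_sum_three (F := F) (by omega) hF
    have e : (p ^ 3 - 1) / (p - 1) = 1 + p + p ^ 2 := by
      rw [hsum, sum_range_succ, sum_range_succ, sum_range_succ, sum_range_zero]
      ring
    exact ⟨a, (hU a).2 (e ▸ h1), (hU _).2 (e ▸ h2)⟩
  have hq5 : 5 ≤ q := by
    have := hq'.two_le
    by_contra h
    interval_cases q <;> simp_all (config := { decide := true })
  have hpow : p ^ (q - 1) ≤ U.card := by
    rw [hcard, hsum]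
    exact single_le_sum (f := fun i => p ^ i) (fun i _ => Nat.zero_le _)
      (mem_range.2 (by omega))
  have h0 : (0 : F) ∉ U := by
    rw [hU, zero_pow]
    · exact zero_ne_one
    · have : 0 < p ^ (q - 1) := pow_pos (by omega) _
      omega
  have hne : U.Nonempty := ⟨1, (hU 1).2 (one_pow _)⟩
  have hmain := two_sum_count_lower U h0 hne
    (fun u hu v hv => (hU _).2 (by rw [mul_pow, (hU u).1 hu, (hU v).1 hv, one_mul]))
    (one_ne_zero (α := F))
  by_contra hnone
  push_neg at hnone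
  have hz : (U.filter fun u => 1 - u ∈ U) = ∅ := filter_eq_empty_iff.2 fun u hu => hnone u hu
  rw [hz, card_empty, Nat.cast_zero, zero_mul, hF] at hmain
  set Qr : ℝ := ((p ^ q : ℕ) : ℝ) with hQr
  have hs : Real.sqrt Qr ^ 2 = Qr := Real.sq_sqrt (Nat.cast_nonneg _)
  have h4 : (U.card : ℝ) ^ 4 ≤ Qr ^ 3 := by
    have hle : (U.card : ℝ) ^ 2 ≤ Real.sqrt Qr * Qr := by linarith
    calc (U.card : ℝ) ^ 4 = ((U.card : ℝ) ^ 2) ^ 2 := by ring
      _ ≤ (Real.sqrt Qr * Qr) ^ 2 := pow_le_pow_left₀ (sq_nonneg _) hle 2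
      _ = _ := by rw [mul_pow, hs]; ring
  have h5 : (p ^ q) ^ 3 < U.card ^ 4 := by
    calc (p ^ q) ^ 3 = p ^ (q * 3) := by ring
      _ < p ^ ((q - 1) * 4) := Nat.pow_lt_pow_right (by omega) (by omega)
      _ = (p ^ (q - 1)) ^ 4 := by ring
      _ ≤ _ := Nat.pow_le_pow_left hpow 4
  have h6 : Qr ^ 3 < (U.card : ℝ) ^ 4 := by rw [hQr]; exact_mod_cast h5
  linarith

end CfsgLib.OddOrder.AppC
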