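import Cfsg.Agent.OddOrder.BG10.PLengthOne
import Cfsg.Agent.NilpotentCover.Basic
import Cfsg.Agent.S1886

/-!
# Nilpotent Hall subgroups and their fusion

In a solvable group with `q`-length one for all `q`, a nilpotent Hall `π`-subgroup `H` satisfies
`X = O_{π'}(X) N_X(H)`. In a minimal simple group of odd order, whose proper subgroups all have
`q`-length one, this shows that a nilpotent Hall subgroup controls its own fusion.
-/

set_option autoImplicit false
set_option linter.style.haveILetI false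
set_option linter.unusedSectionVars false

namespace CfsgLib.OddOrder

open Cfsg Subgroup
open scoped Pointwise

universe u

section Abstract

variable {X : Type*} [Group X] [Finite X] [Group.IsSolvable X]

/-- A Sylow subgroup of a nilpotent Hall subgroup is a Sylow subgroup of the whole group. -/
theorem sylow_of_hall {H : Subgroup X} (hHall : (Nat.card H).Coprime H.index) {q : ℕ}
    [Fact q.Prime] (hqH : q ∣ Nat.card H) (S : Sylow q H) :
    ¬ q ∣ ((S : Subgroup H).map H.subtype).index := by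
  rw [index_map_subtype]
  intro hd
  rcases (Fact.out : q.Prime).dvd_mul.1 hd with h | h
  · exact S.not_dvd_index h
  · exact (Fact.out : q.Prime).ne_one (Nat.eq_one_of_dvd_coprimes hHall hqH h)

/-- If no nontrivial normal subgroup has order prime to the nilpotent Hall subgroup `H`, and the
group has `q`-length one for every prime `q`, then `H` is normal. -/
theorem nilpotentHall_normal (hpl : ∀ q : ℕ, ∀ [Fact q.Prime], Cfsg.PLengthLE q 1 X)
    {H : Subgroup X} (hn : Group.IsNilpotent H) (hHall : (Nat.card H).Coprime H.index)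
    (h0 : Cfsg.piCore (Cfsg.primesNotDvd (Nat.card H)) X = ⊥) : H.Normal := by
  haveI := hn
  set F := Cfsg.fittingSubgroup X with hF
  haveI : F.Normal := Solvable.fittingSubgroup_normal
  have hFπ : ∀ r : ℕ, r.Prime → r ∣ Nat.card F → r ∣ Nat.card H := by
    intro r hr hd
    by_contra hcon
    exact ((Cfsg.Agent.S1886.result (X := X) _).2 h0).1 r hr ⟨hr, hcon⟩ hd
  have hFH : F ≤ H := by
    rw [hF, Solvable.fittingSubgroup_eq_iSup]
    refine iSup_le fun r => ?_
    by_cases hbot : Cfsg.pCore (r : ℕ) X = ⊥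
    · rw [hbot]; exact bot_le
    haveI := Fact.mk r.2
    have hrH : (r : ℕ) ∣ Nat.card H := by
      obtain ⟨n, hn'⟩ := IsPGroup.iff_card.1 (Solvable.isPGroup_pCore (G := X) (r : ℕ))
      have hn0 : n ≠ 0 := fun h => hbot (card_eq_one.1 (by rw [hn', h, pow_zero]))
      refine hFπ r r.2 ((hn' ▸ dvd_pow_self _ hn0).trans (card_dvd_of_le ?_))
      exact Solvable.pCore_le_fittingSubgroup _
    let S : Sylow (r : ℕ) H := default
    let SX : Sylow (r : ℕ) X := (S.isPGroup'.map H.subtype).toSylow (sylow_of_hall hHall hrH S)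
    exact (Solvable.pCore_le_sylow SX).trans (map_subtype_le _)
  suffices key : ∀ q : (Nat.card H).primeFactors, ∀ S : Sylow (q : ℕ) H,
      ((S : Subgroup H).map H.subtype).Normal by
    have htop := Solvable.iSup_sylow_eq_top (G := H) fun q => (default : Sylow (q : ℕ) H)
    have e := congrArg (Subgroup.map H.subtype) htop
    rw [Subgroup.map_iSup, ← MonoidHom.range_eq_map, range_subtype] at e
    rw [← e]
    exact ⟨fun a ha g => by
      have hle : (⨆ q : (Nat.card H).primeFactors,
          ((default : Sylow (q : ℕ) H) : Subgroup H).map H.subtype).map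
            (MulAut.conj g).toMonoidHom ≤ ⨆ q : (Nat.card H).primeFactors,
          ((default : Sylow (q : ℕ) H) : Subgroup H).map H.subtype := by
        rw [Subgroup.map_iSup]
        refine iSup_mono fun q => ?_
        rintro _ ⟨b, hb, rfl⟩
        exact (key q default).conj_mem b hb g
      exact hle ⟨a, ha, rfl⟩⟩
  intro q S
  obtain ⟨hqp, hqH, -⟩ := Nat.mem_primeFactors.1 q.2
  haveI := Fact.mk hqp
  set Q : Subgroup X := (S : Subgroup H).map H.subtype with hQ
  let SX : Sylow (q : ℕ) X := (S.isPGroup'.map H.subtype).toSylow (sylow_of_hall hHall hqH S)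
  have hQH : Q ≤ H := map_subtype_le _
  have hQp : IsPGroup (q : ℕ) Q := S.isPGroup'.map _
  set N := Cfsg.pPrimeCore (q : ℕ) X with hN
  haveI : N.Normal := normal_of_characteristic _
  have hcomm : ∀ a ∈ F ⊓ N, ∀ b ∈ Q, Commute a b := by
    intro a ha b hb
    refine NilpotentCover.commute_of_coprime_mem hn (hFH ha.1) (hQH hb) ?_
    obtain ⟨k, hk⟩ := IsPGroup.iff_orderOf.1 hQp ⟨b, hb⟩
    rw [Subgroup.orderOf_mk] at hk
    rw [hk]
    exact (((PLocal.coprime_card_pPrimeCore (q : ℕ) X).coprime_dvd_left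
      (N.orderOf_dvd_natCard ha.2))).pow_right k
  set D := centralizer ((F ⊓ N : Subgroup X) : Set X) with hD
  haveI : (F ⊓ N).Normal := inferInstance
  haveI : D.Normal := inferInstance
  set M := Cfsg.pPrimePCore (q : ℕ) X ⊓ D with hM
  have hQM : Q ≤ M := le_inf (sylow_le_pPrimePCore (hpl q) SX)
    fun b hb => mem_centralizer_iff.2 fun a ha => hcomm a ha b hb
  have hND : N ⊓ D ≤ F := by
    refine le_trans ?_ Solvable.centralizer_fittingSubgroup_le
    rw [← le_centralizer_iff, ← hF]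
    conv_lhs => rw [hF, Solvable.fittingSubgroup_eq_iSup]
    refine iSup_le fun r => ?_
    haveI := Fact.mk r.2
    haveI : (Cfsg.pCore (r : ℕ) X).Normal := Solvable.pCore_normal _
    obtain ⟨k, hk⟩ := IsPGroup.iff_card.1 (Solvable.isPGroup_pCore (G := X) (r : ℕ))
    by_cases hrq : (r : ℕ) = q
    · intro x hx
      refine mem_centralizer_iff.2 fun y hy => ?_
      refine Subgroup.commute_of_normal_of_disjoint N (Cfsg.pCore (r : ℕ) X) inferInstance
        inferInstance (disjoint_iff.2 (inf_eq_bot_of_coprime ?_)) y x hy.1 hx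
      rw [hk, hrq]
      exact (PLocal.coprime_card_pPrimeCore (q : ℕ) X).pow_right k
    · have hle : Cfsg.pCore (r : ℕ) X ≤ F ⊓ N := le_inf (Solvable.pCore_le_fittingSubgroup _)
        (PLocal.le_pPrimeCore (by
          rw [hk]; exact ((Nat.coprime_primes r.2 hqp).2 hrq).pow_left k))
      intro x hx
      exact mem_centralizer_iff.2 fun y hy => (mem_centralizer_iff.1 hy.2 x (hle hx)).symm
  have hMQ : M ≤ normalizer (Q : Set X) := by
    intro m hm
    have hm1 : m ∈ N ⊔ Q := by
      have h := hm.1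
      rw [← pPrimeCore_sup_sylow (hpl q) SX] at h
      exact h
    obtain ⟨n, hn', s, hs, rfl⟩ := mem_sup_of_normal_left.1 hm1
    refine mul_mem (centralizer_le_normalizer _ (mem_centralizer_iff.2 fun b hb => ?_))
      (le_normalizer hs)
    have hnD : n ∈ D := by
      have h : n * s * s⁻¹ ∈ D :=
        mul_mem (mem_inf.1 hm).2 (inv_mem (mem_inf.1 (hQM hs)).2)
      rwa [mul_inv_cancel_right] at h
    exact (hcomm n ⟨hND ⟨hn', hnD⟩, hn'⟩ b hb).eq.symm
  refine ⟨fun a ha g => ?_⟩
  have hle : Q.map (MulAut.conj g).toMonoidHom ≤ M := by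
    have h := map_mono (f := (MulAut.conj g).toMonoidHom) hQM
    rwa [map_conj_eq_self_iff.2 (show g ∈ normalizer (M : Set X) by
      rw [normalizer_eq_top]; exact mem_top g)] at h
  have hp : IsPGroup (q : ℕ) ↥(Q.map (MulAut.conj g).toMonoidHom ⊔ Q) :=
    (hQp.map _).to_sup_of_normal_right' hQp (hle.trans hMQ)
  have e : Q.map (MulAut.conj g).toMonoidHom ⊔ Q = Q := SX.is_maximal' hp le_sup_right
  exact e ▸ mem_sup_left ⟨a, ha, rfl⟩

/-- The Frattini argument for a nilpotent Hall subgroup. -/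
theorem piCore_sup_normalizer_nilpotentHall
    (hpl : ∀ q : ℕ, ∀ [Fact q.Prime], Cfsg.PLengthLE q 1 X) {H : Subgroup X}
    (hn : Group.IsNilpotent H) (hHall : (Nat.card H).Coprime H.index) :
    Cfsg.piCore (Cfsg.primesNotDvd (Nat.card H)) X ⊔ normalizer (H : Set X) = ⊤ := by
  haveI := hn
  set O := Cfsg.piCore (Cfsg.primesNotDvd (Nat.card H)) X with hO
  have hcop : (Nat.card O).Coprime (Nat.card H) := Nat.coprime_of_dvd fun r hr hd hd' =>
    (isPiSubgroup_piCore _ X r hr hd).2 hd'
  set f := QuotientGroup.mk' O with hf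
  have hker : f.ker = O := QuotientGroup.ker_mk' O
  have hinj : Function.Injective (f.comp H.subtype) := by
    rw [← MonoidHom.ker_eq_bot_iff, ← MonoidHom.comap_ker, hker, eq_bot_iff]
    intro x hx
    refine Subtype.ext ?_
    have : (x : X) ∈ O ⊓ H := ⟨hx, x.2⟩
    rwa [CfsgLib.Coprime.inf_eq_bot_of_coprime hcop, mem_bot] at this
  have hcard : Nat.card (H.map f) = Nat.card H := by
    rw [show H.map f = (f.comp H.subtype).range by rw [MonoidHom.range_comp, range_subtype]]
    exact (Nat.card_congr (MonoidHom.ofInjective hinj).toEquiv).symm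
  have hnorm : (H.map f).Normal := by
    refine nilpotentHall_normal (fun q _ => CfsgLib.PLength.pLengthLE_quotient (hpl q) O) ?_ ?_ ?_
    · exact Group.nilpotent_of_surjective (f.subgroupMap H) (f.subgroupMap_surjective H)
    · rw [hcard]
      exact hHall.coprime_dvd_right (index_map_dvd H (QuotientGroup.mk'_surjective O))
    · rw [hcard]
      exact (Cfsg.Agent.S1886.result (X := X) (Cfsg.primesNotDvd (Nat.card H))).1
  have hOHn : (O ⊔ H).Normal := by
    rw [show O ⊔ H = (H.map f).comap f by rw [comap_map_eq, hker, sup_comm]]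
    exact hnorm.comap f
  refine top_unique fun g _ => ?_
  have hsmul : MulAut.conj g • H = H.map (MulAut.conj g).toMonoidHom := rfl
  have h1 : O ⊔ H = O ⊔ MulAut.conj g • H := by
    refine (eq_of_le_of_card_ge (sup_le le_sup_left ?_) (le_of_eq ?_)).symm
    · rw [hsmul]
      rintro _ ⟨a, ha, rfl⟩
      exact hOHn.conj_mem a (mem_sup_right ha) g
    · rw [Coprime.card_sup_eq le_normalizer_of_normal (Coprime.inf_eq_bot_of_coprime hcop),
        Coprime.card_sup_eq le_normalizer_of_normal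
          (Coprime.inf_eq_bot_of_coprime (by rwa [Coprime.card_conj_smul])),
        Coprime.card_conj_smul]
  obtain ⟨n, hnO, he⟩ := Coprime.exists_conj_eq_of_sup_eq (N := O)
    (le_normalizer_of_normal) (le_normalizer_of_normal) hcop (Coprime.card_conj_smul g H) h1
    (Or.inl inferInstance)
  have h2 : n⁻¹ * g ∈ normalizer (H : Set X) := by
    rw [Coprime.mem_normalizer_iff_conj_smul_eq, ← Coprime.conj_smul_conj_smul, ← he,
      Coprime.conj_smul_conj_smul, inv_mul_cancel, Coprime.conj_one_smul]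
  exact mul_inv_cancel_left n g ▸ mul_mem (mem_sup_left hnO) (mem_sup_right h2)

/-- A nilpotent Hall subgroup controls its fusion in a solvable group with all `q`-lengths one. -/
theorem nilpotentHall_fusion (hpl : ∀ q : ℕ, ∀ [Fact q.Prime], Cfsg.PLengthLE q 1 X)
    {H : Subgroup X} (hn : Group.IsNilpotent H) (hHall : (Nat.card H).Coprime H.index) {a g : X}
    (ha : a ∈ H) (hga : g * a * g⁻¹ ∈ H) :
    ∃ m ∈ normalizer (H : Set X), m * a * m⁻¹ = g * a * g⁻¹ := by
  have hz : zpowers a ≤ H := zpowers_le.2 ha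
  have hcop : (Nat.card (zpowers a)).Coprime
      (Nat.card (Cfsg.piCore (Cfsg.primesNotDvd (Nat.card H)) X)) :=
    Nat.coprime_of_dvd fun r hr hd hd' =>
      (isPiSubgroup_piCore _ X r hr hd').2 (hd.trans (card_dvd_of_le hz))
  obtain ⟨u, hu, c, hc, e⟩ := supplement_fusion (Or.inl inferInstance)
    (piCore_sup_normalizer_nilpotentHall hpl hn hHall) (hz.trans le_normalizer) hcop (g := g) (by
      show (zpowers a).map (MulAut.conj g).toMonoidHom ≤ _
      rw [MonoidHom.map_zpowers, zpowers_le]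
      exact le_normalizer hga)
  refine ⟨u, hu, ?_⟩
  rw [e, show u * c * a * (u * c)⁻¹ = u * (c * a) * c⁻¹ * u⁻¹ by group,
    ← mem_centralizer_iff.1 hc.2 a (mem_zpowers a)]
  group

end Abstract

section MinimalSimple

open CfsgLib.ConjFunctor (IsSylowIn)

variable {G : Type u} [Group G] [Finite G]

/-- Fusion in a nilpotent Hall subgroup `K` realised inside a proper subgroup. -/
theorem nilpotentHall_fusion_of_le (h36 : SmallFixBound.{u}) (hG : Cfsg.IsMinSimpleOddOrder G)
    {X K : Subgroup G} (hX : X ≠ ⊤) (hKX : K ≤ X) (hn : Group.IsNilpotent K)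
    (hHall : (Nat.card K).Coprime K.index) {a g : G} (hg : g ∈ X) (ha : a ∈ K)
    (hga : g * a * g⁻¹ ∈ K) :
    ∃ m ∈ X ⊓ normalizer (K : Set G), m * a * m⁻¹ = g * a * g⁻¹ := by
  haveI := minSimple_solvable hG hX
  haveI := hn
  obtain ⟨m, hm, he⟩ := nilpotentHall_fusion (X := X) (H := K.subgroupOf X)
    (fun q _ => pLengthOne h36 hG q hX)
    (Group.nilpotent_of_mulEquiv (subgroupOfEquivOfLe hKX).symm)
    (by
      rw [Nat.card_congr (subgroupOfEquivOfLe hKX).toEquiv]
      exact hHall.coprime_dvd_right (relIndex_dvd_index_of_le hKX))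
    (a := ⟨a, hKX ha⟩) (g := ⟨g, hg⟩) ha hga
  rw [← subgroupOf_normalizer_eq hKX] at hm
  exact ⟨m, ⟨m.2, hm⟩, congrArg Subtype.val he⟩

/-- A nilpotent Hall subgroup of a minimal simple group of odd order controls its fusion. -/
theorem minSimple_nilpotentHall_fusion (h36 : SmallFixBound.{u})
    (hG : Cfsg.IsMinSimpleOddOrder G) {H : Subgroup G} (hn : Group.IsNilpotent H)
    (hHall : (Nat.card H).Coprime H.index) {x g : G} (hx : x ∈ H) (hgx : g * x * g⁻¹ ∈ H) :
    ∃ n ∈ normalizer (H : Set G), n * x * n⁻¹ = g * x * g⁻¹ := by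
  by_cases hx1 : x = 1
  · exact ⟨1, one_mem _, by rw [hx1]; group⟩
  haveI := hn
  obtain ⟨p, hp, hpx⟩ := Nat.exists_prime_and_dvd (mt orderOf_eq_one_iff.1 hx1)
  haveI := Fact.mk hp
  have ho : orderOf x ≠ 0 := (orderOf_pos x).ne'
  obtain ⟨e, d, hd, hed⟩ := Nat.exists_eq_pow_mul_and_not_dvd ho p hp.ne_one
  have hpH : p ∣ Nat.card H := hpx.trans (H.orderOf_dvd_natCard hx)
  let S : Sylow p H := default
  haveI : (S : Subgroup H).Normal := inferInstance
  set Q : Subgroup G := (S : Subgroup H).map H.subtype with hQ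
  set K : Subgroup G := (Cfsg.pPrimeCore p H).map H.subtype with hK
  have hQH : Q ≤ H := map_subtype_le _
  have hKH : K ≤ H := map_subtype_le _
  have hQi : ¬ p ∣ Q.index := by
    rw [hQ, index_map_subtype]
    intro h
    rcases hp.dvd_mul.1 h with h | h
    · exact S.not_dvd_index h
    · exact hp.ne_one (Nat.eq_one_of_dvd_coprimes hHall hpH h)
  let P : Sylow p G := (S.isPGroup'.map H.subtype).toSylow hQi
  have hQmem : ∀ z ∈ H, orderOf z ∣ p ^ e → z ∈ Q := by
    intro z hz ho'
    have hZ : IsPGroup p (zpowers (⟨z, hz⟩ : H)) := by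
      obtain ⟨i, -, hi⟩ := (Nat.dvd_prime_pow hp).1 ho'
      exact IsPGroup.of_card (n := i) (by rw [Nat.card_zpowers, Subgroup.orderOf_mk, hi])
    have hle : zpowers (⟨z, hz⟩ : H) ⊔ (S : Subgroup H) = S :=
      S.is_maximal' (hZ.to_sup_of_normal_right S.isPGroup') le_sup_right
    exact ⟨⟨z, hz⟩, hle ▸ mem_sup_left (mem_zpowers _), rfl⟩
  have hKc : (Nat.card K).Coprime p := by
    rw [hK, card_map_of_injective H.subtype_injective]
    exact PLocal.coprime_card_pPrimeCore p H
  have hKi : ∀ r : ℕ, r.Prime → r ≠ p → ¬ r ∣ (Cfsg.pPrimeCore p H).index := by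
    intro r hr hrp hdvd
    haveI := Fact.mk hr
    let T : Sylow r H := default
    haveI : (T : Subgroup H).Normal := inferInstance
    have hT : (T : Subgroup H) ≤ Cfsg.pPrimeCore p H := by
      obtain ⟨k, hk⟩ := IsPGroup.iff_card.1 T.isPGroup'
      exact PLocal.le_pPrimeCore (by rw [hk]; exact ((Nat.coprime_primes hr hp).2 hrp).pow_left k)
    exact T.not_dvd_index (hdvd.trans (index_dvd_of_le hT))
  have hKHall : (Nat.card K).Coprime K.index := by
    rw [hK, index_map_subtype, ← hK, Nat.coprime_mul_iff_right]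
    refine ⟨Nat.coprime_of_dvd fun r hr h1 h2 => hKi r hr (fun h => ?_) h2,
      hHall.coprime_dvd_left (card_dvd_of_le hKH)⟩
    exact hp.ne_one (Nat.eq_one_of_dvd_coprimes hKc (h ▸ h1) dvd_rfl)
  have hKmem : ∀ z ∈ H, (orderOf z).Coprime p → z ∈ K := by
    intro z hz ho'
    haveI : (Cfsg.pPrimeCore p H).Normal := normal_of_characteristic _
    refine ⟨⟨z, hz⟩, ?_, rfl⟩
    rw [SetLike.mem_coe, ← QuotientGroup.eq_one_iff, ← orderOf_eq_one_iff]
    refine Nat.eq_one_iff_not_exists_prime_dvd.2 fun r hr hd' => ?_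
    refine hKi r hr (fun h => ?_) (index_eq_card (Cfsg.pPrimeCore p H) ▸
      hd'.trans (orderOf_dvd_natCard _))
    have h1 : r ∣ orderOf z :=
      hd'.trans ((orderOf_map_dvd (QuotientGroup.mk' _) (⟨z, hz⟩ : H)).trans
        (Subgroup.orderOf_mk z hz).dvd)
    exact hp.ne_one (Nat.eq_one_of_dvd_coprimes ho' (h ▸ h1) dvd_rfl)
  have hcop : (p ^ e).Coprime d := (hp.coprime_iff_not_dvd.2 hd).pow_left e
  set y := g * x * g⁻¹ with hy
  have hpw : ∀ (k : ℕ) (z : G), z * x ^ k * z⁻¹ = (z * x * z⁻¹) ^ k := fun k z => conj_pow.symm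
  have hoy : orderOf y = p ^ e * d := by
    rw [← hed]; exact orderOf_injective (MulAut.conj g).toMonoidHom (MulAut.conj g).injective x
  have hdiv : ∀ z : G, orderOf z = p ^ e * d → orderOf (z ^ d) ∣ p ^ e := fun z hz => by
    rw [orderOf_dvd_iff_pow_eq_one, ← pow_mul, mul_comm, ← hz, pow_orderOf_eq_one]
  have haQ : x ^ d ∈ Q := hQmem _ (pow_mem hx d) (hdiv x hed)
  have hyQ : y ^ d ∈ Q := hQmem _ (pow_mem hgx d) (hdiv y hoy)
  have hNQ : normalizer (Q : Set G) ≠ ⊤ := by
    refine minSimple_normalizer_ne_top hG ?_ (minSimple_ne_top_of_isPGroup hG P.isPGroup')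
    intro h
    rw [h, mem_bot, ← orderOf_dvd_iff_pow_eq_one, hed] at haQ
    have h1 : p ^ e = 1 := Nat.eq_one_of_dvd_coprimes hcop dvd_rfl ((dvd_mul_right _ _).trans haQ)
    exact hd (by rw [← one_mul d, ← h1, ← hed]; exact hpx)
  -- the `p`-part
  obtain ⟨n, hn', c, hc, hgnc⟩ := sylow_conj_le h36 hG P (Q := zpowers (x ^ d))
    (zpowers_le.2 haQ) (x := g) (by
      rw [MonoidHom.map_zpowers, zpowers_le]
      show g * x ^ d * g⁻¹ ∈ Q
      rwa [hpw d g])
  have hn'' : n * x ^ d * n⁻¹ = y ^ d := by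
    rw [hy, ← hpw d g, hgnc,
      show n * c * x ^ d * (n * c)⁻¹ = n * (c * x ^ d) * c⁻¹ * n⁻¹ by group,
      ← mem_centralizer_iff.1 hc _ (mem_zpowers _)]
    group
  have hHNQ : H ≤ normalizer (Q : Set G) := by
    intro h hh
    exact le_normalizer_map H.subtype (mem_map_of_mem H.subtype
      (show (⟨h, hh⟩ : H) ∈ normalizer ((S : Subgroup H) : Set H) by
        rw [normalizer_eq_top]; exact mem_top _))
  obtain ⟨m, hm, hma⟩ := nilpotentHall_fusion_of_le h36 hG hNQ hHNQ hn hHall (g := n) hn'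
    (pow_mem hx d) (by rw [hn'']; exact pow_mem hgx d)
  rw [hn''] at hma
  set h := m⁻¹ * g with hh
  have hhx : h * x * h⁻¹ = m⁻¹ * y * m := by rw [hh, hy]; group
  have hmy : m⁻¹ * y * m ∈ H := by
    have h1 := (mem_normalizer_iff.1 (inv_mem hm.2) y).1 hgx
    rwa [inv_inv] at h1
  have hha : h * x ^ d * h⁻¹ = x ^ d := by
    rw [hh, show m⁻¹ * g * x ^ d * (m⁻¹ * g)⁻¹ = m⁻¹ * (g * x ^ d * g⁻¹) * m by group, hpw d g,
      ← hy, ← hma]
    group
  by_cases hKb : K = ⊥
  · -- `x` is a `p`-element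
    refine ⟨m, hm.2, ?_⟩
    have hb : (x ^ p ^ e) = 1 := by
      rw [← mem_bot, ← hKb]
      refine hKmem _ (pow_mem hx _) (Nat.Coprime.coprime_dvd_left ?_
        (hp.coprime_iff_not_dvd.2 hd).symm)
      rw [orderOf_dvd_iff_pow_eq_one, ← pow_mul, ← hed, pow_orderOf_eq_one]
    have hd1 : d = 1 := by
      have h1 := orderOf_dvd_of_pow_eq_one hb
      rw [hed] at h1
      exact Nat.eq_one_of_dvd_coprimes hcop ((dvd_mul_left _ _).trans h1) dvd_rfl
    rwa [hd1, pow_one, pow_one] at hma
  have hbo : ∀ z : G, orderOf z = p ^ e * d → (orderOf (z ^ p ^ e)).Coprime p := fun z hz => by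
    refine Nat.Coprime.coprime_dvd_left ?_ (hp.coprime_iff_not_dvd.2 hd).symm
    rw [orderOf_dvd_iff_pow_eq_one, ← pow_mul, ← hz, pow_orderOf_eq_one]
  have hbK : x ^ p ^ e ∈ K := hKmem _ (pow_mem hx _) (hbo x hed)
  have hbK' : h * x ^ p ^ e * h⁻¹ ∈ K := by
    rw [hpw]
    refine hKmem _ (pow_mem (hhx ▸ hmy) _) (hbo _ ?_)
    rw [← hed]; exact orderOf_injective (MulAut.conj h).toMonoidHom (MulAut.conj h).injective x
  -- inside the centralizer of the `p`-part
  have hKC : K ≤ centralizer ({x ^ d} : Set G) := by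
    intro z hz
    refine mem_centralizer_singleton_iff.2 ?_
    refine (NilpotentCover.commute_of_coprime_mem hn (hKH hz) (pow_mem hx d) ?_).eq
    obtain ⟨i, -, hi⟩ := (Nat.dvd_prime_pow hp).1 (hdiv x hed)
    rw [hi]
    exact (hKc.coprime_dvd_left (K.orderOf_dvd_natCard hz)).pow_right i
  have hxd : x ^ d ≠ 1 := fun h1 => by
    rw [← orderOf_dvd_iff_pow_eq_one, hed] at h1
    have h2 : p ^ e = 1 := Nat.eq_one_of_dvd_coprimes hcop dvd_rfl ((dvd_mul_right _ _).trans h1)
    exact hd (by rw [← one_mul d, ← h2, ← hed]; exact hpx)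
  haveI : Group.IsNilpotent K :=
    Group.nilpotent_of_mulEquiv (subgroupOfEquivOfLe hKH)
  obtain ⟨k, hk, hkb⟩ := nilpotentHall_fusion_of_le h36 hG
    (minSimple_centralizer_singleton_ne_top hG hxd) hKC inferInstance hKHall (g := h)
    (mem_centralizer_singleton_iff.2 (mul_inv_eq_iff_eq_mul.1 hha)) hbK hbK'
  have hkx : k * x * k⁻¹ = h * x * h⁻¹ := by
    obtain ⟨u, v, huv⟩ := (Nat.Coprime.isCoprime hcop.symm)
    have hxe : x = (x ^ d) ^ u * (x ^ p ^ e) ^ v := by
      rw [← zpow_natCast x d, ← zpow_natCast x (p ^ e), ← zpow_mul, ← zpow_mul, ← zpow_add,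
        mul_comm (d : ℤ), mul_comm ((p ^ e : ℕ) : ℤ), huv, zpow_one]
    have hka : k * x ^ d * k⁻¹ = h * x ^ d * h⁻¹ := by
      rw [hha, mem_centralizer_singleton_iff.1 hk.1, mul_inv_cancel_right]
    show MulAut.conj k x = MulAut.conj h x
    rw [hxe, map_mul, map_mul, map_zpow, map_zpow, map_zpow, map_zpow]
    simp only [MulAut.conj_apply, hka, hkb]
  have hKne : K ≠ ⊤ := fun h1 =>
    minSimple_ne_top_of_solvable hG (inferInstance : Group.IsSolvable K) h1
  have hHNK : H ≤ normalizer (K : Set G) := by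
    intro z hz
    exact le_normalizer_map H.subtype (mem_map_of_mem H.subtype
      (show (⟨z, hz⟩ : H) ∈ normalizer ((Cfsg.pPrimeCore p H) : Set H) by
        haveI : (Cfsg.pPrimeCore p H).Normal := normal_of_characteristic _
        rw [normalizer_eq_top]; exact mem_top _))
  obtain ⟨m', hm', hm'x⟩ := nilpotentHall_fusion_of_le h36 hG
    (minSimple_normalizer_ne_top hG hKb hKne) hHNK hn hHall (g := k) hk.2 hx
    (by rw [hkx, hhx]; exact hmy)
  refine ⟨m * m', mul_mem hm.2 hm'.2, ?_⟩
  rw [show m * m' * x * (m * m')⁻¹ = m * (m' * x * m'⁻¹) * m⁻¹ by group, hm'x, hkx, hhx]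
  group

end MinimalSimple

end CfsgLib.OddOrder
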